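import Groth.Agent.H54.BCX.Crit
import Groth.Agent.Lib.Cyc.DegK.SuppVanish

/-!
# Consequences of cohomology and base change near a point
-/

set_option autoImplicit false
set_option linter.style.haveILetI false
set_option maxHeartbeats 1000000
universe u

open CategoryTheory Limits AlgebraicGeometry AlgebraicGeometry.Scheme.Modules Opposite TopologicalSpace
open scoped TensorProduct
open Groth.Agent.Lib

namespace Groth.Agent.H54.BCX.Main

noncomputable section

open Crit

attribute [local instance] Pair.overOpen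

variable {X S : Scheme.{u}} {f : X ⟶ S} {F : X.Modules}

theorem exists_affine [IsProper f] [LocallyOfFinitePresentation f] [F.IsQuasicoherent]
    (hfp : CohB1.IsFP F) (hfl : FlatMod.IsFlatOver f F) (s : S) :
    ∃ V : S.Opens, IsAffineOpen V ∧ s ∈ V ∧ Nonempty (Dat f F V) := by
  obtain ⟨V, hV, hs, -⟩ := exists_isAffineOpen_mem_and_subset (U := (⊤ : S.Opens)) (x := s) trivial
  exact ⟨V, hV, hs, nonempty_data f F hfp hfl hV⟩

/-- The fibre cohomology vanishes above the dimension of the fibres. -/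
theorem subsingleton_fiberH [IsProper f] {d : ℕ} (s : S) (hd : topologicalKrullDim (f.fiber s) ≤ d)
    {i : ℕ} (hi : d < i) : Subsingleton (CohIII.fiberH f F s i) := by
  letI := Fibre.overFiber f s
  haveI : IsProper (f.fiberToSpecResidueField s) := MorphismProperty.pullback_snd _ _ ‹IsProper f›
  haveI : IsLocallyNoetherian (f.fiber s) :=
    LocallyOfFiniteType.isLocallyNoetherian (f.fiberToSpecResidueField s)
  haveI : CompactSpace (f.fiber s) :=
    QuasiCompact.compactSpace_of_compactSpace (f.fiberToSpecResidueField s)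
  haveI : AlgebraicGeometry.IsNoetherian (f.fiber s) := ⟨⟩
  refine Cyc.DegK.SuppVanish.subsingleton_HH (D := d) hd _ isClosed_univ
    (d := d) ?_ (Set.subset_univ _) hi
  exact (Topology.IsInducing.subtypeVal.topologicalKrullDim_le).trans hd

variable [F.IsQuasicoherent] [IsProper f] {V : S.Opens}

theorem sp_of_mem {D : Dat f F V} {j j' : ℤ} {a : Γ(S, V)} {y : S} (hy : y ∈ S.basicOpen a) (hj : j' = j + 1)
    (h : Split.IsSplit (Transfer.dl D.L j j') a) : Sp D j y := by
  subst hj
  exact ⟨a, hy, h⟩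

omit [F.IsQuasicoherent] [IsProper f] in
theorem exists_common {D : Dat f F V} {j j' : ℤ} {s : S} (h : Sp D j s) (h' : Sp D j' s) :
    ∃ a : Γ(S, V), s ∈ S.basicOpen a ∧ Split.IsSplit (Transfer.dl D.L j (j + 1)) a ∧
      Split.IsSplit (Transfer.dl D.L j' (j' + 1)) a := by
  obtain ⟨a, ha, h1⟩ := h
  obtain ⟨b, hb, h2⟩ := h'
  exact ⟨a * b, mem_basicOpen_mul ha hb, h1.mul_right b, h2.mul_left a⟩

section Rpush

variable [HasInjectiveResolutions X.Modules] {Δ : RDer.DerivedLES (pushforward f)}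
  (E : CohCmp.SectCmp f Δ)

include E in
/-- Local freeness near a point from two splittings. -/
theorem exists_projective (hV : IsAffineOpen V) (D : Dat f F V) (p : ℕ) {s : S} (h1 : Sp D p s)
    (h2 : Sp D ((p : ℤ) - 1) s) :
    ∃ a : Γ(S, V), s ∈ S.basicOpen a ∧
      Module.Finite Γ(S, S.basicOpen a) Γ((Coh.Rpush f p).obj F, S.basicOpen a) ∧
        Module.Projective Γ(S, S.basicOpen a) Γ((Coh.Rpush f p).obj F, S.basicOpen a) := by
  obtain ⟨a, ha, g1, g2⟩ := exists_common h1 h2
  exact ⟨a, ha, projective_of_split E hV D p a g1 (split_congr D.L rfl (by omega) g2)⟩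

include E in
theorem isFinLocFree_of_sp (p : ℕ)
    (H : ∀ s : S, ∃ (V : S.Opens) (_ : IsAffineOpen V) (D : Dat f F V),
      Sp D p s ∧ Sp D ((p : ℤ) - 1) s) : FlatMod.IsFinLocFree ((Coh.Rpush f p).obj F) := by
  haveI := qcoh_Rpush (f := f) (F := F) p
  refine Modules.AffineSections.isFinLocFree_of_sections fun s => ?_
  obtain ⟨V, hV, D, h1, h2⟩ := H s
  obtain ⟨a, ha, hP⟩ := exists_projective E hV D p h1 h2
  exact ⟨S.basicOpen a, hV.basicOpen a, ha, hP⟩

include E in
theorem isFinLocFree_basicOpen (hV : IsAffineOpen V) (D : Dat f F V) (p : ℕ) (a : Γ(S, V))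
    (h1 : Split.IsSplit (Transfer.dl D.L (p : ℤ) ((p : ℤ) + 1)) a)
    (h2 : Split.IsSplit (Transfer.dl D.L ((p : ℤ) - 1) (p : ℤ)) a) {U : S.Opens}
    (hU : U ≤ S.basicOpen a) :
    FlatMod.IsFinLocFree (((Coh.Rpush f p).obj F).restrict U.ι) := by
  haveI := qcoh_Rpush (f := f) (F := F) p
  refine OpenSec.isFinLocFree_restrict _ fun x hx => ?_
  have hxV : x ∈ V := S.basicOpen_le a (hU hx)
  obtain ⟨b, hbU, hxb⟩ := hV.exists_basicOpen_le (⟨x, hx⟩ : U) hxV
  refine ⟨S.basicOpen (a * b), hV.basicOpen _, mem_basicOpen_mul (hU hx) hxb, ?_,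
    projective_of_split E hV D p (a * b) (h1.mul_right b) (h2.mul_right b)⟩
  rw [Scheme.basicOpen_mul]
  exact inf_le_right.trans hbU

include E in
theorem isZero_restrict_of_vanishing (hfp : CohB1.IsFP F) (hfl : FlatMod.IsFlatOver f F)
    [LocallyOfFinitePresentation f] (p : ℕ) {U : S.Opens}
    (hU : ∀ s ∈ U, Subsingleton (CohIII.fiberH f F s p)) :
    IsZero (((Coh.Rpush f p).obj F).restrict U.ι) := by
  haveI := qcoh_Rpush (f := f) (F := F) p
  refine OpenSec.isZero_restrict _ fun x hx => ?_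
  obtain ⟨V, hV, hxV, ⟨D⟩⟩ := exists_affine hfp hfl x
  obtain ⟨a, ha, -, -, hk⟩ := exists_of_vanishing hV D hxV p (hU x hx)
  obtain ⟨b, hbU, hxb⟩ := hV.exists_basicOpen_le (⟨x, hx⟩ : U) hxV
  refine ⟨S.basicOpen (a * b), hV.basicOpen _, mem_basicOpen_mul ha hxb, ?_,
    subsingleton_of_kill E hV D p (a * b) fun z hz => ?_⟩
  · rw [Scheme.basicOpen_mul]
    exact inf_le_right.trans hbU
  · rw [mul_comm, mul_smul]
    exact Submodule.smul_mem _ _ (hk z hz)

end Rpush

section Rank

variable [LocallyOfFinitePresentation f]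

theorem fdim_compl {A : Type u} [CommRing A] {Q R : Type u} [AddCommGroup Q] [Module A Q]
    [AddCommGroup R] [Module A R] [Module.Finite A R] [Module.Free A R] {d : Q →ₗ[A] R}
    {s : R →ₗ[A] Q} {a : A} (hs : d ∘ₗ s ∘ₗ d = a • d) (x : PrimeSpectrum A) (hx : a ∉ x.asIdeal) :
    FlatCx.Rank.fdim (R ⧸ LinearMap.range d) x +
        FlatCx.Rank.fdim (R ⧸ LinearMap.range (a • LinearMap.id - d ∘ₗ s)) x =
      Module.finrank A R := by
  haveI : Nontrivial A := x.nontrivial
  have h1 := Split.finrank_coker (K := x.asIdeal.ResidueField) d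
  have h2 := Split.finrank_coker (K := x.asIdeal.ResidueField) (a • LinearMap.id - d ∘ₗ s)
  have h3 := Split.finrank_compl (K := x.asIdeal.ResidueField) hs
    (by rwa [Ne, Ideal.algebraMap_residueField_eq_zero])
  have h0 : Module.finrank x.asIdeal.ResidueField (x.asIdeal.ResidueField ⊗[A] R) = Module.finrank A R :=
    Module.finrank_baseChange
  show Module.finrank _ _ + Module.finrank _ _ = _
  omega

theorem isLocallyConstant_of_add {T : Type*} [TopologicalSpace T] {φ ψ : T → ℕ} {n : ℕ}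
    (hφ : UpperSemicontinuous φ) (hψ : UpperSemicontinuous ψ) (h : ∀ t, φ t + ψ t = n) :
    IsLocallyConstant φ := by
  rw [IsLocallyConstant.iff_eventually_eq]
  intro t
  filter_upwards [hφ t (φ t + 1) (Nat.lt_succ_self _), hψ t (ψ t + 1) (Nat.lt_succ_self _)] with y h1 h2
  have := h t
  have := h y
  omega

/-- Split differentials around degree `p` make the fibre dimension locally constant. -/
theorem isLocallyConstant_fiberRank (hV : IsAffineOpen V) (D : Dat f F V) (p : ℕ) (a : Γ(S, V))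
    (h1 : Split.IsSplit (Transfer.dl D.L (p : ℤ) ((p : ℤ) + 1)) a)
    (h2 : Split.IsSplit (Transfer.dl D.L ((p : ℤ) - 1) (p : ℤ)) a) :
    IsLocallyConstant (fun v : ↥(S.basicOpen a) => CohIII.fiberRank f F p v.1) := by
  haveI := fun n => (D.hfree n).1
  haveI := fun n => (D.hfree n).2
  let π : ↥(S.basicOpen a) → PrimeSpectrum Γ(S, V) := fun v =>
    hV.primeIdealOf ⟨v.1, S.basicOpen_le a v.2⟩
  have hπ : Continuous π := hV.isoSpec.hom.continuous.comp
    (continuous_subtype_val.subtype_mk fun v => S.basicOpen_le a v.2)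
  have key : ∀ {i j : ℤ}, Split.IsSplit (Transfer.dl D.L i j) a →
      IsLocallyConstant fun v : ↥(S.basicOpen a) =>
        FlatCx.Rank.fdim ((D.L.X j : Type u) ⧸ LinearMap.range (Transfer.dl D.L i j)) (π v) := by
    intro i j h
    obtain ⟨s, hs⟩ := h
    refine isLocallyConstant_of_add
      ((FlatCx.Rank.upperSemicontinuous_fdim _).comp hπ)
      ((FlatCx.Rank.upperSemicontinuous_fdim
        ((D.L.X j : Type u) ⧸ LinearMap.range (a • LinearMap.id - Transfer.dl D.L i j ∘ₗ s))).comp hπ)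
      fun v => fdim_compl hs (π v) fun hm => ?_
    have := (Fibre.mem_primePt_iff hV (S.basicOpen_le a v.2) a).1 hm
    exact (Scheme.evaluation_eq_zero_iff_notMem_basicOpen _ _ _ _).1 this v.2
  have e : ∀ v, CohIII.fiberRank f F p (v : ↥(S.basicOpen a)).1 +
      Module.finrank Γ(S, V) (D.L.X ((p : ℤ) + 1)) = _ := fun v =>
    Fibre.fiberRank_add f hV (S.basicOpen_le a v.2) F (p := p) (i := (p : ℤ) - 1) (by omega) rfl D
  refine (IsLocallyConstant.iff_eventually_eq _).2 fun t => ?_
  filter_upwards [(key h2).eventually_eq t, (key h1).eventually_eq t] with y e1 e2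
  have := e t
  have := e y
  simp only [π, Fibre.primePt] at *
  omega

/-- Over a reduced base, locally constant fibre dimensions split both differentials. -/
theorem split_of_isReduced [IsReduced S] (hV : IsAffineOpen V) (D : Dat f F V) (p : ℕ)
    (hlc : IsLocallyConstant (CohIII.fiberRank f F p)) :
    Split.IsSplit (Transfer.dl D.L (p : ℤ) ((p : ℤ) + 1)) (1 : Γ(S, V)) ∧
      Split.IsSplit (Transfer.dl D.L ((p : ℤ) - 1) (p : ℤ)) (1 : Γ(S, V)) := by
  haveI := fun n => (D.hfree n).1
  haveI := fun n => (D.hfree n).2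
  let c : ∀ _ _ : ℤ, Type u := fun i j => (D.L.X j : Type u) ⧸ LinearMap.range (Transfer.dl D.L i j)
  let σ : PrimeSpectrum Γ(S, V) → S := fun x => hV.fromSpec x
  have hσ : ∀ x, σ x ∈ V := fun x => hV.opensRange_fromSpec.le ⟨x, rfl⟩
  have hpt : ∀ x, Fibre.primePt hV (hσ x) = x := fun x =>
    hV.fromSpec.isOpenEmbedding.injective (hV.fromSpec_primeIdealOf ⟨σ x, hσ x⟩)
  have e : ∀ x, CohIII.fiberRank f F p (σ x) + Module.finrank Γ(S, V) (D.L.X ((p : ℤ) + 1)) =
      FlatCx.Rank.fdim (c ((p : ℤ) - 1) p) x + FlatCx.Rank.fdim (c p ((p : ℤ) + 1)) x := fun x => by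
    have := Fibre.fiberRank_add f hV (hσ x) F (p := p) (i := (p : ℤ) - 1) (by omega) rfl D
    rwa [hpt x] at this
  have hev : ∀ x, ∀ᶠ y in nhds x,
      FlatCx.Rank.fdim (c ((p : ℤ) - 1) p) y = FlatCx.Rank.fdim (c ((p : ℤ) - 1) p) x ∧
      FlatCx.Rank.fdim (c p ((p : ℤ) + 1)) y = FlatCx.Rank.fdim (c p ((p : ℤ) + 1)) x := fun x => by
    filter_upwards [FlatCx.Rank.upperSemicontinuous_fdim (A := Γ(S, V)) (c ((p : ℤ) - 1) p) x _
        (Nat.lt_succ_self _),
      FlatCx.Rank.upperSemicontinuous_fdim (A := Γ(S, V)) (c p ((p : ℤ) + 1)) x _ (Nat.lt_succ_self _),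
      (hlc.comp_continuous hV.fromSpec.continuous).eventually_eq x] with y e1 e2 e3
    have := e x
    have := e y
    have e3' : CohIII.fiberRank f F p (σ y) = CohIII.fiberRank f F p (σ x) := e3
    constructor <;> omega
  have hspec : ∀ x y : PrimeSpectrum Γ(S, V), x ≤ y →
      FlatCx.Rank.fdim (c ((p : ℤ) - 1) p) x = FlatCx.Rank.fdim (c ((p : ℤ) - 1) p) y ∧
      FlatCx.Rank.fdim (c p ((p : ℤ) + 1)) x = FlatCx.Rank.fdim (c p ((p : ℤ) + 1)) y :=
    fun x y hxy => show _ from
      have h := mem_of_mem_nhds (((PrimeSpectrum.le_iff_specializes x y).1 hxy) (hev y))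
      h
  haveI : ∀ i j, Module.FinitePresentation Γ(S, V) (c i j) := fun i j => by
    haveI := Module.finitePresentation_of_projective Γ(S, V) (D.L.X j)
    refine Module.finitePresentation_of_surjective (LinearMap.range (Transfer.dl D.L i j)).mkQ
      (Submodule.mkQ_surjective _) ?_
    rw [Submodule.ker_mkQ]
    exact Module.Finite.iff_fg.1 inferInstance
  haveI : _root_.IsReduced Γ(S, V) := IsReduced.component_reduced V
  haveI : Module.Flat Γ(S, V) (c ((p : ℤ) - 1) p) :=
    FlatCx.Rank.flat_of_fdim_eq_of_le _ fun x y h => (hspec x y h).1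
  haveI : Module.Flat Γ(S, V) (c p ((p : ℤ) + 1)) :=
    FlatCx.Rank.flat_of_fdim_eq_of_le _ fun x y h => (hspec x y h).2
  haveI h1 : Module.Projective Γ(S, V) (c ((p : ℤ) - 1) p) := Module.Flat.projective_of_finitePresentation
  haveI h2 : Module.Projective Γ(S, V) (c p ((p : ℤ) + 1)) := Module.Flat.projective_of_finitePresentation
  exact ⟨Split.split_of_projective_coker, Split.split_of_projective_coker⟩

end Rank

end

end Groth.Agent.H54.BCX.Main
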