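import Groth.Agent.Lib.CohDelta.Res
import Groth.Agent.Lib.CohDelta.Edge
import Groth.Agent.Lib.ZarCoh.Morph

/-!
# Pullback of classes is the edge map after the unit
-/

set_option autoImplicit false
set_option linter.style.haveILetI false
set_option maxHeartbeats 1000000
universe u

open CategoryTheory CategoryTheory.Limits AlgebraicGeometry TopologicalSpace Opposite
open CategoryTheory.Abelian
open Groth.Agent.Lib.ZarCoh.Basic Groth.Agent.Lib.ZarCoh.Compare Groth.Agent.Lib.CohDelta.Basic
open Groth.Agent.Lib

namespace Groth.Agent.H54.BCX.PushEdge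

variable {X Y : Scheme.{u}} (g : X ⟶ Y)

/-- Pullback of classes is natural in the module. -/
theorem pullMod_natural {M N : Y.Modules} (φ : M ⟶ N) (p : ℕ) (x : Coh.HH Y M p) :
    CohPull.pullMod g N p (CohPull.mapH φ p x) =
      CohPull.mapH ((Scheme.Modules.pullback g).map φ) p (CohPull.pullMod g M p x) := by
  show Sheaf.H.map (CohPull.theta g N) p (CohPull.pullAb g.base (Coh.toAb N) p (Sheaf.H.map (abMap φ) p x)) =
    Sheaf.H.map (abMap ((Scheme.Modules.pullback g).map φ)) p
      (Sheaf.H.map (CohPull.theta g M) p (CohPull.pullAb g.base (Coh.toAb M) p x))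
  refine (congrArg _ (?_ : _ = Sheaf.H.map ((CohPull.inv g.base).map (abMap φ)) p
    (CohPull.pullAb g.base (Coh.toAb M) p x))).trans ?_
  · refine (cmp_comp (CohPull.inv g.base) (CohPull.oneTo g.base) x (Ext.mk₀ (abMap φ)) (add_zero p)).trans ?_
    rw [Ext.mapExactFunctor_mk₀]
    rfl
  · rw [← Sheaf.H.map_comp_apply, CohDelta.Res.theta_natural, Sheaf.H.map_comp_apply]

/-- The pullback is the edge map of the unit. -/
theorem pullMod_eq (M : Y.Modules) (p : ℕ) (x : Coh.HH Y M p) :
    CohPull.pullMod g M p x = CohPull.pushEdge g ((Scheme.Modules.pullback g).obj M) p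
      (CohPull.mapH ((Scheme.Modules.pullbackPushforwardAdjunction g).unit.app M) p x) := by
  show _ = CohPull.mapH ((Scheme.Modules.pullbackPushforwardAdjunction g).counit.app _) p
    (CohPull.pullMod g _ p (CohPull.mapH ((Scheme.Modules.pullbackPushforwardAdjunction g).unit.app M) p x))
  refine Eq.trans ?_ (congrArg _ (pullMod_natural g _ p x)).symm
  refine Eq.trans ?_ (Sheaf.H.map_comp_apply _ _ _)
  refine (Sheaf.H.map_id_apply _).symm.trans (congrArg (fun t => Sheaf.H.map t p _) ?_)
  exact ((abF X).map_id _).symm.trans ((congrArg (abF X).map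
    ((Scheme.Modules.pullbackPushforwardAdjunction g).left_triangle_components M).symm).trans
    ((abF X).map_comp _ _))

/-- The edge map along an affine morphism is bijective on quasi-coherent modules. -/
theorem pushEdge_bijective [IsAffineHom g] (G : X.Modules) [G.IsQuasicoherent] (p : ℕ) :
    Function.Bijective (CohPull.pushEdge g G p) :=
  CohDelta.Edge.pushEdge_bijective_of g G p
    (Groth.Agent.Lib.ZarCoh.PushH.pushH_bijective g.base (Groth.Agent.Lib.ZarCoh.Morph.affineBasis Y) (Coh.toAb G)
      (fun W hW q => Groth.Agent.Lib.ZarCoh.Morph.van_affine g G W hW q) p)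

/-- The edge map is linear over the functions upstairs. -/
theorem pushEdge_smulAb (G : X.Modules) (r : Coh.Γtop X) (p : ℕ)
    (y : Coh.HH Y ((Scheme.Modules.pushforward g).obj G) p) :
    CohPull.pushEdge g G p (Sheaf.H.map ((CohTop.push g.base).map (Coh.smulAb G r)) p y) =
      r • CohPull.pushEdge g G p y := by
  rw [CohDelta.Edge.pushEdge_eq, CohDelta.Edge.pushEdge_eq]
  exact Groth.Agent.Lib.ZarCoh.PushH.pushH_natural g.base (Coh.smulAb G r) p y

end Groth.Agent.H54.BCX.PushEdge
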