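import Groth.Agent.H54.BCX.PushEdge
import Groth.Agent.Lib.CohDelta.BC.EpsV
import Groth.Agent.Lib.CohDelta.BC.PullOn
import Groth.Agent.Lib.CohDelta.BC.Transpose
import Groth.Agent.Lib.CohDelta.BC.Affine
import Groth.Agent.S0030

/-!
# The base change map over a pair of affine opens
-/

set_option autoImplicit false
set_option linter.style.haveILetI false
set_option maxHeartbeats 1000000
universe u

open CategoryTheory CategoryTheory.Limits AlgebraicGeometry AlgebraicGeometry.Scheme.Modules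
open TopologicalSpace Opposite
open CategoryTheory.Abelian
open Groth.Agent.Lib Groth.Agent.Lib.ZarCoh.Basic Groth.Agent.Lib.ZarCoh.Compare
open Groth.Agent.Lib.CohDelta.Basic
open scoped TensorProduct

namespace Groth.Agent.H54.BCX.Affine

noncomputable section

theorem smulAb_unit {X' X : Scheme.{u}} (g : X' ⟶ X) (M : X.Modules) (r : Coh.Γtop X) :
    Coh.smulAb M r ≫ abMap ((pullbackPushforwardAdjunction g).unit.app M) =
      abMap ((pullbackPushforwardAdjunction g).unit.app M) ≫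
        (CohTop.push g.base).map (Coh.smulAb ((Scheme.Modules.pullback g).obj M) (g.appTop r)) := by
  refine Sheaf.hom_ext (NatTrans.ext (funext fun O ↦ ?_))
  refine AddCommGrpCat.hom_ext (AddMonoidHom.ext fun m ↦ ?_)
  refine (((pullbackPushforwardAdjunction g).unit.app M).app_smul _ _).trans ?_
  refine congrArg (fun k : Γ(X', g ⁻¹ᵁ O.unop) ↦ k •
    (show Γ((Scheme.Modules.pullback g).obj M, g ⁻¹ᵁ O.unop) from _)) ?_
  exact ConcreteCategory.congr_hom (g.naturality (homOfLE (le_top (a := O.unop))).op) r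

/-- Pullback of classes is semilinear. -/
theorem pullMod_smul {X' X : Scheme.{u}} (g : X' ⟶ X) (M : X.Modules) (p : ℕ) (r : Coh.Γtop X)
    (x : Coh.HH X M p) :
    CohPull.pullMod g M p (r • x) = (g.appTop r : Coh.Γtop X') • CohPull.pullMod g M p x := by
  rw [PushEdge.pullMod_eq, PushEdge.pullMod_eq]
  refine Eq.trans ?_ (PushEdge.pushEdge_smulAb g ((Scheme.Modules.pullback g).obj M) (g.appTop r) p _)
  refine congrArg (CohPull.pushEdge g ((Scheme.Modules.pullback g).obj M) p) ?_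
  show Sheaf.H.map (abMap ((pullbackPushforwardAdjunction g).unit.app M)) p
      (Sheaf.H.map (Coh.smulAb M r) p x) = _
  refine (Sheaf.H.map_comp_apply _ _ x).symm.trans ?_
  rw [smulAb_unit]
  exact Sheaf.H.map_comp_apply _ _ x

section Eps

variable {X S : Scheme.{u}} (f : X ⟶ S) [HasInjectiveResolutions X.Modules]
  {Δ : RDer.DerivedLES (pushforward f)} (E : CohCmp.SectCmp f Δ) (V : S.Opens)

/-- The structure map of the preimage of an affine open. -/
abbrev p₀ : ((f ⁻¹ᵁ V : X.Opens) : Scheme.{u}) ⟶ Spec (CommRingCat.of Γ(S, V)) :=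
  (f ∣_ V) ≫ V.toSpecΓ

theorem toGlobal_p₀ (a : Γ(S, V)) :
    Coh.toGlobal (A := Γ(S, V)) (p₀ f V) a =
      CohDelta.Glue.pb (f ∣_ V) (S.presheaf.map (homOfLE V.ι_image_top.le).op a) := by
  show (f ∣_ V).appTop (V.toSpecΓ.appTop ((Scheme.ΓSpecIso Γ(S, V)).inv a)) = _
  refine congrArg (f ∣_ V).appTop ?_
  rw [Scheme.Opens.toSpecΓ_appTop, ConcreteCategory.comp_apply]
  have := congr($((Scheme.ΓSpecIso Γ(S, V)).inv_hom_id) a)
  refine (congrArg V.topIso.inv this).trans ?_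
  rw [Scheme.Opens.topIso_inv]
  rfl

theorem εV_hTop (F : X.Modules) (p : ℕ) (y : Coh.HHon X F (f ⁻¹ᵁ V) p) :
    CohDelta.BC.EpsV.εV E V p F (hTop (Coh.toAb (F.restrict (f ⁻¹ᵁ V).ι)) p y) =
      ((Coh.Rpush f p).obj F).presheaf.map (homOfLE V.ι_image_top.le).op (E.ε V F p y) := by
  refine Eq.trans ?_ (congrArg _ (CohDelta.Sect.eps_hU E V F p y))
  refine Eq.trans ?_ (CohDelta.Sect.eps_res E p F V.ι_image_top.le _)
  refine congrArg (CohDelta.Sect.eps E (V.ι ''ᵁ ⊤) F p) ?_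
  refine Eq.trans ?_ (CohDelta.Bridge.alpha_rs (T := CohDelta.QCohR.TT f V) (CohDelta.QCohR.emb f V)
    (Coh.toAb F) p (V' := (f ∣_ V) ⁻¹ᵁ ⊤) (V := ⊤) le_top (f ⁻¹ᵁ V).ι_image_top
    (image_morphismRestrict_preimage f V ⊤) (f.preimage_mono V.ι_image_top.le) _)
  exact congrArg (CohDelta.Bridge.alpha (T := CohDelta.QCohR.TT f V) (CohDelta.QCohR.emb f V)
    (Coh.toAb F) p (image_morphismRestrict_preimage f V ⊤))
    (CohDelta.Loc.rs_eq_self (F.restrict (f ⁻¹ᵁ V).ι) le_rfl _).symm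

theorem res_bijective (R : S.Modules) :
    Function.Bijective (R.presheaf.map (homOfLE V.ι_image_top.le).op) := by
  have : homOfLE V.ι_image_top.le = eqToHom V.ι_image_top := Subsingleton.elim _ _
  rw [this]
  exact ConcreteCategory.bijective_of_isIso _

/-- The comparison over an affine open is bijective. -/
theorem ε_bijective [QuasiCompact f] [QuasiSeparated f] (F : X.Modules) [F.IsQuasicoherent]
    (hV : IsAffineOpen V) (p : ℕ) : Function.Bijective (E.ε V F p) := by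
  refine (Function.Bijective.of_comp_iff' (res_bijective V ((Coh.Rpush f p).obj F)) _).1 ?_
  rw [show (⇑(((Coh.Rpush f p).obj F).presheaf.map (homOfLE V.ι_image_top.le).op) ∘ ⇑(E.ε V F p)) =
    ⇑(CohDelta.BC.EpsV.εV E V p F) ∘ ⇑(hTop (Coh.toAb (F.restrict (f ⁻¹ᵁ V).ι)) p) from
      funext fun y => (εV_hTop f E V F p y).symm]
  exact (CohDelta.BC.EpsV.bijective E V p F hV).comp (AddEquiv.bijective _)

/-- The comparison is linear over the functions of the open. -/
theorem ε_smul (F : X.Modules) (p : ℕ) (a : Γ(S, V)) (y : Coh.HHon X F (f ⁻¹ᵁ V) p) :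
    E.ε V F p ((Coh.toGlobal (A := Γ(S, V)) (p₀ f V) a : Coh.Γtop ((f ⁻¹ᵁ V : X.Opens) : Scheme.{u})) • y) =
      a • E.ε V F p y := by
  apply (res_bijective V ((Coh.Rpush f p).obj F)).1
  refine (εV_hTop f E V F p _).symm.trans ?_
  refine Eq.trans ?_ (((Coh.Rpush f p).obj F).map_smul (homOfLE V.ι_image_top.le) a _).symm
  refine Eq.trans ?_ (congrArg (fun k => S.presheaf.map (homOfLE V.ι_image_top.le).op a • k)
    (εV_hTop f E V F p y))
  refine Eq.trans ?_ (CohDelta.BC.EpsV.εV_smul E V p (S.presheaf.map (homOfLE V.ι_image_top.le).op a) F _)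
  refine congrArg (CohDelta.BC.EpsV.εV E V p F) ?_
  rw [toGlobal_p₀]
  exact hTop_comp y (Ext.mk₀ (Coh.smulAb (F.restrict (f ⁻¹ᵁ V).ι) _)) (add_zero p)

end Eps

section Key

variable {X S X' S' : Scheme.{u}} {f : X ⟶ S} {g : S' ⟶ S} {f' : X' ⟶ S'} {g' : X' ⟶ X}
  {w : g' ≫ f = f' ≫ g} [HasInjectiveResolutions X.Modules] [HasInjectiveResolutions X'.Modules]
  {Δ : RDer.DerivedLES (pushforward f)} {Δ' : RDer.DerivedLES (pushforward f')}
  {E : CohCmp.SectCmp f Δ} {E' : CohCmp.SectCmp f' Δ'}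
  (B : CohCmp.GenBC f g f' g' w E E') {V : S.Opens} {W : S'.Opens} (e : W ≤ g ⁻¹ᵁ V)

include w e in
theorem preimage_le : f' ⁻¹ᵁ W ≤ g' ⁻¹ᵁ (f ⁻¹ᵁ V) :=
  (f'.preimage_mono e).trans (CohCmp.sqLE f g f' g' w V)

/-- The base change map on classes over opens. -/
theorem φ_ε (F : X.Modules) (p : ℕ) (y : Coh.HHon X F (f ⁻¹ᵁ V) p) :
    ((Coh.Rpush f' p).obj ((Scheme.Modules.pullback g').obj F)).presheaf.map (homOfLE e).op
        ((B.φ p F).app V (E.ε V F p y)) =
      E'.ε W ((Scheme.Modules.pullback g').obj F) p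
        (CohPull.pullOn g' (f ⁻¹ᵁ V) (f' ⁻¹ᵁ W) (preimage_le (w := w) e) F p y) := by
  let G := (Scheme.Modules.pullback g').obj F
  refine (congrArg _ ((B.compat V F p y).trans (CohDelta.Sect.eps_hU E' (g ⁻¹ᵁ V) G p _).symm)).trans ?_
  refine (CohDelta.Sect.eps_res E' p G e _).symm.trans ?_
  refine Eq.trans ?_ (CohDelta.Sect.eps_hU E' W G p _)
  refine congrArg (CohDelta.Sect.eps E' W G p) ?_
  rw [CohDelta.BC.PullOn.hU_pullOn, CohDelta.BC.PullOn.hU_pullOn]
  exact CohDelta.Loc.rs_rs G _ _ _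

/-- The base change map on pulled back classes. -/
theorem bc_pbRes (F : X.Modules) (p : ℕ) (y : Coh.HHon X F (f ⁻¹ᵁ V) p) :
    (B.bc p F).app W (_root_.ZarCoh.FlatBC.PullbackSections.pbRes g ((Coh.Rpush f p).obj F) e
        (E.ε V F p y)) =
      E'.ε W ((Scheme.Modules.pullback g').obj F) p
        (CohPull.pullOn g' (f ⁻¹ᵁ V) (f' ⁻¹ᵁ W) (preimage_le (w := w) e) F p y) :=
  (CohDelta.BC.Transpose.transpose_pbRes g (B.φ p F) e _).trans (φ_ε B e F p y)

/-- The identification of pullbacks is linear over global functions upstairs. -/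
theorem mapH_pullOnIso_smul {U : X.Opens} {U' : X'.Opens} (h : U' ≤ g' ⁻¹ᵁ U) (F : X.Modules)
    (p : ℕ) (r : Coh.Γtop (U' : Scheme.{u}))
    (x : Coh.HH (U' : Scheme.{u}) ((Scheme.Modules.pullback (g'.resLE U U' h)).obj (F.restrict U.ι)) p) :
    CohPull.mapH (CohPull.pullOnIso g' U U' h F).hom p (r • x) =
      r • CohPull.mapH (CohPull.pullOnIso g' U U' h F).hom p x := by
  show Sheaf.H.map (abMap (CohPull.pullOnIso g' U U' h F).hom) p (Sheaf.H.map (Coh.smulAb _ r) p x) =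
    Sheaf.H.map (Coh.smulAb _ r) p (Sheaf.H.map (abMap (CohPull.pullOnIso g' U U' h F).hom) p x)
  rw [← Sheaf.H.map_comp_apply, CohDelta.BC.Affine.smulAb_natural, Sheaf.H.map_comp_apply]

theorem mapH_bijective {Y : Scheme.{u}} {M N : Y.Modules} (e : M ≅ N) (p : ℕ) :
    Function.Bijective (CohPull.mapH e.hom p) :=
  CohDelta.BC.Affine.bijective_postcomp (abMap e.hom) p

end Key

end

end Groth.Agent.H54.BCX.Affine
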