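import Groth.Agent.Lib.CohDelta.BC.Along

/-!
# Classes along a composition
-/

set_option autoImplicit false
set_option linter.style.haveILetI false
set_option maxHeartbeats 1000000

universe u

open CategoryTheory CategoryTheory.Limits TopologicalSpace Opposite CategoryTheory.Abelian
open Groth.Agent.Lib Groth.Agent.Lib.ZarCoh.Basic Groth.Agent.Lib.ZarCoh.Compare

namespace Groth.Agent.H54.BCX.AlongComp

variable {X Y Z : TopCat.{u}} (f : X ⟶ Y) (g : Y ⟶ Z)

theorem exists_comp_extClass {T : TopCat.{u}} (F : CohTop.Ab T) (n : ℕ) {V : Opens T}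
    (x : Ext.{u} (Zs.obj V) F (n + 1)) :
    ∃ z : Ext.{u} (Zs.obj V) (injSES F).X₃ n, z.comp (injSES_shortExact F).extClass rfl = x :=
  Ext.covariant_sequence_exact₁ _ (injSES_shortExact F) x (Ext.eq_zero_of_injective _) (n₀ := n) rfl

/-- Classes along maps commute with restriction. -/
theorem along_rs : ∀ (n : ℕ) {F : CohTop.Ab Z} {G : CohTop.Ab Y} (τ : F ⟶ (CohTop.push g).obj G)
    {V W : Opens Z} (h : W ≤ V) (h' : (Opens.map g).obj W ≤ (Opens.map g).obj V)
    (x : Ext.{u} (Zs.obj V) F n),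
    CohDelta.BC.PushCls.along g W τ n (rs F n h x) =
      rs G n h' (CohDelta.BC.PushCls.along g V τ n x) := by
  intro n
  induction n with
  | zero =>
    intro F G τ V W h h' x
    obtain ⟨a, rfl⟩ := (Ext.mk₀_bijective _ _).2 x
    rw [rs_mk₀, CohDelta.BC.PushCls.along_mk₀, CohDelta.BC.PushCls.along_mk₀, rs_mk₀]
    congr 1
    apply (homEquiv _ G).injective
    rw [Equiv.apply_symm_apply, homEquiv_res, homEquiv_res]
    refine (τ.hom.naturality_apply (homOfLE h).op (homEquiv V F a)).trans ?_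
    exact (congrArg (fun k ↦ G.obj.map (homOfLE h').op k)
      (Equiv.apply_symm_apply (homEquiv _ G) _)).symm
  | succ n ih =>
    intro F G τ V W h h' x
    obtain ⟨τ₂, τ₃, h₁₂, h₂₃⟩ := CohDelta.BC.Along.exists_extend g τ
    obtain ⟨z, rfl⟩ := exists_comp_extClass F n x
    refine (congrArg (CohDelta.BC.PushCls.along g W τ (n + 1))
      (rs_comp n rfl h z (injSES_shortExact F).extClass)).trans ?_
    refine (CohDelta.BC.PushCls.along_δ g W (injSES_shortExact F) (injSES_shortExact G) τ τ₂ τ₃ h₁₂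
      h₂₃ n _).trans ?_
    rw [ih τ₃ h h' z]
    refine (rs_comp n rfl h' _ (injSES_shortExact G).extClass).symm.trans ?_
    exact congrArg (rs G (n + 1) h') (CohDelta.BC.PushCls.along_δ g V (injSES_shortExact F)
      (injSES_shortExact G) τ τ₂ τ₃ h₁₂ h₂₃ n z).symm

/-- Classes along a composition. -/
theorem along_comp : ∀ (n : ℕ) {F : CohTop.Ab Z} {G : CohTop.Ab Y} {H : CohTop.Ab X}
    (τ : F ⟶ (CohTop.push g).obj G) (σ : G ⟶ (CohTop.push f).obj H) (V : Opens Z)
    (x : Ext.{u} (Zs.obj V) F n),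
    CohDelta.BC.PushCls.along f ((Opens.map g).obj V) σ n (CohDelta.BC.PushCls.along g V τ n x) =
      CohDelta.BC.PushCls.along (f ≫ g) V
        (τ ≫ (CohTop.push g).map σ : F ⟶ (CohTop.push (f ≫ g)).obj H) n x := by
  intro n
  induction n with
  | zero =>
    intro F G H τ σ V x
    obtain ⟨a, rfl⟩ := (Ext.mk₀_bijective _ _).2 x
    rw [CohDelta.BC.PushCls.along_mk₀, CohDelta.BC.PushCls.along_mk₀,
      CohDelta.BC.PushCls.along_mk₀, Equiv.apply_symm_apply]
    rfl
  | succ n ih =>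
    intro F G H τ σ V x
    obtain ⟨τ₂, τ₃, h₁₂, h₂₃⟩ := CohDelta.BC.Along.exists_extend g τ
    obtain ⟨σ₂, σ₃, g₁₂, g₂₃⟩ := CohDelta.BC.Along.exists_extend f σ
    obtain ⟨z, rfl⟩ := exists_comp_extClass F n x
    have hS := injSES_shortExact F
    have hT := injSES_shortExact G
    have hU := injSES_shortExact H
    rw [CohDelta.BC.PushCls.along_δ g V hS hT τ τ₂ τ₃ h₁₂ h₂₃ n z,
      CohDelta.BC.PushCls.along_δ f ((Opens.map g).obj V) hT hU σ σ₂ σ₃ g₁₂ g₂₃ n _, ih τ₃ σ₃ V z]
    refine (CohDelta.BC.PushCls.along_δ (f ≫ g) V hS hU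
      (τ ≫ (CohTop.push g).map σ) (τ₂ ≫ (CohTop.push g).map σ₂) (τ₃ ≫ (CohTop.push g).map σ₃)
      ?_ ?_ n z).symm
    · show (τ ≫ (CohTop.push g).map σ) ≫ (CohTop.push g).map ((CohTop.push f).map (injSES H).f) = _
      rw [Category.assoc, ← Functor.map_comp, g₁₂, Functor.map_comp, ← Category.assoc, h₁₂,
        Category.assoc]
      rfl
    · show (τ₂ ≫ (CohTop.push g).map σ₂) ≫ (CohTop.push g).map ((CohTop.push f).map (injSES H).g) = _
      rw [Category.assoc, ← Functor.map_comp, g₂₃, Functor.map_comp, ← Category.assoc, h₂₃,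
        Category.assoc]
      rfl

end Groth.Agent.H54.BCX.AlongComp
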