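import Groth.Agent.Lib.Exchange.Compare

/-!
# Cohomology classes of cocycles of the Cech complex over the base ring
-/

set_option autoImplicit false
set_option linter.style.haveILetI false
universe u

open CategoryTheory Limits AlgebraicGeometry Opposite TopologicalSpace
open Groth.Agent.Lib
open Groth.Agent.Lib.CechRes.Sec (rho secA resA toSec ofSec)
open Groth.Agent.Lib.Cech.Complex (inter Cochain dC)
open ZarCoh.Exchange.Complex

namespace Groth.Agent.H54.BCX.Cech

noncomputable section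

variable (A : Type u) [CommRing A] {X : Scheme.{u}} [X.Over (Spec (CommRingCat.of A))]
  {ι : Type u} (U : ι → X.Opens)

local notation "pX" => (X ↘ Spec (CommRingCat.of A))

section Sheaf

variable {A}
variable {U} {p : ℕ}

/-- The class in sheaf cohomology of a cocycle of an abelian sheaf. -/
def shCls (Cmp : ProjCoh.CechNat.Comparison U p) (G : CohTop.Ab X.toPresheafedSpace.carrier)
    (hG : Cech.Compare.InterAcyclic U G) (c : Cochain U G.obj p) (hc : dC U G.obj p c = 0) :
    CohTop.H G p :=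
  (Cmp.e G hG).hom (ProjCoh.CechNat.cls G.obj c hc)

theorem shCls_congr (Cmp : ProjCoh.CechNat.Comparison U p) (G : CohTop.Ab X.toPresheafedSpace.carrier)
    (hG : Cech.Compare.InterAcyclic U G) {c c' : Cochain U G.obj p} (h : c = c')
    (hc : dC U G.obj p c = 0) (hc' : dC U G.obj p c' = 0) :
    shCls Cmp G hG c hc = shCls Cmp G hG c' hc' := by
  subst h; rfl

theorem shCls_add (Cmp : ProjCoh.CechNat.Comparison U p) (G : CohTop.Ab X.toPresheafedSpace.carrier)
    (hG : Cech.Compare.InterAcyclic U G) (c c' : Cochain U G.obj p) (hc : dC U G.obj p c = 0)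
    (hc' : dC U G.obj p c' = 0) :
    shCls Cmp G hG (c + c') (by rw [map_add, hc, hc', add_zero]) =
      shCls Cmp G hG c hc + shCls Cmp G hG c' hc' :=
  (congrArg (Cmp.e G hG).hom (ProjCoh.CechNat.cls_add G.obj c c' hc hc')).trans (map_add _ _ _)

theorem shCls_map (Cmp : ProjCoh.CechNat.Comparison U p) {G G' : CohTop.Ab X.toPresheafedSpace.carrier}
    (hG : Cech.Compare.InterAcyclic U G) (hG' : Cech.Compare.InterAcyclic U G') (α : G ⟶ G')
    (c : Cochain U G.obj p) (hc : dC U G.obj p c = 0) :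
    Sheaf.H.map α p (shCls Cmp G hG c hc) =
      shCls Cmp G' hG' (Cech.Complex.map α.hom p c) (by rw [← Cech.Complex.map_dC, hc, map_zero]) := by
  refine (ConcreteCategory.congr_hom (Cmp.nat G G' α hG hG') (ProjCoh.CechNat.cls G.obj c hc)).trans ?_
  exact congrArg (Cmp.e G' hG').hom (ProjCoh.CechNat.cls_map G.obj α.hom c hc)

theorem shCls_surjective (Cmp : ProjCoh.CechNat.Comparison U p) (G : CohTop.Ab X.toPresheafedSpace.carrier)
    (hG : Cech.Compare.InterAcyclic U G) (x : CohTop.H G p) :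
    ∃ c hc, shCls Cmp G hG c hc = x := by
  obtain ⟨z, rfl⟩ := (ConcreteCategory.bijective_of_isIso (Cmp.e G hG).hom).2 x
  obtain ⟨c, hc, rfl⟩ := ProjCoh.CechNat.cls_surjective G.obj z
  exact ⟨c, hc, rfl⟩

theorem shCls_eq_zero_iff_zero (Cmp : ProjCoh.CechNat.Comparison U 0) (G : CohTop.Ab X.toPresheafedSpace.carrier)
    (hG : Cech.Compare.InterAcyclic U G) (c : Cochain U G.obj 0) (hc : dC U G.obj 0 c = 0) :
    shCls Cmp G hG c hc = 0 ↔ c = 0 := by
  constructor
  · intro h
    exact ZarCoh.Exchange.Compare.cls_zero_eq_zero U c hc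
      ((ConcreteCategory.bijective_of_isIso (Cmp.e G hG).hom).1 (h.trans (map_zero _).symm))
  · intro h
    subst h
    have h2 := shCls_add Cmp G hG 0 0 hc hc
    rw [shCls_congr Cmp G hG (add_zero (0 : Cochain U G.obj 0)) _ hc, eq_comm, add_eq_left] at h2
    exact h2

theorem shCls_eq_zero_iff_succ (Cmp : ProjCoh.CechNat.Comparison U (p + 1))
    (G : CohTop.Ab X.toPresheafedSpace.carrier)
    (hG : Cech.Compare.InterAcyclic U G) (c : Cochain U G.obj (p + 1)) (hc : dC U G.obj (p + 1) c = 0) :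
    shCls Cmp G hG c hc = 0 ↔ ∃ b, dC U G.obj p b = c := by
  constructor
  · intro h
    exact ProjCoh.CechNat.exists_of_cls_eq_zero G.obj c hc
      ((ConcreteCategory.bijective_of_isIso (Cmp.e G hG).hom).1 (h.trans (map_zero _).symm))
  · rintro ⟨b, rfl⟩
    exact (congrArg (Cmp.e G hG).hom (ProjCoh.CechNat.cls_eq_zero_of G.obj b)).trans (map_zero _)

end Sheaf

/-- The global functions act on cochains through the base. -/
theorem map_smulAb (F : X.Modules) (a : A) (q : ℕ) (c : CM A U F q) :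
    Groth.Agent.Lib.Cech.Complex.map (Coh.smulAb F (Coh.toGlobal pX a)).hom q c = (a • c : CM A U F q) := by
  funext i
  rw [Groth.Agent.Lib.Cech.Complex.map_apply]
  exact (Coh.smulAb_app F (Coh.toGlobal pX a) (op (inter U i)) (c i)).trans rfl

variable {A U}

theorem C_d_apply (F : X.Modules) (q : ℕ) (z : CM A U F q) :
    ((C A U F).d (q : ℤ) ((q + 1 : ℕ) : ℤ)).hom z = dC U (Coh.toAb F).obj q z := by
  rw [C_d]
  exact dA_eq A U F q z

variable (F : X.Modules) [F.IsQuasicoherent]
  (hU : ∀ {q : ℕ} (i : Fin (q + 1) → ι), IsAffineOpen (inter U i))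

include hU in
theorem interAcyclic : Groth.Agent.Lib.Cech.Compare.InterAcyclic U (Coh.toAb F) := fun q i n =>
  Groth.Agent.Lib.ZarCoh.Affine.HU_subsingleton F (hU i) n

variable {p : ℕ} (Cmp : ProjCoh.CechNat.Comparison U p) {i k : ℤ} (hk : (p : ℤ) + 1 = k)

include hk in
theorem cocycle (z : LinearMap.ker ((C A U F).d (p : ℤ) k).hom) :
    dC U (Coh.toAb F).obj p (show CM A U F p from z.1) = 0 := by
  obtain rfl : k = ((p + 1 : ℕ) : ℤ) := by omega
  exact (C_d_apply F p z.1).symm.trans z.2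

/-- The class of a cocycle. -/
def ecls : LinearMap.ker ((C A U F).d (p : ℤ) k).hom →ₗ[A] Coh.HH X F p where
  toFun z := shCls Cmp (Coh.toAb F) (interAcyclic F hU) (show CM A U F p from z.1) (cocycle F hk z)
  map_add' z z' := shCls_add Cmp _ _ _ _ (cocycle F hk z) (cocycle F hk z')
  map_smul' a z := by
    refine Eq.trans (shCls_congr Cmp _ _ (map_smulAb A U F a p z.1).symm _ ?_)
      (shCls_map Cmp (interAcyclic F hU) (interAcyclic F hU) (Coh.smulAb F (Coh.toGlobal pX a)) _
        (cocycle F hk z)).symm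
    rw [← Groth.Agent.Lib.Cech.Complex.map_dC, cocycle F hk z, map_zero]

theorem ecls_surjective : Function.Surjective (ecls (A := A) F hU Cmp hk) := fun x => by
  obtain rfl : k = ((p + 1 : ℕ) : ℤ) := by omega
  obtain ⟨c, hc, rfl⟩ := shCls_surjective Cmp (Coh.toAb F) (interAcyclic F hU) x
  exact ⟨⟨show CM A U F p from c, (C_d_apply F p c).trans hc⟩, rfl⟩

theorem ecls_eq_zero_iff (hi : i + 1 = (p : ℤ)) (z : LinearMap.ker ((C A U F).d (p : ℤ) k).hom) :
    ecls F hU Cmp hk z = 0 ↔ z.1 ∈ LinearMap.range ((C A U F).d i (p : ℤ)).hom := by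
  cases p with
  | zero =>
    obtain rfl : i = Int.negSucc 0 := by omega
    refine (shCls_eq_zero_iff_zero Cmp _ _ _ (cocycle F hk z)).trans ⟨fun h => ⟨0, ?_⟩, fun ⟨y, hy⟩ => ?_⟩
    · rw [map_zero]; exact h.symm
    · haveI : Subsingleton ((C A U F).X (Int.negSucc 0)) :=
        ModuleCat.subsingleton_of_isZero (isZero_C A U F _ (Int.negSucc_lt_zero 0))
      show z.1 = 0
      rw [← hy, Subsingleton.elim y 0, map_zero]
  | succ q =>
    obtain rfl : i = ((q : ℕ) : ℤ) := by omega
    refine (shCls_eq_zero_iff_succ Cmp _ _ _ (cocycle F hk z)).trans ⟨fun ⟨b, hb⟩ => ⟨show CM A U F q from b, ?_⟩,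
      fun ⟨y, hy⟩ => ⟨show CM A U F q from y, ?_⟩⟩
    · exact (C_d_apply F q b).trans hb
    · exact (C_d_apply F q y).symm.trans hy

end

end Groth.Agent.H54.BCX.Cech
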