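import Groth.Agent.H54.BCX.Model
import Groth.Agent.H47.NoethModule
import Groth.Agent.Lib.Lim.Valuative
import Groth.Agent.H2.Rigid.SubDiagram

/-!
# Models exist for proper morphisms of finite presentation and flat finitely presented modules
-/

set_option autoImplicit false
set_option linter.style.haveILetI false
universe u

open CategoryTheory Limits AlgebraicGeometry Opposite TopologicalSpace
open Groth.Agent.Lib
open Groth.Agent.H2.Rigid

namespace Groth.Agent.H54.BCX.Descend

/-- A finite free complex universally computing the Cech complex exists. -/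
theorem nonempty_data {A : Type u} [CommRing A] {X : Scheme.{u}}
    [X.Over (Spec (CommRingCat.of A))] [IsProper (X ↘ Spec (CommRingCat.of A))]
    [LocallyOfFinitePresentation (X ↘ Spec (CommRingCat.of A))] (F : X.Modules) [F.IsQuasicoherent]
    (hfp : CohB1.IsFP F) (hfl : FlatMod.IsFlatOver (X ↘ Spec (CommRingCat.of A)) F) :
    Nonempty (Model.Data A F) := by
  let B : CommRingCat.{u} := CommRingCat.of A
  let D := SubDiagram.diagram B
  let c := SubDiagram.cone B
  have hc : IsLimit c := SubDiagram.isLimitCone B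
  haveI : ∀ i, IsAffine (D.obj i) := fun i => SubDiagram.isAffine_obj B i
  haveI : ∀ (i j : (Finset B)ᵒᵖ) (g : i ⟶ j), IsAffineHom (D.map g) := fun i j g =>
    SubDiagram.isAffineHom_map B g
  let f : X ⟶ c.pt := X ↘ Spec (CommRingCat.of A)
  haveI : LocallyOfFinitePresentation f := inferInstanceAs (LocallyOfFinitePresentation (X ↘ Spec (CommRingCat.of A)))
  haveI : CompactSpace X := QuasiCompact.compactSpace_of_compactSpace (X ↘ Spec (CommRingCat.of A))
  haveI : QuasiSeparatedSpace X :=
    quasiSeparatedSpace_of_quasiSeparated (X ↘ Spec (CommRingCat.of A))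
  obtain ⟨i, X₀, f₀, hlft, hqc, F₀, hcoh, q, hq, e, hflat⟩ :=
    (Groth.Agent.H47.NoethModule.exists_flat_model hc f F hfp).2 hfl
  haveI := hlft
  haveI := hqc
  haveI : IsLocallyNoetherian X₀ := LocallyOfFiniteType.isLocallyNoetherian f₀
  haveI : CompactSpace X₀ := QuasiCompact.compactSpace_of_compactSpace f₀
  obtain ⟨k, φ, hprop⟩ := Groth.Agent.Lib.Lim.Valuative.isProper_descends D c hc
    (fun i j g => SubDiagram.isAffineHom_map B g) i inferInstance inferInstance f₀
    inferInstance inferInstance hlft f q hq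
    (inferInstanceAs (IsProper (X ↘ Spec (CommRingCat.of A))))
  let R : CommRingCat.{u} := (SubDiagram.ringDiagram B).obj k.unop
  haveI : IsNoetherianRing R := by
    haveI := SubDiagram.isLocallyNoetherian_obj B k
    exact (isLocallyNoetherian_Spec (R := R)).1 this
  let π : Spec (CommRingCat.of A) ⟶ Spec R := c.π.app k
  let ρ : R →+* A := ((SubDiagram.ringCocone B).ι.app k.unop).hom
  letI : Algebra R A := ρ.toAlgebra
  let Xk : Scheme.{u} := pullback f₀ (D.map φ)
  letI : Xk.Over (Spec (CommRingCat.of R)) := ⟨pullback.snd f₀ (D.map φ)⟩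
  haveI : IsProper (Xk ↘ Spec (CommRingCat.of R)) := hprop
  let pk : Xk ⟶ X₀ := pullback.fst f₀ (D.map φ)
  have hcart : IsPullback pk (Xk ↘ Spec (CommRingCat.of R)) f₀ (D.map φ) := IsPullback.of_hasPullback _ _
  let qk : X ⟶ Xk := pullback.lift q (f ≫ c.π.app k) (by rw [Category.assoc, c.w, hq.w])
  have hqk : qk ≫ pk = q := pullback.lift_fst _ _ _
  have hsq : IsPullback qk (X ↘ Spec (CommRingCat.of A)) (Xk ↘ Spec (CommRingCat.of R))
      (Spec.map (CommRingCat.ofHom (algebraMap R A))) := by
    refine IsPullback.of_right ?_ (pullback.lift_snd _ _ _) hcart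
    have h := hq
    rw [← hqk, ← c.w φ] at h
    exact h
  have := hcoh.1
  let Fk : Xk.Modules := (Scheme.Modules.pullback pk).obj F₀
  have hFk : Coh.IsCoh Fk := Cyc.FP.Stalk.isCoh_pullback pk hcoh
  haveI : Fk.IsQuasicoherent := hFk.1
  have hflk : FlatMod.IsFlatOver (Xk ↘ Spec (CommRingCat.of R)) Fk := fun x =>
    Flat55.FlatOverAt.isFlatOverAt_baseChange _ _ _ _ hcart F₀ x (hflat (pk x))
  obtain ⟨Dk⟩ := Model.nonempty_of_isNoetherianRing R Fk hFk hflk
  obtain ⟨D'⟩ := Dk.baseChange (B := A) hsq
  exact Model.Data.ofIso A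
    ((Scheme.Modules.pullbackComp qk pk).app F₀ ≪≫ (Scheme.Modules.pullbackCongr hqk).app F₀ ≪≫ e) D'

end Groth.Agent.H54.BCX.Descend
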