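import Groth.Agent.H54.BCX.Loc
import Groth.Agent.H54.BCX.Descend
import Groth.Agent.H54.BCX.Affine
import Groth.Agent.Lib.FlatCx.CochainFibre
import Groth.Agent.Lib.FlatCx.FibreRank
import Groth.Agent.Lib.Curves.LES
import Groth.Agent.Lib.Exchange.Local
import Groth.Agent.Lib.RefHull.LocFree

/-!
# Fibres read on the model
-/

set_option autoImplicit false
set_option linter.style.haveILetI false
set_option maxHeartbeats 1000000
universe u

open CategoryTheory Limits AlgebraicGeometry Opposite TopologicalSpace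
open scoped TensorProduct
open Groth.Agent.Lib
open ZarCoh.Exchange

namespace Groth.Agent.H54.BCX.Fibre

noncomputable section

section Square

variable {A A' : Type u} [CommRing A] [CommRing A'] [Algebra A A'] {X X' : Scheme.{u}}
  [X.Over (Spec (CommRingCat.of A))] [X'.Over (Spec (CommRingCat.of A'))] {g' : X' ⟶ X}
  {F : X.Modules} [F.IsQuasicoherent] (D : Model.Data A F)
  (hsq : IsPullback g' (X' ↘ Spec (CommRingCat.of A')) (X ↘ Spec (CommRingCat.of A))
    (Spec.map (CommRingCat.ofHom (algebraMap A A'))))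
  {p : ℕ} {i k : ℤ} (hi : i + 1 = (p : ℤ)) (hk : (p : ℤ) + 1 = k)

include hsq hi hk in
theorem exact_of_subsingleton (hs : Subsingleton (Coh.HH X' ((Scheme.Modules.pullback g').obj F) p)) :
    ∀ w : ((Loc.CC D).X (p : ℤ) : Type u) ⊗[A] A', (Transfer.dl (Loc.CC D) p k).rTensor A' w = 0 →
      w ∈ LinearMap.range ((Transfer.dl (Loc.CC D) i p).rTensor A') := by
  haveI := D.finite
  haveI : IsAffineHom g' := ZarCoh.FlatBC.Main.isAffineHom_fst hsq
  obtain ⟨Cmp⟩ := ProjCoh.CechNat.nonempty_comparison D.U D.hcov p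
  intro w hw
  let h := BaseChange.isBCCx (A' := A') hsq F D.U D.hU
  have hc : BCX.Square.Θ h (p : ℤ) w ∈ LinearMap.ker ((Complex.C A' (fun j => g' ⁻¹ᵁ D.U j)
      ((Scheme.Modules.pullback g').obj F)).d (p : ℤ) k).hom :=
    (BCX.Square.Θ_d h (p : ℤ) k w).trans ((congrArg _ hw).trans (map_zero _))
  obtain ⟨y, hy⟩ := (BCX.Square.ecls'_eq_zero_iff (A' := A') D.U F D.hU Cmp hk hi ⟨_, hc⟩).1
    (Subsingleton.elim _ _)
  obtain ⟨u, rfl⟩ := (BCX.Square.Θ_bijective h i).2 y
  exact ⟨u, (BCX.Square.Θ_bijective h (p : ℤ)).1 ((BCX.Square.Θ_d h i (p : ℤ) u).symm.trans hy)⟩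

include hsq hi hk in
theorem subsingleton_of_exact
    (he : ∀ w : ((Loc.CC D).X (p : ℤ) : Type u) ⊗[A] A', (Transfer.dl (Loc.CC D) p k).rTensor A' w = 0 →
      w ∈ LinearMap.range ((Transfer.dl (Loc.CC D) i p).rTensor A')) :
    Subsingleton (Coh.HH X' ((Scheme.Modules.pullback g').obj F) p) := by
  haveI := D.finite
  haveI : IsAffineHom g' := ZarCoh.FlatBC.Main.isAffineHom_fst hsq
  obtain ⟨Cmp⟩ := ProjCoh.CechNat.nonempty_comparison D.U D.hcov p
  let h := BaseChange.isBCCx (A' := A') hsq F D.U D.hU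
  refine subsingleton_of_forall_eq 0 fun x => ?_
  obtain ⟨⟨c, hc⟩, rfl⟩ := BCX.Square.ecls'_surjective (A' := A') D.U F D.hU Cmp hk x
  obtain ⟨w, rfl⟩ := (BCX.Square.Θ_bijective h (p : ℤ)).2 c
  obtain ⟨u, hu⟩ := he w ((BCX.Square.Θ_bijective h k).1
    ((BCX.Square.Θ_d h (p : ℤ) k w).symm.trans (Eq.trans hc (map_zero _).symm)))
  refine (BCX.Square.ecls'_eq_zero_iff (A' := A') D.U F D.hU Cmp hk hi _).2 ⟨BCX.Square.Θ h i u, ?_⟩
  exact (BCX.Square.Θ_d h i (p : ℤ) u).trans (congrArg _ hu)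

/-- The base change of a model. -/
def bcData [QuasiCompact (X ↘ Spec (CommRingCat.of A))] : Model.Data A' ((Scheme.Modules.pullback g').obj F) :=
  haveI := D.finite
  haveI : IsAffineHom g' := ZarCoh.FlatBC.Main.isAffineHom_fst hsq
  { ι := D.ι
    finite := D.finite
    U := fun j => g' ⁻¹ᵁ D.U j
    hU := fun i => by rw [BaseChange.inter_preimage]; exact (D.hU i).preimage g'
    hcov := by
      rw [eq_top_iff]
      intro x _
      have := TopologicalSpace.Opens.mem_iSup.1 (D.hcov.ge (x := g' x) trivial)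
      exact TopologicalSpace.Opens.mem_iSup.2 this
    L := CohIII.bcCx (algebraMap A A') D.L
    φ := Lift.lift (ExtScalars.isBCCx_bcCx (A := A) A' D.L) (BaseChange.isBCCx (A' := A') hsq F D.U D.hU) D.φ
    hfree := fun i => by
      haveI := (D.hfree i).1
      haveI := (D.hfree i).2
      exact ⟨Module.Finite.equiv (FlatCx.BaseChange.extEquiv A' (D.L.X i)).symm,
        Module.Free.of_equiv (FlatCx.BaseChange.extEquiv A' (D.L.X i)).symm⟩
    bdd := by
      obtain ⟨b₀, hb₀⟩ := D.bdd
      exact ⟨b₀, fun i hi => (ModuleCat.extendScalars (algebraMap A A')).map_isZero (hb₀ i hi)⟩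
    univ := fun M q => Lift.bijective_lift (ExtScalars.isBCCx_bcCx (A := A) A' D.L)
      (BaseChange.isBCCx (A' := A') hsq F D.U D.hU) D.φ M q (D.univ _ q) }

end Square

section Betti

variable {A : Type u} [CommRing A] (K : Type u) [Field K] [Algebra A K]

theorem finrank_coker_ext {P Q : ModuleCat.{u} A} (f : P ⟶ Q) [Module.Finite A Q] :
    Module.finrank K (((ModuleCat.extendScalars (algebraMap A K)).obj Q) ⧸
        LinearMap.range ((ModuleCat.extendScalars (algebraMap A K)).map f).hom) =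
      Module.finrank K (K ⊗[A] (Q ⧸ LinearMap.range f.hom)) := by
  let e := FlatCx.BaseChange.extEquiv (A := A) K Q
  have hr : (LinearMap.range ((ModuleCat.extendScalars (algebraMap A K)).map f).hom).map
      e.toLinearMap = LinearMap.range (f.hom.baseChange K) := by
    ext ξ
    constructor
    · rintro ⟨_, ⟨z, rfl⟩, rfl⟩
      exact ⟨_, (FlatCx.BaseChange.extEquiv_map K f z).symm⟩
    · rintro ⟨w, rfl⟩
      obtain ⟨z, rfl⟩ := (FlatCx.BaseChange.extEquiv (A := A) K P).surjective w
      exact ⟨_, ⟨z, rfl⟩, FlatCx.BaseChange.extEquiv_map K f z⟩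
  rw [(Submodule.Quotient.equiv _ _ e hr).finrank_eq]
  have h1 := FlatCx.FibreRank.finrank_range_add f.hom K
  have h2 := (LinearMap.range (f.hom.baseChange K)).finrank_quotient_add_finrank
  omega

theorem betti_add (P : CochainComplex (ModuleCat.{u} A) ℤ)
    (hP : ∀ j : ℤ, Module.Finite A (P.X j) ∧ Module.Free A (P.X j)) [Nontrivial A] {i j k : ℤ}
    (hij : i + 1 = j) (hjk : j + 1 = k) :
    Module.finrank K (Split.Hm (Transfer.dl_dl (CohIII.bcCx (algebraMap A K) P) i j k)) +
        Module.finrank A (P.X k) =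
      Module.finrank K (K ⊗[A] ((P.X j : Type u) ⧸ LinearMap.range (Transfer.dl P i j))) +
        Module.finrank K (K ⊗[A] ((P.X k : Type u) ⧸ LinearMap.range (Transfer.dl P j k))) := by
  haveI := fun j => (hP j).1
  haveI := fun j => (hP j).2
  let P' := CohIII.bcCx (algebraMap A K) P
  haveI : ∀ j, FiniteDimensional K (P'.X j) := fun j =>
    Module.Finite.equiv (FlatCx.BaseChange.extEquiv (A := A) K (P.X j)).symm
  haveI : FiniteDimensional K (P'.sc' i j k).X₂ := inferInstanceAs (FiniteDimensional K (P'.X j))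
  haveI : FiniteDimensional K (P'.sc' i j k).X₃ := inferInstanceAs (FiniteDimensional K (P'.X k))
  have h := FlatCx.CochainFibre.finrank_homology_add (P'.sc' i j k)
  rw [← (P'.homologyIsoSc' i j k (FlatCx.Above.prev_up hij)
    (FlatCx.Above.next_up hjk)).toLinearEquiv.finrank_eq] at h
  have h3 : Module.finrank K (P'.X k) = Module.finrank A (P.X k) :=
    (FlatCx.BaseChange.extEquiv (A := A) K (P.X k)).finrank_eq.trans Module.finrank_baseChange
  have ha : Module.finrank K ((P'.sc' i j k).X₂ ⧸ LinearMap.range (P'.sc' i j k).f.hom) =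
      Module.finrank K (K ⊗[A] ((P.X j : Type u) ⧸ LinearMap.range (Transfer.dl P i j))) :=
    finrank_coker_ext K (P.d i j)
  have hb : Module.finrank K ((P'.sc' i j k).X₃ ⧸ LinearMap.range (P'.sc' i j k).g.hom) =
      Module.finrank K (K ⊗[A] ((P.X k : Type u) ⧸ LinearMap.range (Transfer.dl P j k))) :=
    finrank_coker_ext K (P.d j k)
  rw [ha, hb] at h
  change Module.finrank K (P'.homology j) + Module.finrank K (P'.X k) = _ at h
  rw [h3, ← (Transfer.hmEquiv P' hij hjk).finrank_eq] at h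
  exact h

variable {K}

/-- Fibre dimensions do not depend on the model of the residue field. -/
theorem finrank_tensor_congr {K' : Type u} [Field K'] [Algebra A K'] (θ : K ≃ₐ[A] K') (N : Type u)
    [AddCommGroup N] [Module A N] :
    Module.finrank K (K ⊗[A] N) = Module.finrank K' (K' ⊗[A] N) := by
  refine congrArg Cardinal.toNat (rank_eq_of_equiv_equiv θ
    (TensorProduct.congr θ.toLinearEquiv (LinearEquiv.refl A N)).toAddEquiv θ.bijective ?_)
  intro r m
  induction m using TensorProduct.induction_on with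
  | zero => simp
  | tmul k n =>
    simp [TensorProduct.smul_tmul']
  | add a b ha hb => rw [smul_add, map_add, ha, hb, map_add, smul_add]

end Betti

section Point

variable {X S : Scheme.{u}} (f : X ⟶ S) {V : S.Opens} (hV : IsAffineOpen V) {s : S} (hs : s ∈ V)

/-- The residue field over the functions of an affine neighbourhood. -/
abbrev algPt (S : Scheme.{u}) {V : S.Opens} {s : S} (hs : s ∈ V) :
    Algebra Γ(S, V) (S.residueField s) :=
  (S.evaluation V s hs).hom.toAlgebra

include hV in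
theorem isFrac : letI := algPt S hs; Split.IsFrac Γ(S, V) (S.residueField s) := by
  letI := algPt S hs
  intro k
  obtain ⟨t, rfl⟩ := Ideal.Quotient.mk_surjective (I := IsLocalRing.maximalIdeal (S.presheaf.stalk s)) k
  letI : Algebra Γ(S, V) (S.presheaf.stalk s) :=
    TopCat.Presheaf.algebra_section_stalk S.presheaf ⟨s, hs⟩
  haveI : IsLocalization.AtPrime (S.presheaf.stalk s) (hV.primeIdealOf ⟨s, hs⟩).asIdeal :=
    hV.isLocalization_stalk ⟨s, hs⟩
  obtain ⟨⟨b, c⟩, hbc⟩ := IsLocalization.surj (hV.primeIdealOf ⟨s, hs⟩).asIdeal.primeCompl t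
  refine ⟨c, b, ?_, ?_⟩
  · intro h0
    have hu : IsUnit (algebraMap Γ(S, V) (S.presheaf.stalk s) c) := IsLocalization.map_units _ c
    exact (hu.map (S.residue s).hom).ne_zero h0
  · show S.residue s (S.presheaf.germ V s hs c) * S.residue s t = S.residue s (S.presheaf.germ V s hs b)
    rw [← map_mul, mul_comm]
    exact congrArg (S.residue s) hbc

/-- The prime of a point. -/
def primePt (hV : IsAffineOpen V) (hs : s ∈ V) : PrimeSpectrum Γ(S, V) := hV.primeIdealOf ⟨s, hs⟩

theorem mem_primePt_iff (a : Γ(S, V)) :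
    a ∈ (primePt hV hs).asIdeal ↔ S.evaluation V s hs a = 0 := by
  letI : Algebra Γ(S, V) (S.presheaf.stalk s) :=
    TopCat.Presheaf.algebra_section_stalk S.presheaf ⟨s, hs⟩
  haveI : IsLocalization.AtPrime (S.presheaf.stalk s) (hV.primeIdealOf ⟨s, hs⟩).asIdeal :=
    hV.isLocalization_stalk ⟨s, hs⟩
  rw [Scheme.evaluation_eq_zero_iff_notMem_basicOpen, Scheme.mem_basicOpen _ _ _ hs]
  exact ((IsLocalization.AtPrime.isUnit_to_map_iff (S.presheaf.stalk s)
    (hV.primeIdealOf ⟨s, hs⟩).asIdeal a).not.trans not_not).symm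

theorem nonempty_algEquiv :
    letI := algPt S hs
    Nonempty ((primePt hV hs).asIdeal.ResidueField ≃ₐ[Γ(S, V)] S.residueField s) := by
  letI := algPt S hs
  have h1 : (primePt hV hs).asIdeal ≤ RingHom.ker (S.evaluation V s hs).hom := fun a ha =>
    (mem_primePt_iff hV hs a).1 ha
  have h2 : (primePt hV hs).asIdeal.primeCompl ≤
      (IsUnit.submonoid (S.residueField s)).comap (S.evaluation V s hs).hom := fun a ha =>
    isUnit_iff_ne_zero.2 fun h => ha ((mem_primePt_iff hV hs a).2 h)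
  let l : (primePt hV hs).asIdeal.ResidueField →ₐ[Γ(S, V)] S.residueField s :=
    { Ideal.ResidueField.lift _ (S.evaluation V s hs).hom h1 h2 with
      commutes' := fun a => Ideal.ResidueField.lift_algebraMap _ (S.evaluation V s hs).hom h1 h2 a }
  refine ⟨AlgEquiv.ofBijective l ⟨l.toRingHom.injective, fun k => ?_⟩⟩
  obtain ⟨c, b, hc, hb⟩ := isFrac hV hs k
  refine ⟨algebraMap _ _ b / algebraMap _ _ c, ?_⟩
  rw [map_div₀, AlgHom.commutes, AlgHom.commutes, ← hb, mul_div_cancel_left₀ _ hc]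

theorem fromSpecResidueField_eq :
    S.fromSpecResidueField s = Spec.map (S.evaluation V s hs) ≫ hV.fromSpec := by
  rw [Scheme.fromSpecResidueField, ← hV.fromSpecStalk_eq_fromSpecStalk hs, IsAffineOpen.fromSpecStalk,
    ← Spec.map_comp_assoc]
  rfl

/-- A fibre over the residue field. -/
abbrev overFiber (f : X ⟶ S) (s : S) : (f.fiber s).Over (Spec (CommRingCat.of (S.residueField s))) :=
  ⟨f.fiberToSpecResidueField s⟩

/-- The preimage over the functions of an open. -/
abbrev overOpen (f : X ⟶ S) (V : S.Opens) :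
    ((f ⁻¹ᵁ V : X.Opens) : Scheme.{u}).Over (Spec (CommRingCat.of Γ(S, V))) :=
  ⟨Affine.p₀ f V⟩

include hV in
theorem isPullback_p₀ : IsPullback (f ⁻¹ᵁ V).ι (Affine.p₀ f V) f hV.fromSpec := by
  refine IsPullback.of_iso (isPullback_morphismRestrict f V).flip (Iso.refl _) (Iso.refl _)
    hV.isoSpec (Iso.refl _) ?_ ?_ ?_ ?_
  · exact (Category.comp_id _).trans (Category.id_comp _).symm
  · refine (?_ : (f ∣_ V) ≫ hV.isoSpec.hom = Affine.p₀ f V).trans (Category.id_comp _).symm
    rw [hV.isoSpec_hom]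
  · exact (Category.comp_id _).trans (Category.id_comp _).symm
  · rw [Iso.refl_hom, Category.comp_id, ← hV.isoSpec_inv_ι, Iso.hom_inv_id_assoc]

include hV hs in
theorem exists_lift :
    letI := overOpen f V
    letI := overFiber f s
    letI := algPt S hs
    ∃ g'' : f.fiber s ⟶ ((f ⁻¹ᵁ V : X.Opens) : Scheme.{u}), g'' ≫ (f ⁻¹ᵁ V).ι = f.fiberι s ∧
      IsPullback g'' (f.fiber s ↘ Spec (CommRingCat.of (S.residueField s)))
        (((f ⁻¹ᵁ V : X.Opens) : Scheme.{u}) ↘ Spec (CommRingCat.of Γ(S, V)))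
        (Spec.map (CommRingCat.ofHom (algebraMap Γ(S, V) (S.residueField s)))) := by
  letI := overOpen f V
  letI := overFiber f s
  letI := algPt S hs
  have hR := isPullback_p₀ f hV
  have hbig : IsPullback (f.fiberι s) (f.fiberToSpecResidueField s) f
      (Spec.map (S.evaluation V s hs) ≫ hV.fromSpec) := by
    rw [← fromSpecResidueField_eq hV hs]
    exact IsPullback.of_hasPullback f (S.fromSpecResidueField s)
  refine ⟨hR.lift (f.fiberι s) (f.fiberToSpecResidueField s ≫ Spec.map (S.evaluation V s hs))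
    (by rw [Category.assoc]; exact hbig.w), hR.lift_fst _ _ _, ?_⟩
  refine IsPullback.of_right ?_ (hR.lift_snd _ _ _) hR
  rw [hR.lift_fst]
  exact hbig

variable (F : X.Modules) [F.IsQuasicoherent]

theorem nonempty_iso_fiberMod {g'' : f.fiber s ⟶ ((f ⁻¹ᵁ V : X.Opens) : Scheme.{u})}
    (hg : g'' ≫ (f ⁻¹ᵁ V).ι = f.fiberι s) :
    Nonempty ((Scheme.Modules.pullback g'').obj (F.restrict (f ⁻¹ᵁ V).ι) ≅ CohIII.fiberMod f F s) :=
  ⟨(Scheme.Modules.pullback g'').mapIso
      ((Scheme.Modules.restrictFunctorIsoPullback (f ⁻¹ᵁ V).ι).app F) ≪≫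
    (Scheme.Modules.pullbackComp g'' (f ⁻¹ᵁ V).ι).app F ≪≫
    (Scheme.Modules.pullbackCongr hg).app F⟩

variable {p : ℕ} {i k : ℤ} (hi : i + 1 = (p : ℤ)) (hk : (p : ℤ) + 1 = k)

include hV hs hi hk in
theorem exact_of_vanishing (D : letI := overOpen f V; Model.Data Γ(S, V) (F.restrict (f ⁻¹ᵁ V).ι))
    (hH : Subsingleton (CohIII.fiberH f F s p)) :
    letI := overOpen f V
    letI := algPt S hs
    ∀ w : ((Loc.CC D).X (p : ℤ) : Type u) ⊗[Γ(S, V)] S.residueField s,
      (Transfer.dl (Loc.CC D) p k).rTensor (S.residueField s) w = 0 →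
        w ∈ LinearMap.range ((Transfer.dl (Loc.CC D) i p).rTensor (S.residueField s)) := by
  letI := overOpen f V
  letI := overFiber f s
  letI := algPt S hs
  obtain ⟨g'', hg, hsq⟩ := exists_lift f hV hs
  obtain ⟨e⟩ := nonempty_iso_fiberMod f F hg
  refine exact_of_subsingleton D hsq hi hk ?_
  exact (Affine.mapH_bijective e p).1.subsingleton

include hV hs hi hk in
theorem vanishing_of_exact (D : letI := overOpen f V; Model.Data Γ(S, V) (F.restrict (f ⁻¹ᵁ V).ι))
    (he : letI := overOpen f V; letI := algPt S hs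
      ∀ w : ((Loc.CC D).X (p : ℤ) : Type u) ⊗[Γ(S, V)] S.residueField s,
      (Transfer.dl (Loc.CC D) p k).rTensor (S.residueField s) w = 0 →
        w ∈ LinearMap.range ((Transfer.dl (Loc.CC D) i p).rTensor (S.residueField s))) :
    Subsingleton (CohIII.fiberH f F s p) := by
  letI := overOpen f V
  letI := overFiber f s
  letI := algPt S hs
  obtain ⟨g'', hg, hsq⟩ := exists_lift f hV hs
  obtain ⟨e⟩ := nonempty_iso_fiberMod f F hg
  haveI := subsingleton_of_exact D hsq hi hk he
  exact (Affine.mapH_bijective e p).2.subsingleton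

include hs hi hk in
/-- The dimension of the cohomology of a fibre. -/
theorem fiberRank_add [QuasiCompact f]
    (D : letI := overOpen f V; Model.Data Γ(S, V) (F.restrict (f ⁻¹ᵁ V).ι)) :
    letI := overOpen f V
    CohIII.fiberRank f F p s + Module.finrank Γ(S, V) (D.L.X k) =
      FlatCx.Rank.fdim ((D.L.X (p : ℤ) : Type u) ⧸ LinearMap.range (Transfer.dl D.L i p)) (primePt hV hs) +
        FlatCx.Rank.fdim ((D.L.X k : Type u) ⧸ LinearMap.range (Transfer.dl D.L p k)) (primePt hV hs) := by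
  letI := overOpen f V
  letI := overFiber f s
  letI := algPt S hs
  obtain ⟨g'', hg, hsq⟩ := exists_lift f hV hs
  obtain ⟨e⟩ := nonempty_iso_fiberMod f F hg
  obtain ⟨θ⟩ := nonempty_algEquiv hV hs
  haveI : IsIso V.toSpecΓ := by rw [← hV.isoSpec_hom]; infer_instance
  haveI : QuasiCompact (((f ⁻¹ᵁ V : X.Opens) : Scheme.{u}) ↘ Spec (CommRingCat.of Γ(S, V))) := by
    show QuasiCompact ((f ∣_ V) ≫ V.toSpecΓ)
    infer_instance
  haveI := QCoh.Pullback.isQCoh_pullback g'' (F.restrict (f ⁻¹ᵁ V).ι)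
  haveI : Nontrivial Γ(S, V) := (primePt hV hs).nontrivial
  obtain ⟨E⟩ := Loc.nonempty_HH (bcData D hsq) hi hk
  have h1 := betti_add (S.residueField s) D.L D.hfree hi hk
  have h2 : CohIII.fiberRank f F p s = Module.finrank (S.residueField s)
      (Split.Hm (Transfer.dl_dl (CohIII.bcCx (algebraMap Γ(S, V) (S.residueField s)) D.L) i p k)) :=
    (Curves.LES.isoK (S.residueField s) e p).finrank_eq.symm.trans E.finrank_eq
  rw [← finrank_tensor_congr θ, ← finrank_tensor_congr θ, ← h2] at h1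
  exact h1

end Point

end

end Groth.Agent.H54.BCX.Fibre
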