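import Groth.Agent.Lib.Modules.ZeroLocus
import Groth.Agent.Lib.Exchange.Free

/-!
# Finite locally free and zero restrictions read on affine opens
-/

set_option autoImplicit false
set_option linter.style.haveILetI false
universe u

open CategoryTheory Limits AlgebraicGeometry Opposite TopologicalSpace
open Groth.Agent.Lib Groth.Agent.Lib.QCoh.Localizing

namespace Groth.Agent.H54.BCX.OpenSec

noncomputable section

variable {S : Scheme.{u}} (R : S.Modules) [R.IsQuasicoherent]

theorem isZero_restrict {U : S.Opens}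
    (h : ∀ x ∈ U, ∃ W : S.Opens, IsAffineOpen W ∧ x ∈ W ∧ W ≤ U ∧ Subsingleton Γ(R, W)) :
    IsZero (R.restrict U.ι) := by
  refine Modules.AffineSections.isZero_of_sections fun x => ?_
  obtain ⟨W, hW, hxW, hWU, hs⟩ := h x.1 x.2
  refine ⟨U.ι ⁻¹ᵁ W, hW.preimage_of_isOpenImmersion _ (by rwa [U.opensRange_ι]), hxW, ?_⟩
  show Subsingleton Γ(R, U.ι ''ᵁ (U.ι ⁻¹ᵁ W))
  rwa [U.ι.image_preimage_eq_opensRange_inf, U.opensRange_ι, inf_eq_right.2 hWU]

omit [R.IsQuasicoherent] in
theorem projective_congr {W W' : S.Opens} (e : W = W')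
    (h : Module.Finite Γ(S, W) Γ(R, W) ∧ Module.Projective Γ(S, W) Γ(R, W)) :
    Module.Finite Γ(S, W') Γ(R, W') ∧ Module.Projective Γ(S, W') Γ(R, W') := by
  subst e; exact h

omit [R.IsQuasicoherent] in
theorem restrict_smul {U : S.Opens} (W : (U : Scheme.{u}).Opens) (r : Γ((U : Scheme.{u}), W))
    (m : Γ(R.restrict U.ι, W)) :
    r • m = (show Γ(S, U.ι ''ᵁ W) from r) • (show Γ(R, U.ι ''ᵁ W) from m) := by
  show (U.ι.appIso W).inv r • (show Γ(R, U.ι ''ᵁ W) from m) = _
  rw [Scheme.Opens.ι_appIso]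
  rfl

omit [R.IsQuasicoherent] in
theorem restrict_iff {U : S.Opens} (W : (U : Scheme.{u}).Opens) :
    (Module.Finite Γ((U : Scheme.{u}), W) Γ(R.restrict U.ι, W) ∧
      Module.Projective Γ((U : Scheme.{u}), W) Γ(R.restrict U.ι, W)) ↔
    (Module.Finite Γ(S, U.ι ''ᵁ W) Γ(R, U.ι ''ᵁ W) ∧
      Module.Projective Γ(S, U.ι ''ᵁ W) Γ(R, U.ι ''ᵁ W)) := by
  letI inst : Module Γ(S, U.ι ''ᵁ W) Γ(R.restrict U.ι, W) :=
    inferInstanceAs (Module Γ((U : Scheme.{u}), W) Γ(R.restrict U.ι, W))
  let e : Γ(R.restrict U.ι, W) ≃ₗ[Γ(S, U.ι ''ᵁ W)] Γ(R, U.ι ''ᵁ W) :=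
    { toFun := fun m => m
      invFun := fun m => m
      map_add' := fun _ _ => rfl
      map_smul' := fun r m => restrict_smul R W r m
      left_inv := fun _ => rfl
      right_inv := fun _ => rfl }
  constructor
  · rintro ⟨h1, h2⟩
    haveI : Module.Finite Γ(S, U.ι ''ᵁ W) Γ(R.restrict U.ι, W) := h1
    haveI : Module.Projective Γ(S, U.ι ''ᵁ W) Γ(R.restrict U.ι, W) := h2
    exact ⟨Module.Finite.equiv e, Module.Projective.of_equiv e⟩
  · rintro ⟨h1, h2⟩
    exact ⟨(Module.Finite.equiv e.symm : Module.Finite Γ(S, U.ι ''ᵁ W) Γ(R.restrict U.ι, W)),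
      (Module.Projective.of_equiv e.symm : Module.Projective Γ(S, U.ι ''ᵁ W) Γ(R.restrict U.ι, W))⟩

/-- Sections over an affine open inside a locus of local freeness. -/
theorem projective_sections {U W : S.Opens} (hU : FlatMod.IsFinLocFree (R.restrict U.ι))
    (hW : IsAffineOpen W) (hWU : W ≤ U) :
    Module.Finite Γ(S, W) Γ(R, W) ∧ Module.Projective Γ(S, W) Γ(R, W) := by
  refine projective_congr R (W := U.ι ''ᵁ (U.ι ⁻¹ᵁ W))
    (by rw [U.ι.image_preimage_eq_opensRange_inf, U.opensRange_ι, inf_eq_right.2 hWU]) ?_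
  obtain ⟨h1, h2⟩ := Modules.AffineSections.finite_projective_sections hU
    (hW.preimage_of_isOpenImmersion U.ι (by rwa [U.opensRange_ι]))
  exact (restrict_iff R _).1 ⟨h1, h2⟩

/-- A locally free restriction from free neighbourhoods. -/
theorem isFinLocFree_restrict {U : S.Opens}
    (h : ∀ x ∈ U, ∃ W : S.Opens, IsAffineOpen W ∧ x ∈ W ∧ W ≤ U ∧
      Module.Finite Γ(S, W) Γ(R, W) ∧ Module.Projective Γ(S, W) Γ(R, W)) :
    FlatMod.IsFinLocFree (R.restrict U.ι) := by
  haveI : (R.restrict U.ι).IsQuasicoherent := inferInstance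
  refine Modules.AffineSections.isFinLocFree_of_sections fun x => ?_
  obtain ⟨W, hW, hxW, hWU, hP⟩ := h x.1 x.2
  exact ⟨U.ι ⁻¹ᵁ W, hW.preimage_of_isOpenImmersion _ (by rwa [U.opensRange_ι]), hxW,
    (restrict_iff R _).2 <| projective_congr R (W' := U.ι ''ᵁ (U.ι ⁻¹ᵁ W))
      (by rw [U.ι.image_preimage_eq_opensRange_inf, U.opensRange_ι, inf_eq_right.2 hWU]) hP⟩

section Basic

variable {V : S.Opens} (hV : IsAffineOpen V) (a : Γ(S, V))

include hV in
/-- Sections killed by `a` vanish on `D(a)`. -/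
theorem subsingleton_basicOpen (h : ∀ t : Γ(R, V), a • t = 0) : Subsingleton Γ(R, S.basicOpen a) := by
  let _ := Modules.ZeroLocus.modBasic a R
  haveI := Modules.ZeroLocus.isLocalizedModule_resBasic hV a R
  refine subsingleton_of_forall_eq 0 fun y => ?_
  obtain ⟨⟨t, c⟩, hc⟩ := IsLocalizedModule.surj (Submonoid.powers a) (Modules.ZeroLocus.resBasic a R) y
  have h0 : Modules.ZeroLocus.resBasic a R t = 0 :=
    (IsLocalizedModule.eq_zero_iff (Submonoid.powers a) _).2 ⟨⟨a, 1, pow_one a⟩, h t⟩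
  rw [h0] at hc
  exact ((Module.End.isUnit_iff _).1
    (IsLocalizedModule.map_units (Modules.ZeroLocus.resBasic a R) c)).1 (hc.trans (map_zero _).symm)

include hV in
/-- A factor retract of a finite projective module is projective on `D(a)`. -/
theorem projective_basicOpen {Q : Type u} [AddCommGroup Q] [Module Γ(S, V) Q]
    [Module.Finite Γ(S, V) Q] [Module.Projective Γ(S, V) Q] (j : Γ(R, V) →ₗ[Γ(S, V)] Q)
    (π : Q →ₗ[Γ(S, V)] Γ(R, V)) {N : ℕ} (hπ : ∀ v, π (j v) = a ^ N • v) :
    Module.Finite Γ(S, S.basicOpen a) Γ(R, S.basicOpen a) ∧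
      Module.Projective Γ(S, S.basicOpen a) Γ(R, S.basicOpen a) := by
  let _ := Modules.ZeroLocus.modBasic a R
  letI : Algebra Γ(S, V) Γ(S, S.basicOpen a) := (resR (S.basicOpen_le a)).toAlgebra
  haveI : IsLocalization.Away a Γ(S, S.basicOpen a) := hV.isLocalization_basicOpen a
  haveI : IsScalarTower Γ(S, V) Γ(S, S.basicOpen a) Γ(R, S.basicOpen a) :=
    IsScalarTower.of_algebraMap_smul fun _ _ => rfl
  haveI := Modules.ZeroLocus.isLocalizedModule_resBasic hV a R
  let B := Γ(S, S.basicOpen a)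
  have hb : IsBaseChange B (Modules.ZeroLocus.resBasic a R) :=
    IsLocalizedModule.isBaseChange (Submonoid.powers a) B _
  have hu : IsUnit (algebraMap Γ(S, V) B (a ^ N)) :=
    (map_pow (algebraMap Γ(S, V) B) a N).symm ▸ (IsLocalization.Away.algebraMap_isUnit a).pow N
  let j' : TensorProduct Γ(S, V) B Γ(R, V) →ₗ[B] TensorProduct Γ(S, V) B Q := j.baseChange B
  let π' : TensorProduct Γ(S, V) B Q →ₗ[B] TensorProduct Γ(S, V) B Γ(R, V) :=
    (↑hu.unit⁻¹ : B) • π.baseChange B
  have h' : π' ∘ₗ j' = LinearMap.id := by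
    refine LinearMap.ext fun z => ?_
    have h1 : π ∘ₗ j = (a ^ N) • LinearMap.id := LinearMap.ext hπ
    show (↑hu.unit⁻¹ : B) • (π.baseChange B (j.baseChange B z)) = z
    rw [← LinearMap.comp_apply, ← LinearMap.baseChange_comp, h1, LinearMap.baseChange_smul,
      LinearMap.baseChange_id, LinearMap.smul_apply, LinearMap.id_apply, ← algebraMap_smul B (a ^ N) z,
      smul_smul, hu.val_inv_mul, one_smul]
  have hsurj : Function.Surjective π' := fun z => ⟨j' z, LinearMap.congr_fun h' z⟩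
  haveI : Module.Finite B (TensorProduct Γ(S, V) B Γ(R, V)) := Module.Finite.of_surjective π' hsurj
  haveI : Module.Projective B (TensorProduct Γ(S, V) B Γ(R, V)) := Module.Projective.of_split j' π' h'
  exact ⟨Module.Finite.equiv hb.equiv, Module.Projective.of_equiv hb.equiv⟩

include hV in
/-- Projective sections on `D(a)` give a projective localization. -/
theorem projective_away [hP : Module.Projective Γ(S, S.basicOpen a) Γ(R, S.basicOpen a)] {H : Type u}
    [AddCommGroup H] [Module Γ(S, V) H] (e : Γ(R, V) ≃ₗ[Γ(S, V)] H) :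
    Module.Projective (Localization.Away a) (LocalizedModule.Away a H) := by
  let _ := Modules.ZeroLocus.modBasic a R
  letI : Algebra Γ(S, V) Γ(S, S.basicOpen a) := (resR (S.basicOpen_le a)).toAlgebra
  haveI : IsLocalization.Away a Γ(S, S.basicOpen a) := hV.isLocalization_basicOpen a
  haveI : IsScalarTower Γ(S, V) Γ(S, S.basicOpen a) Γ(R, S.basicOpen a) :=
    IsScalarTower.of_algebraMap_smul fun _ _ => rfl
  haveI := Modules.ZeroLocus.isLocalizedModule_resBasic hV a R
  let B := Γ(S, S.basicOpen a)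
  let S' := Submonoid.powers a
  let θ : B ≃ₐ[Γ(S, V)] Localization.Away a := IsLocalization.algEquiv S' B (Localization.Away a)
  let E₀ : Γ(R, S.basicOpen a) ≃ₗ[Γ(S, V)] LocalizedModule.Away a H :=
    IsLocalizedModule.linearEquiv S' (Modules.ZeroLocus.resBasic a R)
      ((LocalizedModule.mkLinearMap S' H).comp e.toLinearMap)
  letI : RingHomInvPair (θ.toRingEquiv : B →+* Localization.Away a) θ.symm.toRingEquiv :=
    RingHomInvPair.of_ringEquiv θ.toRingEquiv
  letI : RingHomInvPair (θ.symm.toRingEquiv : Localization.Away a →+* B) θ.toRingEquiv :=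
    RingHomInvPair.of_ringEquiv θ.symm.toRingEquiv
  letI : Module B (LocalizedModule.Away a H) := Module.compHom _ (θ : B →+* Localization.Away a)
  haveI : IsScalarTower Γ(S, V) B (LocalizedModule.Away a H) :=
    IsScalarTower.of_algebraMap_smul fun r m => by
      show θ (algebraMap Γ(S, V) B r) • m = r • m
      rw [θ.commutes, algebraMap_smul]
  let E₁ : Γ(R, S.basicOpen a) ≃ₗ[B] LocalizedModule.Away a H :=
    { E₀ with map_smul' := fun b m => (E₀.toLinearMap.extendScalarsOfIsLocalization S' B).map_smul b m }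
  haveI : Module.Projective B (LocalizedModule.Away a H) := Module.Projective.of_equiv E₁
  let E₂ : LocalizedModule.Away a H ≃ₛₗ[(θ.toRingEquiv : B →+* Localization.Away a)] LocalizedModule.Away a H :=
    { AddEquiv.refl _ with map_smul' := fun b m => rfl }
  exact Module.Projective.of_ringEquiv E₂

end Basic

end

end Groth.Agent.H54.BCX.OpenSec
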