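import Groth.Agent.H54.BCX.Pair
import Groth.Agent.H54.BCX.Fibre
import Groth.Agent.H54.BCX.OpenSec
import Groth.Agent.H47.FlatLimit
import Groth.Agent.Lib.Modules.Stalk

/-!
# Cohomology and base change over an affine open of the base
-/

set_option autoImplicit false
set_option linter.style.haveILetI false
set_option maxHeartbeats 1000000
universe u

open CategoryTheory Limits AlgebraicGeometry AlgebraicGeometry.Scheme.Modules Opposite TopologicalSpace
open scoped TensorProduct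
open Groth.Agent.Lib

namespace Groth.Agent.H54.BCX.Crit

noncomputable section

attribute [local instance] Pair.overOpen

variable {X S : Scheme.{u}} (f : X ⟶ S) (F : X.Modules)

/-- A model over the functions of an open. -/
abbrev Dat (V : S.Opens) : Type _ :=
  letI := Pair.overOpen f V
  Model.Data Γ(S, V) (F.restrict (f ⁻¹ᵁ V).ι)

variable {f F} {V : S.Opens}

/-- The differential of the model in degree `j` splits near `s`. -/
def Sp (D : Dat f F V) (j : ℤ) (s : S) : Prop :=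
  ∃ a : Γ(S, V), s ∈ S.basicOpen a ∧ Split.IsSplit (Transfer.dl D.L j (j + 1)) a

theorem split_congr {A : Type u} [CommRing A] (L : CochainComplex (ModuleCat.{u} A) ℤ) {i j i' j' : ℤ}
    (hi : i = i') (hj : j = j') {a : A} (h : Split.IsSplit (Transfer.dl L i j) a) :
    Split.IsSplit (Transfer.dl L i' j') a := by
  subst hi hj; exact h

theorem mem_basicOpen_mul {a b : Γ(S, V)} {s : S} (ha : s ∈ S.basicOpen a) (hb : s ∈ S.basicOpen b) :
    s ∈ S.basicOpen (a * b) := by
  rw [Scheme.basicOpen_mul]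
  exact ⟨ha, hb⟩

theorem mem_basicOpen_pow {a : Γ(S, V)} {s : S} (ha : s ∈ S.basicOpen a) :
    ∀ n : ℕ, s ∈ S.basicOpen (a ^ n)
  | 0 => by
    rw [pow_zero, S.basicOpen_of_isUnit isUnit_one]
    exact S.basicOpen_le a ha
  | n + 1 => by
    rw [pow_succ]
    exact mem_basicOpen_mul (mem_basicOpen_pow ha n) ha

theorem evaluation_bijective {s : S} (hs : s ∈ V) {a : Γ(S, V)} (ha : s ∈ S.basicOpen a) :
    letI := Fibre.algPt S hs
    Function.Bijective fun m : S.residueField s => a • m := by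
  letI := Fibre.algPt S hs
  have h0 : S.evaluation V s hs a ≠ 0 := (Scheme.evaluation_ne_zero_iff_mem_basicOpen _ _ hs _).2 ha
  exact mulLeft_bijective₀ _ h0

section Data

variable (f F)

theorem nonempty_data [IsProper f] [LocallyOfFinitePresentation f] [F.IsQuasicoherent]
    (hfp : CohB1.IsFP F) (hfl : FlatMod.IsFlatOver f F) (hV : IsAffineOpen V) :
    Nonempty (Dat f F V) := by
  letI := Pair.overOpen f V
  have hR := Fibre.isPullback_p₀ f hV
  haveI : IsProper (((f ⁻¹ᵁ V : X.Opens) : Scheme.{u}) ↘ Spec (CommRingCat.of Γ(S, V))) :=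
    MorphismProperty.of_isPullback hR ‹IsProper f›
  haveI : LocallyOfFinitePresentation (((f ⁻¹ᵁ V : X.Opens) : Scheme.{u}) ↘ Spec (CommRingCat.of Γ(S, V))) :=
    MorphismProperty.of_isPullback hR ‹LocallyOfFinitePresentation f›
  haveI := QCoh.Pullback.isQCoh_pullback (f ⁻¹ᵁ V).ι F
  have hfl' : FlatMod.IsFlatOver (((f ⁻¹ᵁ V : X.Opens) : Scheme.{u}) ↘ Spec (CommRingCat.of Γ(S, V)))
      ((Scheme.Modules.pullback (f ⁻¹ᵁ V).ι).obj F) := fun x =>
    Flat55.FlatOverAt.isFlatOverAt_baseChange _ _ _ _ hR F x (hfl _)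
  obtain ⟨D⟩ := Descend.nonempty_data ((Scheme.Modules.pullback (f ⁻¹ᵁ V).ι).obj F)
    (Groth.Agent.H47.FlatLimit.isFP_pullback (f ⁻¹ᵁ V).ι F hfp) hfl'
  exact Model.Data.ofIso Γ(S, V)
    ((Scheme.Modules.restrictFunctorIsoPullback (f ⁻¹ᵁ V).ι).app F).symm D

end Data

theorem appLE_congr {Y Z : Scheme.{u}} {φ ψ : Y ⟶ Z} (h : φ = ψ) {O : Z.Opens} {O' : Y.Opens}
    (e : O' ≤ φ ⁻¹ᵁ O) : φ.appLE O O' e = ψ.appLE O O' (h ▸ e) := by
  subst h; rfl

theorem appLE_SpecMap_fromSpec {R : CommRingCat.{u}} (hV : IsAffineOpen V) (ψ : Γ(S, V) ⟶ R)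
    (e : (⊤ : (Spec R).Opens) ≤ (Spec.map ψ ≫ hV.fromSpec) ⁻¹ᵁ V) :
    (Spec.map ψ ≫ hV.fromSpec).appLE V ⊤ e = ψ ≫ (Scheme.ΓSpecIso R).inv := by
  rw [Scheme.Hom.comp_appLE, hV.fromSpec_app_self, Category.assoc, Scheme.Hom.map_appLE,
    Scheme.ΓSpecIso_inv_naturality, Scheme.Hom.appTop, ← Scheme.Hom.appLE_eq_app]
  rfl

/-- `a` acts invertibly on functions over opens mapping into `D(a)`. -/
theorem smul_bijective {S' : Scheme.{u}} (g : S' ⟶ S) (a : Γ(S, V)) {W : S'.Opens}
    (hWa : W ≤ g ⁻¹ᵁ S.basicOpen a) :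
    letI := Pair.alg g (hWa.trans (g.preimage_mono (S.basicOpen_le a)))
    Function.Bijective fun m : Γ(S', W) => a • m := by
  have e : W ≤ g ⁻¹ᵁ V := hWa.trans (g.preimage_mono (S.basicOpen_le a))
  letI := Pair.alg g e
  have hu : IsUnit (g.appLE V W e a) := by
    have h1 : IsUnit (S.presheaf.map (homOfLE (S.basicOpen_le a)).op a) :=
      RingedSpace.isUnit_res_basicOpen _ a
    have h2 := h1.map (g.appLE (S.basicOpen a) W hWa).hom
    have h3 := congr($(Scheme.Hom.map_appLE g hWa (homOfLE (S.basicOpen_le a)).op) a)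
    rw [CommRingCat.comp_apply] at h3
    rwa [h3] at h2
  show Function.Bijective fun m : Γ(S', W) => a • m
  constructor
  · exact fun m n h => hu.mul_left_cancel h
  · exact fun m => ⟨↑hu.unit⁻¹ * m, by
      show g.appLE V W e a * _ = m
      rw [← mul_assoc, hu.mul_val_inv, one_mul]⟩

section BC

variable [F.IsQuasicoherent] {X' S' : Scheme.{u}} {g' : X' ⟶ X} {f' : X' ⟶ S'} {g : S' ⟶ S}
  (hq : IsPullback g' f' f g) [HasInjectiveResolutions X.Modules] [HasInjectiveResolutions X'.Modules]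
  {Δ : RDer.DerivedLES (pushforward f)} {Δ' : RDer.DerivedLES (pushforward f')}
  {E : CohCmp.SectCmp f Δ} {E' : CohCmp.SectCmp f' Δ'}
  (B : CohCmp.GenBC f g f' g' hq.w E E') (p : ℕ)
  [IsProper f]

include hq in
/-- The base change map is bijective over opens mapping into a splitting locus. -/
theorem bijective_app (hV : IsAffineOpen V) (D : Dat f F V) (a : Γ(S, V))
    (ha : Split.IsSplit (Transfer.dl D.L (p : ℤ) ((p : ℤ) + 1)) a) {W : S'.Opens} (hW : IsAffineOpen W)
    (hWa : W ≤ g ⁻¹ᵁ S.basicOpen a) : Function.Bijective ((B.bc p F).app W) := by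
  have e : W ≤ g ⁻¹ᵁ V := hWa.trans (g.preimage_mono (S.basicOpen_le a))
  letI := Pair.alg g e
  letI := Pair.overOpen f V
  haveI := D.finite
  have hM : Function.Bijective fun m : Γ(S', W) => a • m := smul_bijective g a hWa
  exact Pair.bijective_of hq e hV hW F p B D.U D.hU D.hcov (i := (p : ℤ) - 1) (by omega) rfl
    (Loc.surj_C D (by omega) rfl ha hM) (Loc.inj_C D (by omega) rfl ha hM)

include hq in
/-- Splitting near every image point gives base change. -/
theorem isIso_bc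
    (H : ∀ z : S', ∃ (V : S.Opens) (_ : IsAffineOpen V) (D : Dat f F V), Sp D p (g z)) :
    IsIso (B.bc p F) := by
  refine CohDelta.BC.Transpose.isIso_of_bijective_basis (B.bc p F)
    (B := {W | ∃ (V : S.Opens) (_ : IsAffineOpen V) (D : Dat f F V) (a : Γ(S, V)),
      Split.IsSplit (Transfer.dl D.L (p : ℤ) ((p : ℤ) + 1)) a ∧ IsAffineOpen W ∧
        W ≤ g ⁻¹ᵁ S.basicOpen a}) ?_ ?_
  · refine Opens.isBasis_iff_nbhd.2 fun {O x} hx => ?_
    obtain ⟨V, hV, D, a, ha, hsp⟩ := H x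
    obtain ⟨W, hW, hxW, hle⟩ := exists_isAffineOpen_mem_and_subset
      (U := O ⊓ g ⁻¹ᵁ S.basicOpen a) (x := x) ⟨hx, ha⟩
    exact ⟨W, ⟨V, hV, D, a, hsp, hW, fun y hy => (hle hy).2⟩, hxW, fun y hy => (hle hy).1⟩
  · rintro W ⟨V, hV, D, a, hsp, hW, hle⟩
    exact bijective_app hq B p hV D a hsp hW hle

end BC

/-- Surjectivity of the base changed model at the residue field splits near the point. -/
theorem sp_of_surj {s : S} (p : ℕ) (hV : IsAffineOpen V) (D : Dat f F V) (hs : s ∈ V)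
    (e : (⊤ : (Spec (S.residueField s)).Opens) ≤ S.fromSpecResidueField s ⁻¹ᵁ V)
    (hS : letI := Pair.alg (S.fromSpecResidueField s) e
      Split.Surj (Transfer.dl (Loc.CC D) ((p : ℤ) - 1) p) (Transfer.dl (Loc.CC D) p ((p : ℤ) + 1))
        Γ(Spec (S.residueField s), ⊤)) : Sp D p s := by
  let g := S.fromSpecResidueField s
  letI := Pair.alg g e
  letI := Pair.overOpen f V
  haveI := D.finite
  letI := Fibre.algPt S hs
  let θ : Γ(Spec (S.residueField s), ⊤) ≅ S.residueField s := Scheme.ΓSpecIso _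
  have hθ : g.appLE V ⊤ e ≫ θ.hom = S.evaluation V s hs := by
    rw [← Iso.eq_comp_inv]
    show g.appLE V ⊤ e = _
    have h1 : g = Spec.map (S.evaluation V s hs) ≫ hV.fromSpec := Fibre.fromSpecResidueField_eq hV hs
    exact (appLE_congr h1 e).trans (appLE_SpecMap_fromSpec hV _ _)
  let el : Γ(Spec (S.residueField s), ⊤) ≃ₗ[Γ(S, V)] S.residueField s :=
    { θ.commRingCatIsoToRingEquiv.toAddEquiv with
      map_smul' := fun a x => by
        show θ.hom (g.appLE V ⊤ e a * x) = S.evaluation V s hs a * θ.hom x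
        rw [map_mul, ← hθ]
        rfl }
  have hS' : Split.Surj (Transfer.dl (Loc.CC D) ((p : ℤ) - 1) p) (Transfer.dl (Loc.CC D) p ((p : ℤ) + 1))
      (S.residueField s) := by
    intro w hw
    obtain ⟨w', rfl⟩ := (el.lTensor _).surjective w
    have hc : ∀ {N N' : Type u} [AddCommGroup N] [Module Γ(S, V) N] [AddCommGroup N'] [Module Γ(S, V) N']
        (φ : N →ₗ[Γ(S, V)] N') (z : N ⊗[Γ(S, V)] Γ(Spec (S.residueField s), ⊤)),
        φ.rTensor _ (el.lTensor N z) = el.lTensor N' (φ.rTensor _ z) := by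
      intro N N' _ _ _ _ φ z
      induction z using TensorProduct.induction_on with
      | zero => simp
      | tmul n k => simp
      | add y z hy hz => simp only [map_add, hy, hz]
    rw [hc] at hw
    obtain ⟨t, y, hy⟩ := hS w' ((el.lTensor _).injective (hw.trans (map_zero _).symm))
    refine ⟨el.lTensor _ t, el.lTensor _ y, ?_⟩
    rw [hc, hc, hy, map_sub]
  obtain ⟨a, ha, hsp⟩ := Loc.split_of_surj_C D (by omega) rfl (Fibre.isFrac hV hs) hS'
  exact ⟨a, (Scheme.evaluation_ne_zero_iff_mem_basicOpen _ _ hs _).1 ha, hsp⟩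


section Epi

variable {s : S} [F.IsQuasicoherent] [HasInjectiveResolutions X.Modules]
  [HasInjectiveResolutions (f.fiber s).Modules] [IsProper f]
  {Δ : RDer.DerivedLES (pushforward f)} {Δs : RDer.DerivedLES (pushforward (f.fiberToSpecResidueField s))}
  {E : CohCmp.SectCmp f Δ} {Es : CohCmp.SectCmp (f.fiberToSpecResidueField s) Δs}
  (Bs : CohCmp.GenBC f (S.fromSpecResidueField s) (f.fiberToSpecResidueField s) (f.fiberι s)
    (f.fiber_fac s) E Es) (p : ℕ)

/-- Splitting at a point makes the fibre map bijective. -/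
theorem epi_of_sp (hV : IsAffineOpen V) (D : Dat f F V) (h : Sp D p s) : Epi (Bs.bc p F) := by
  haveI : IsIso (Bs.bc p F) := isIso_bc (IsPullback.of_hasPullback f (S.fromSpecResidueField s)) Bs p
    fun z => ⟨V, hV, D, by rwa [Scheme.fromSpecResidueField_apply]⟩
  infer_instance

theorem surjective_top_of_epi {K : Type u} [Field K] {M N : (Spec (CommRingCat.of K)).Modules}
    (φ : M ⟶ N) [Epi φ] : Function.Surjective (φ.app ⊤) := by
  intro t
  let x : Spec (CommRingCat.of K) := IsLocalRing.closedPoint K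
  have hep : Epi ((Groth.Agent.Lib.Modules.Stalk.stalkFunctor _ x).map φ) := inferInstance
  obtain ⟨v, hv⟩ := (AddCommGrpCat.epi_iff_surjective _).1 hep
    (N.presheaf.germ ⊤ x trivial t)
  obtain ⟨U, hx, m, rfl⟩ := TopCat.Presheaf.exists_germ_eq M.presheaf v
  obtain rfl : U = ⊤ := eq_top_iff.2 fun y _ => (Subsingleton.elim y x) ▸ hx
  refine ⟨m, ?_⟩
  have h1 : N.presheaf.germ ⊤ x trivial (φ.app ⊤ m) = N.presheaf.germ ⊤ x trivial t :=
    (Groth.Agent.Lib.Modules.Stalk.stalkFunctor_map_germ x φ hx m).symm.trans hv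
  obtain ⟨W, hxW, i₁, i₂, hW⟩ := TopCat.Presheaf.germ_eq N.presheaf (U := ⊤) (V := ⊤) x trivial trivial _ _ h1
  obtain rfl : W = ⊤ := eq_top_iff.2 fun y _ => (Subsingleton.elim y x) ▸ hxW
  rw [Subsingleton.elim i₁ (𝟙 _), Subsingleton.elim i₂ (𝟙 _), op_id, CategoryTheory.Functor.map_id] at hW
  exact hW

/-- Surjectivity at a point splits near it. -/
theorem sp_of_epi (hV : IsAffineOpen V) (D : Dat f F V) (hs : s ∈ V) (h : Epi (Bs.bc p F)) :
    Sp D p s := by
  let g := S.fromSpecResidueField s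
  have e : (⊤ : (Spec (S.residueField s)).Opens) ≤ g ⁻¹ᵁ V := fun z _ => by
    show g z ∈ V
    rwa [Scheme.fromSpecResidueField_apply]
  letI := Pair.alg g e
  letI := Pair.overOpen f V
  haveI := D.finite
  haveI := h
  have hsur : Function.Surjective ((Bs.bc p F).app ⊤) :=
    surjective_top_of_epi (K := S.residueField s) (Bs.bc p F)
  have hS := (Pair.surjective_iff (IsPullback.of_hasPullback f g) e hV (isAffineOpen_top _) F p Bs D.U
    D.hU D.hcov (i := (p : ℤ) - 1) (k := (p : ℤ) + 1) (by omega) rfl).1 hsur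
  exact sp_of_surj p hV D hs e hS

end Epi

section Vanishing

variable [F.IsQuasicoherent] {s : S} (hV : IsAffineOpen V) (D : Dat f F V)

include hV in
/-- Vanishing on a fibre splits two differentials and kills the model cohomology near the point. -/
theorem exists_of_vanishing (hs : s ∈ V) (p : ℕ) (hH : Subsingleton (CohIII.fiberH f F s p)) :
    ∃ a : Γ(S, V), s ∈ S.basicOpen a ∧
      Split.IsSplit (Transfer.dl D.L (p : ℤ) ((p : ℤ) + 1)) a ∧
      Split.IsSplit (Transfer.dl D.L ((p : ℤ) - 1) (p : ℤ)) a ∧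
      ∀ z, Transfer.dl D.L (p : ℤ) ((p : ℤ) + 1) z = 0 →
        a • z ∈ LinearMap.range (Transfer.dl D.L ((p : ℤ) - 1) (p : ℤ)) := by
  letI := Pair.overOpen f V
  letI := Fibre.algPt S hs
  obtain ⟨a, ha, h⟩ := Loc.split_of_exact_C D (i := (p : ℤ) - 1) (k := (p : ℤ) + 1) (by omega) rfl
    (Fibre.isFrac hV hs)
    (Fibre.exact_of_vanishing f hV hs F (i := (p : ℤ) - 1) (by omega) rfl D hH)
  exact ⟨a, (Scheme.evaluation_ne_zero_iff_mem_basicOpen _ _ hs _).1 ha, h⟩

include hV in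
theorem vanishing_of_split (p : ℕ) (a : Γ(S, V)) (hs : s ∈ S.basicOpen a)
    (h1 : Split.IsSplit (Transfer.dl D.L (p : ℤ) ((p : ℤ) + 1)) a)
    (h2 : ∀ z, Transfer.dl D.L (p : ℤ) ((p : ℤ) + 1) z = 0 →
      a • z ∈ LinearMap.range (Transfer.dl D.L ((p : ℤ) - 1) (p : ℤ))) :
    Subsingleton (CohIII.fiberH f F s p) := by
  letI := Pair.overOpen f V
  have hsV : s ∈ V := S.basicOpen_le a hs
  letI := Fibre.algPt S hsV
  exact Fibre.vanishing_of_exact f hV hsV F (i := (p : ℤ) - 1) (by omega) rfl D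
    (Loc.exact_C D (by omega) rfl h1 h2 (evaluation_bijective hsV hs))

include hV in
/-- In negative degrees every differential splits. -/
theorem sp_neg (hs : s ∈ V) (j : ℤ) (hj : j < 0) : Sp D j s := by
  letI := Pair.overOpen f V
  letI := Fibre.algPt S hs
  haveI : Subsingleton ((Loc.CC D).X j) :=
    ModuleCat.subsingleton_of_isZero (ZarCoh.Exchange.Complex.isZero_C Γ(S, V) D.U _ j hj)
  haveI : Subsingleton (((Loc.CC D).X j : Type u) ⊗[Γ(S, V)] S.residueField s) :=
    subsingleton_of_forall_eq 0 fun w => by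
      induction w using TensorProduct.induction_on with
      | zero => rfl
      | tmul x k => rw [Subsingleton.elim x 0, TensorProduct.zero_tmul]
      | add a b ha hb => rw [ha, hb, add_zero]
  obtain ⟨a, ha, h, -⟩ := Loc.split_of_exact_C D (i := j - 1) (k := j + 1) (by omega) rfl
    (Fibre.isFrac hV hs) fun w _ => ⟨0, Subsingleton.elim _ _⟩
  exact ⟨a, (Scheme.evaluation_ne_zero_iff_mem_basicOpen _ _ hs _).1 ha, h⟩

include hV in
/-- High degrees split. -/
theorem sp_of_bdd (hs : s ∈ V) {b : ℤ} (hb : ∀ i, b < i → IsZero (D.L.X i)) (j : ℤ) (hj : b < j + 1) :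
    Sp D j s := by
  refine ⟨1, by rwa [S.basicOpen_of_isUnit isUnit_one], 0, ?_⟩
  haveI := ModuleCat.subsingleton_of_isZero (hb (j + 1) hj)
  exact LinearMap.ext fun v => Subsingleton.elim _ _

end Vanishing

section Sections

variable [F.IsQuasicoherent] [HasInjectiveResolutions X.Modules] [IsProper f]
  {Δ : RDer.DerivedLES (pushforward f)} (E : CohCmp.SectCmp f Δ) (hV : IsAffineOpen V)
  (D : Dat f F V)

include E hV in
theorem nonempty_sections (p : ℕ) :
    Nonempty (Γ((Coh.Rpush f p).obj F, V) ≃ₗ[Γ(S, V)]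
      Split.Hm (Transfer.dl_dl D.L ((p : ℤ) - 1) p ((p : ℤ) + 1))) := by
  letI := Pair.overOpen f V
  obtain ⟨e⟩ := Loc.nonempty_HH D (p := p) (i := (p : ℤ) - 1) (k := (p : ℤ) + 1) (by omega) rfl
  exact ⟨(Pair.εlin hV F p E).symm.trans e⟩

theorem qcoh_Rpush (p : ℕ) : ((Coh.Rpush f p).obj F).IsQuasicoherent := by
  haveI : Coh.IsQCoh F := ‹F.IsQuasicoherent›
  exact Groth.Agent.S0030.result f F p

include E hV in
/-- Killed cohomology gives vanishing of the direct image. -/
theorem subsingleton_of_kill (p : ℕ) (a : Γ(S, V))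
    (h : ∀ z, Transfer.dl D.L (p : ℤ) ((p : ℤ) + 1) z = 0 →
      a • z ∈ LinearMap.range (Transfer.dl D.L ((p : ℤ) - 1) (p : ℤ))) :
    Subsingleton Γ((Coh.Rpush f p).obj F, S.basicOpen a) := by
  haveI := qcoh_Rpush (f := f) (F := F) p
  obtain ⟨e⟩ := nonempty_sections E hV D p
  refine OpenSec.subsingleton_basicOpen _ hV a fun t => e.injective ?_
  obtain ⟨z, hz⟩ := Submodule.mkQ_surjective _ (e t)
  rw [_root_.map_smul, map_zero, ← hz, ← _root_.map_smul]
  obtain ⟨y, hy⟩ := h z.1 z.2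
  exact (Submodule.Quotient.mk_eq_zero _).2 ⟨y, Subtype.ext hy⟩

include E hV in
/-- Two split differentials give local freeness. -/
theorem projective_of_split (p : ℕ) (a : Γ(S, V))
    (h1 : Split.IsSplit (Transfer.dl D.L (p : ℤ) ((p : ℤ) + 1)) a)
    (h2 : Split.IsSplit (Transfer.dl D.L ((p : ℤ) - 1) (p : ℤ)) a) :
    Module.Finite Γ(S, S.basicOpen a) Γ((Coh.Rpush f p).obj F, S.basicOpen a) ∧
      Module.Projective Γ(S, S.basicOpen a) Γ((Coh.Rpush f p).obj F, S.basicOpen a) := by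
  letI := Pair.overOpen f V
  haveI := qcoh_Rpush (f := f) (F := F) p
  haveI := (D.hfree p).1
  haveI := (D.hfree p).2
  obtain ⟨e⟩ := nonempty_sections E hV D p
  obtain ⟨j, π, hπ⟩ := Split.retract (Transfer.dl_dl D.L ((p : ℤ) - 1) p ((p : ℤ) + 1)) h1 h2
  refine OpenSec.projective_basicOpen _ hV a (j ∘ₗ e.toLinearMap) (e.symm.toLinearMap ∘ₗ π) (N := 2)
    fun v => ?_
  simp only [LinearMap.comp_apply, LinearEquiv.coe_coe, hπ, LinearEquiv.map_smul, LinearEquiv.symm_apply_apply,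
    pow_two]

include E hV in
/-- Local freeness propagates splitting downwards. -/
theorem sp_pred (p : ℕ) {U : S.Opens} (hU : FlatMod.IsFinLocFree (((Coh.Rpush f p).obj F).restrict U.ι))
    {s : S} (hsU : s ∈ U) (hsV : s ∈ V) (h : Sp D p s) : Sp D ((p : ℤ) - 1) s := by
  letI := Pair.overOpen f V
  haveI := qcoh_Rpush (f := f) (F := F) p
  haveI := fun n => (D.hfree n).1
  haveI := fun n => (D.hfree n).2
  obtain ⟨a, ha, hsp⟩ := h
  obtain ⟨b, hbU, hsb⟩ := hV.exists_basicOpen_le (⟨s, hsU⟩ : U) hsV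
  haveI := (OpenSec.projective_sections _ hU (hV.basicOpen b) hbU).2
  obtain ⟨e⟩ := nonempty_sections E hV D p
  haveI := OpenSec.projective_away _ hV b e
  obtain ⟨τ, n, m, hτ⟩ := Split.exists_section (Transfer.dl_dl D.L ((p : ℤ) - 1) p ((p : ℤ) + 1)) hsp b
  refine ⟨a ^ n * b ^ m * a, mem_basicOpen_mul (mem_basicOpen_mul (mem_basicOpen_pow ha n)
    (mem_basicOpen_pow hsb m)) ha, split_congr D.L (i := (p : ℤ) - 1) (j := (p : ℤ)) rfl (by omega) ?_⟩
  exact Split.split_prev _ hsp τ hτ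

end Sections

end

end Groth.Agent.H54.BCX.Crit
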