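import Groth.Agent.H54.BCX.AlongComp
import Groth.Agent.Lib.CohDelta.BC.PullOn
import Groth.Agent.Lib.CohDelta.BC.Transpose
import Groth.Agent.Lib.CohDelta.Units
import Groth.Agent.Lib.CohDelta.Sect

/-!
# Base change maps of two squares side by side
-/

set_option autoImplicit false
set_option linter.style.haveILetI false
set_option maxHeartbeats 1000000

universe u

open CategoryTheory AlgebraicGeometry AlgebraicGeometry.Scheme.Modules
open TopologicalSpace Opposite CategoryTheory.Abelian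
open Groth.Agent.Lib Groth.Agent.Lib.ZarCoh.Basic Groth.Agent.Lib.ZarCoh.Compare
open Groth.Agent.Lib.CohDelta.Basic

namespace Groth.Agent.H54.BCX.Horiz

noncomputable section

variable {X Y Z : Scheme.{u}} (f : X ⟶ Y) (g : Y ⟶ Z)

theorem unit_comp_unit (M : Z.Modules) :
    abMap ((pullbackPushforwardAdjunction g).unit.app M) ≫
        (CohTop.push g.base).map (abMap ((pullbackPushforwardAdjunction f).unit.app ((pullback g).obj M))) =
      (abMap ((pullbackPushforwardAdjunction (f ≫ g)).unit.app M) ≫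
          (CohTop.push (f ≫ g).base).map (abMap ((pullbackComp f g).inv.app M)) :
        Coh.toAb M ⟶ _) := by
  refine Sheaf.hom_ext (NatTrans.ext (funext fun O ↦ ?_))
  refine AddCommGrpCat.hom_ext (AddMonoidHom.ext fun s ↦ ?_)
  exact CohDelta.Units.eta_comp f g M O.unop s

/-- Pullback of classes along a composition. -/
theorem pullOn_comp {U : Z.Opens} {U' : Y.Opens} {U'' : X.Opens} (hg : U' ≤ g ⁻¹ᵁ U)
    (hf : U'' ≤ f ⁻¹ᵁ U') (hfg : U'' ≤ (f ≫ g) ⁻¹ᵁ U) (M : Z.Modules) (n : ℕ)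
    (y : Coh.HHon Z M U n) :
    CohPull.mapH ((restrictFunctor U''.ι).map ((pullbackComp f g).hom.app M)) n
        (CohPull.pullOn f U' U'' hf ((pullback g).obj M) n (CohPull.pullOn g U U' hg M n y)) =
      CohPull.pullOn (f ≫ g) U U'' hfg M n y := by
  apply (CohDelta.Basic.hU ((pullback (f ≫ g)).obj M) U'' n).injective
  refine (CohDelta.Basic.hU_mapH _ U'' n _).trans ?_
  show Ext.comp (CohDelta.Basic.hU ((pullback f).obj ((pullback g).obj M)) U'' n _)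
    (Ext.mk₀ (abMap ((pullbackComp f g).hom.app M))) (add_zero n) = _
  rw [CohDelta.BC.PullOn.hU_pullOn, CohDelta.BC.PullOn.hU_pullOn, CohDelta.BC.PullOn.hU_pullOn]
  let G := Coh.toAb ((pullback f).obj ((pullback g).obj M))
  have h1 := AlongComp.along_rs f.base n (F := Coh.toAb ((pullback g).obj M)) (G := G)
    (abMap ((pullbackPushforwardAdjunction f).unit.app ((pullback g).obj M))) hg (f.preimage_mono hg)
    (CohDelta.BC.PushCls.along g.base U (G := Coh.toAb ((pullback g).obj M))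
      (abMap ((pullbackPushforwardAdjunction g).unit.app M) : Coh.toAb M ⟶ _) n
      (CohDelta.Basic.hU M U n y))
  have h2 := AlongComp.along_comp f.base g.base n (F := Coh.toAb M) (G := Coh.toAb ((pullback g).obj M))
    (H := G) (abMap ((pullbackPushforwardAdjunction g).unit.app M))
    (abMap ((pullbackPushforwardAdjunction f).unit.app ((pullback g).obj M))) U (CohDelta.Basic.hU M U n y)
  have h3 : CohDelta.BC.PushCls.along (f.base ≫ g.base) U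
      (abMap ((pullbackPushforwardAdjunction g).unit.app M) ≫
        (CohTop.push g.base).map (abMap ((pullbackPushforwardAdjunction f).unit.app ((pullback g).obj M))) :
          Coh.toAb M ⟶ (CohTop.push (f.base ≫ g.base)).obj G) n (CohDelta.Basic.hU M U n y) =
      (CohDelta.BC.PushCls.along (f ≫ g).base U (abMap ((pullbackPushforwardAdjunction (f ≫ g)).unit.app M))
        n (CohDelta.Basic.hU M U n y)).comp (Ext.mk₀ (abMap ((pullbackComp f g).inv.app M))) (add_zero n) := by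
    have h := CohDelta.BC.PushCls.along_natural (f ≫ g).base U (𝟙 (Coh.toAb M))
      (abMap ((pullbackComp f g).inv.app M))
      (abMap ((pullbackPushforwardAdjunction (f ≫ g)).unit.app M))
      (abMap ((pullbackPushforwardAdjunction g).unit.app M) ≫
        (CohTop.push g.base).map (abMap ((pullbackPushforwardAdjunction f).unit.app ((pullback g).obj M))) :
          Coh.toAb M ⟶ (CohTop.push (f ≫ g).base).obj G)
      ((Category.id_comp _).trans (unit_comp_unit f g M)) n (CohDelta.Basic.hU M U n y)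
    rw [Ext.comp_mk₀_id] at h
    exact h
  refine (congrArg (fun k ↦ Ext.comp (rs G n hf k) (Ext.mk₀ (abMap ((pullbackComp f g).hom.app M)))
    (add_zero n)) (h1.trans (congrArg (rs G n _) (h2.trans h3)))).trans ?_
  refine (congrArg (fun k ↦ Ext.comp k (Ext.mk₀ (abMap ((pullbackComp f g).hom.app M))) (add_zero n))
    (CohDelta.Loc.rs_rs _ _ hf _)).trans ?_
  refine (rs_comp n (add_zero n) _ _ (Ext.mk₀ (abMap ((pullbackComp f g).hom.app M)))).symm.trans ?_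
  refine congrArg (rs (Coh.toAb ((pullback (f ≫ g)).obj M)) n hfg) ?_
  refine (Ext.comp_assoc_of_second_deg_zero _ _ _ _).trans ?_
  refine Eq.trans ?_ (Ext.comp_mk₀_id _)
  refine congrArg (fun k ↦ Ext.comp _ k (add_zero n)) ((Ext.mk₀_comp_mk₀ _ _).trans (congrArg Ext.mk₀ ?_))
  exact ((abF X).map_comp _ _).symm.trans ((congrArg (abF X).map
    ((pullbackComp f g).inv_hom_id_app M)).trans ((abF X).map_id _))

section Main

variable {U V W : Scheme.{u}} {ξ : X ⟶ U} {η : Y ⟶ V} {ζ : Z ⟶ W} {φ : U ⟶ V} {ψ : V ⟶ W}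
  {f : X ⟶ Y} {g : Y ⟶ Z} {w₁ : f ≫ η = ξ ≫ φ} {w₂ : g ≫ ζ = η ≫ ψ}
  {hw : (f ≫ g) ≫ ζ = ξ ≫ (φ ≫ ψ)}
  [HasInjectiveResolutions X.Modules] [HasInjectiveResolutions Y.Modules] [HasInjectiveResolutions Z.Modules]
  {Δζ : RDer.DerivedLES (pushforward ζ)} {Δη : RDer.DerivedLES (pushforward η)}
  {Δξ : RDer.DerivedLES (pushforward ξ)}
  {Eζ : CohCmp.SectCmp ζ Δζ} {Eη : CohCmp.SectCmp η Δη} {Eξ : CohCmp.SectCmp ξ Δξ}
  (B₂ : CohCmp.GenBC ζ ψ η g w₂ Eζ Eη) (B₁ : CohCmp.GenBC η φ ξ f w₁ Eη Eξ)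
  (B : CohCmp.GenBC ζ (φ ≫ ψ) ξ (f ≫ g) hw Eζ Eξ) (L : Z.Modules) (p : ℕ)

theorem bc_eta {X S S' X' : Scheme.{u}} {f : X ⟶ S} {g : S' ⟶ S} {f' : X' ⟶ S'} {g' : X' ⟶ X}
    {w : g' ≫ f = f' ≫ g} [HasInjectiveResolutions X.Modules] [HasInjectiveResolutions X'.Modules]
    {Δ : RDer.DerivedLES (pushforward f)} {Δ' : RDer.DerivedLES (pushforward f')}
    {E : CohCmp.SectCmp f Δ} {E' : CohCmp.SectCmp f' Δ'} (B : CohCmp.GenBC f g f' g' w E E')
    (F : X.Modules) (q : ℕ) (O : S.Opens) (t : Γ((Coh.Rpush f q).obj F, O)) :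
    (B.bc q F).app (g ⁻¹ᵁ O) (CohDelta.Units.eta g ((Coh.Rpush f q).obj F) O t) =
      (B.φ q F).app O t :=
  congr(($((Adjunction.homEquiv_unit (adj := pullbackPushforwardAdjunction g) _ _ (B.bc q F)).symm.trans
    (Equiv.apply_symm_apply _ _))).app O t)

/-- The two composites agree on classes. -/
theorem key_eps (O : W.Opens) (y : Coh.HHon Z L (ζ ⁻¹ᵁ O) p) :
    ((pullbackComp φ ψ).hom.app ((Coh.Rpush ζ p).obj L) ≫ B.bc p L).app (φ ⁻¹ᵁ (ψ ⁻¹ᵁ O))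
        (CohDelta.Units.eta φ _ (ψ ⁻¹ᵁ O) (CohDelta.Units.eta ψ _ O (Eζ.ε O L p y))) =
      ((pullback φ).map (B₂.bc p L) ≫ B₁.bc p ((pullback g).obj L) ≫
        (Coh.Rpush ξ p).map ((pullbackComp f g).hom.app L)).app (φ ⁻¹ᵁ (ψ ⁻¹ᵁ O))
        (CohDelta.Units.eta φ _ (ψ ⁻¹ᵁ O) (CohDelta.Units.eta ψ _ O (Eζ.ε O L p y))) := by
  let R := (Coh.Rpush ζ p).obj L
  have hl : ((pullbackComp φ ψ).hom.app R ≫ B.bc p L).app (φ ⁻¹ᵁ (ψ ⁻¹ᵁ O))
      (CohDelta.Units.eta φ _ (ψ ⁻¹ᵁ O) (CohDelta.Units.eta ψ R O (Eζ.ε O L p y))) =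
      Eξ.ε (φ ⁻¹ᵁ (ψ ⁻¹ᵁ O)) ((pullback (f ≫ g)).obj L) p
        (CohPull.pullOn (f ≫ g) (ζ ⁻¹ᵁ O) (ξ ⁻¹ᵁ ((φ ≫ ψ) ⁻¹ᵁ O))
          (CohCmp.sqLE ζ (φ ≫ ψ) ξ (f ≫ g) hw O) L p y) := by
    rw [Hom.comp_app, ConcreteCategory.comp_apply]
    refine (congrArg ((B.bc p L).app ((φ ≫ ψ) ⁻¹ᵁ O)) (CohDelta.Units.comp_eta φ ψ R O _)).trans ?_
    exact (bc_eta B L p O _).trans (B.compat O L p y)
  refine hl.trans ?_
  rw [Hom.comp_app, Hom.comp_app, ConcreteCategory.comp_apply, ConcreteCategory.comp_apply]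
  have e2 : (B₂.bc p L).app (ψ ⁻¹ᵁ O) (CohDelta.Units.eta ψ R O (Eζ.ε O L p y)) =
      Eη.ε (ψ ⁻¹ᵁ O) ((pullback g).obj L) p
        (CohPull.pullOn g (ζ ⁻¹ᵁ O) (η ⁻¹ᵁ (ψ ⁻¹ᵁ O)) (CohCmp.sqLE ζ ψ η g w₂ O) L p y) :=
    (bc_eta B₂ L p O _).trans (B₂.compat O L p y)
  rw [CohDelta.Units.eta_map φ (B₂.bc p L), e2]
  erw [bc_eta B₁, B₁.compat]
  refine Eq.trans ?_ (Eξ.natural _ _ _ _)
  exact congrArg _ (pullOn_comp f g _ _ _ L p y).symm

/-- The two composites agree. -/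
theorem bc_comp :
    (pullbackComp φ ψ).hom.app ((Coh.Rpush ζ p).obj L) ≫ B.bc p L =
      (pullback φ).map (B₂.bc p L) ≫ B₁.bc p ((pullback g).obj L) ≫
        (Coh.Rpush ξ p).map ((pullbackComp f g).hom.app L) := by
  apply ((pullbackPushforwardAdjunction φ).homEquiv _ _).injective
  apply ((pullbackPushforwardAdjunction ψ).homEquiv _ _).injective
  let R := (Coh.Rpush ζ p).obj L
  let T := (Coh.Rpush ξ p).obj ((pullback (f ≫ g)).obj L)
  rw [Adjunction.homEquiv_unit, Adjunction.homEquiv_unit, Adjunction.homEquiv_unit,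
    Adjunction.homEquiv_unit]
  refine Scheme.Modules.hom_ext _ _ fun O ↦ ?_
  refine AddCommGrpCat.hom_ext (AddMonoidHom.ext fun t ↦ ?_)
  let a : (pullback φ).obj ((pullback ψ).obj R) ⟶ T :=
    (pullbackComp φ ψ).hom.app R ≫ B.bc p L
  let b : (pullback φ).obj ((pullback ψ).obj R) ⟶ T :=
    (pullback φ).map (B₂.bc p L) ≫ B₁.bc p ((pullback g).obj L) ≫
      (Coh.Rpush ξ p).map ((pullbackComp f g).hom.app L)
  show a.app (φ ⁻¹ᵁ (ψ ⁻¹ᵁ O)) (CohDelta.Units.eta φ _ (ψ ⁻¹ᵁ O) (CohDelta.Units.eta ψ R O t)) =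
    b.app (φ ⁻¹ᵁ (ψ ⁻¹ᵁ O)) (CohDelta.Units.eta φ _ (ψ ⁻¹ᵁ O) (CohDelta.Units.eta ψ R O t))
  have hres : ∀ (c : (pullback φ).obj ((pullback ψ).obj R) ⟶ T) {O' : W.Opens} (h : O' ≤ O),
      T.presheaf.map (homOfLE (φ.preimage_mono (ψ.preimage_mono h))).op
        (c.app (φ ⁻¹ᵁ (ψ ⁻¹ᵁ O)) (CohDelta.Units.eta φ _ (ψ ⁻¹ᵁ O) (CohDelta.Units.eta ψ R O t))) =
      c.app (φ ⁻¹ᵁ (ψ ⁻¹ᵁ O')) (CohDelta.Units.eta φ _ (ψ ⁻¹ᵁ O')
        (CohDelta.Units.eta ψ R O' (R.presheaf.map (homOfLE h).op t))) := fun c O' h ↦ by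
    refine (c.mapPresheaf.naturality_apply (homOfLE (φ.preimage_mono (ψ.preimage_mono h))).op _).symm.trans
      (congrArg (c.app (φ ⁻¹ᵁ (ψ ⁻¹ᵁ O'))) ?_)
    refine (((pullbackPushforwardAdjunction φ).unit.app ((pullback ψ).obj R)).mapPresheaf.naturality_apply
      (homOfLE (ψ.preimage_mono h)).op _).symm.trans (congrArg _ ?_)
    exact (((pullbackPushforwardAdjunction ψ).unit.app R).mapPresheaf.naturality_apply (homOfLE h).op t).symm
  refine TopCat.Presheaf.section_ext ⟨T.presheaf, T.isSheaf⟩ _ _ _ fun u hu ↦ ?_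
  obtain ⟨O', h', hu', x, hx⟩ := CohDelta.Sect.eps_locally_surjective Eζ p L O t (ψ (φ u)) hu
  obtain ⟨y, rfl⟩ := (CohDelta.Basic.hU L (ζ ⁻¹ᵁ O') p).surjective x
  rw [CohDelta.Sect.eps_hU] at hx
  have key : a.app (φ ⁻¹ᵁ (ψ ⁻¹ᵁ O')) (CohDelta.Units.eta φ _ (ψ ⁻¹ᵁ O') (CohDelta.Units.eta ψ R O' (Eζ.ε O' L p y))) =
      b.app (φ ⁻¹ᵁ (ψ ⁻¹ᵁ O')) (CohDelta.Units.eta φ _ (ψ ⁻¹ᵁ O') (CohDelta.Units.eta ψ R O' (Eζ.ε O' L p y))) :=
    key_eps B₂ B₁ B L p O' y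
  rw [hx, ← hres a h', ← hres b h'] at key
  have := congrArg (T.presheaf.germ (φ ⁻¹ᵁ (ψ ⁻¹ᵁ O')) u hu') key
  erw [TopCat.Presheaf.germ_res_apply, TopCat.Presheaf.germ_res_apply] at this
  exact this

end Main

end

end Groth.Agent.H54.BCX.Horiz
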