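import Groth.Agent.H54.BCX.Square

/-!
# Base change of a universal quasi-isomorphism
-/

set_option autoImplicit false
set_option linter.style.haveILetI false
set_option maxHeartbeats 1000000
universe u

open CategoryTheory Limits
open scoped TensorProduct
open Groth.Agent.Lib
open ZarCoh.Exchange.ExtScalars

namespace Groth.Agent.H54.BCX.Lift

noncomputable section

variable {A B : Type u} [CommRing A] [CommRing B] [Algebra A B]
  {L C : CochainComplex (ModuleCat.{u} A) ℤ} {L' C' : CochainComplex (ModuleCat.{u} B) ℤ}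

theorem ext_gen (h : IsBCCx L L') {i : ℤ} {N : Type u} [AddCommGroup N]
    (f₁ f₂ : (L'.X i : Type u) →+ N) (e : ∀ (b : B) x, f₁ (b • h.β i x) = f₂ (b • h.β i x)) :
    f₁ = f₂ := by
  refine AddMonoidHom.ext fun z => ?_
  obtain ⟨w, rfl⟩ := (Square.Θ_bijective h i).2 z
  induction w using TensorProduct.induction_on with
  | zero => simp only [map_zero]
  | tmul x b => exact e b x
  | add x y hx hy => simp only [map_add, hx, hy]

/-- The component of the lifted map. -/
def comp (hL : IsBCCx L L') (hC : IsBCCx C C') (u : L ⟶ C) (i : ℤ) :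
    (L'.X i : Type u) →+ (C'.X i : Type u) :=
  ((Square.Θ hC i).comp ((u.f i).hom.rTensor B).toAddMonoidHom).comp
    (AddEquiv.ofBijective (Square.Θ hL i) (Square.Θ_bijective hL i)).symm.toAddMonoidHom

theorem comp_gen (hL : IsBCCx L L') (hC : IsBCCx C C') (u : L ⟶ C) (i : ℤ) (b : B) (x : L.X i) :
    comp hL hC u i (b • hL.β i x) = b • hC.β i ((u.f i).hom x) := by
  have h : (AddEquiv.ofBijective (Square.Θ hL i) (Square.Θ_bijective hL i)).symm (b • hL.β i x) =
      x ⊗ₜ b := (AddEquiv.symm_apply_eq _).2 rfl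
  show Square.Θ hC i ((u.f i).hom.rTensor B _) = _
  rw [show (AddEquiv.ofBijective (Square.Θ hL i) (Square.Θ_bijective hL i)).symm.toAddMonoidHom
    (b • hL.β i x) = x ⊗ₜ b from h]
  rfl

theorem comp_smul (hL : IsBCCx L L') (hC : IsBCCx C C') (u : L ⟶ C) (i : ℤ) (c : B) (z : L'.X i) :
    comp hL hC u i (c • z) = c • comp hL hC u i z := by
  refine DFunLike.congr_fun (ext_gen hL ((comp hL hC u i).comp (DistribSMul.toAddMonoidHom _ c))
    ((DistribSMul.toAddMonoidHom _ c).comp (comp hL hC u i)) fun b x => ?_) z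
  show comp hL hC u i (c • b • hL.β i x) = c • comp hL hC u i (b • hL.β i x)
  rw [smul_smul, comp_gen, comp_gen, smul_smul]

theorem comp_d (hL : IsBCCx L L') (hC : IsBCCx C C') (u : L ⟶ C) (i j : ℤ) (z : L'.X i) :
    C'.d i j (comp hL hC u i z) = comp hL hC u j (L'.d i j z) := by
  refine DFunLike.congr_fun (ext_gen hL ((C'.d i j).hom.toAddMonoidHom.comp (comp hL hC u i))
    ((comp hL hC u j).comp (L'.d i j).hom.toAddMonoidHom) fun b x => ?_) z
  show C'.d i j (comp hL hC u i (b • hL.β i x)) = comp hL hC u j (L'.d i j (b • hL.β i x))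
  rw [comp_gen, map_smul, map_smul, hL.comm, hC.comm, comp_gen]
  exact congrArg (fun t => b • hC.β j t) (ConcreteCategory.congr_hom (u.comm i j) x)

/-- The lifted chain map. -/
def lift (hL : IsBCCx L L') (hC : IsBCCx C C') (u : L ⟶ C) : L' ⟶ C' where
  f i := ModuleCat.ofHom
    { toFun := comp hL hC u i
      map_add' := map_add _
      map_smul' := comp_smul hL hC u i }
  comm' i j _ := ModuleCat.hom_ext (LinearMap.ext fun z => comp_d hL hC u i j z)

/-- The lift is a universal quasi-isomorphism. -/
theorem bijective_lift (hL : IsBCCx L L') (hC : IsBCCx C C') (u : L ⟶ C) (M : ModuleCat.{u} B) (p : ℤ)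
    (hu : Function.Bijective
      (HomologicalComplex.homologyMap (FlatCx.Above.tmap u ((res (A := A)).obj M)) p)) :
    Function.Bijective (HomologicalComplex.homologyMap (FlatCx.Above.tmap (lift hL hC u) M) p) := by
  let M' := (res (A := A) (B := B)).obj M
  have hθ : ∀ i (w : (L.X i : Type u) ⊗[A] M'),
      ((FlatCx.Above.tmap (lift hL hC u) M).f i).hom (θ hL M i w) =
        θ hC M i ((u.f i).hom.rTensor M' w) := fun i w => by
    induction w using TensorProduct.induction_on with
    | zero =>
      refine (congrArg _ (map_zero (θ hL M i))).trans ((map_zero _).trans ?_)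
      exact ((congrArg _ (map_zero _)).trans (map_zero (θ hC M i))).symm
    | tmul x m =>
      show comp hL hC u i (hL.β i x) ⊗ₜ[B] (show M from m) =
        hC.β i ((u.f i).hom x) ⊗ₜ[B] (show M from m)
      rw [← one_smul B (hL.β i x), comp_gen, one_smul]
    | add x y hx hy =>
      refine (congrArg _ (map_add (θ hL M i) x y)).trans ((map_add _ _ _).trans ?_)
      refine (congrArg₂ (· + ·) hx hy).trans ?_
      exact ((congrArg _ (map_add _ x y)).trans (map_add (θ hC M i) _ _)).symm
  have hsq : ∀ v, HomologicalComplex.homologyMap (FlatCx.Above.tmap (lift hL hC u) M) p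
      (homEquiv hL p M v) = homEquiv hC p M
        (HomologicalComplex.homologyMap (FlatCx.Above.tmap u M') p v) := fun v => by
    obtain ⟨z, rfl⟩ := toC_surjective p M v
    let zu : Z (C := C) p M :=
      ⟨((FlatCx.Above.tmap u M').f p).hom z.1, by
        show ((FlatCx.Above.tmap u M').f p ≫ (CohIII.tensorObj C M').d p _).hom z.1 = 0
        rw [(FlatCx.Above.tmap u M').comm]
        exact (congrArg _ z.2).trans (map_zero _)⟩
    have h1 : HomologicalComplex.homologyMap (FlatCx.Above.tmap u M') p (toC p M z) = toC p M zu :=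
      FlatCx.Elem.homologyMap_cls _ rfl z zu rfl
    have hv : ∀ {L : CochainComplex (ModuleCat.{u} A) ℤ} {L' : CochainComplex (ModuleCat.{u} B) ℤ}
        (h : IsBCCx L L') (z : Z (C := L) p M), homEquiv h p M (toC p M z) = toD h p M z :=
      fun h z => ProjCoh.CechNat.equivOfKerEq_apply _ _ _ _ _ z
    rw [h1, hv hL, hv hC]
    exact FlatCx.Elem.homologyMap_cls _ rfl _ _ (hθ p z.1)
  have h3 : (fun v => HomologicalComplex.homologyMap (FlatCx.Above.tmap (lift hL hC u) M) p v) ∘
      homEquiv hL p M = homEquiv hC p M ∘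
        fun v => HomologicalComplex.homologyMap (FlatCx.Above.tmap u M') p v := funext hsq
  exact (Function.Bijective.of_comp_iff _ (homEquiv hL p M).bijective).1
    (h3 ▸ (homEquiv hC p M).bijective.comp hu)

end

end Groth.Agent.H54.BCX.Lift
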