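import Groth.Agent.H54.BCX.Prev
import Groth.Agent.Lib.FlatCx.Above

/-!
# Transfer of the criterion along universal quasi-isomorphisms
-/

set_option autoImplicit false
set_option linter.style.haveILetI false
universe u

open TensorProduct CategoryTheory
open Groth.Agent.Lib.FlatCx.Elem

namespace Groth.Agent.H54.BCX.Transfer

open Split

variable {A : Type u} [CommRing A]

section Cx

variable (C : CochainComplex (ModuleCat.{u} A) ℤ) {i j k : ℤ}

/-- The differential as a linear map. -/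
abbrev dl (i j : ℤ) : (C.X i : Type u) →ₗ[A] (C.X j : Type u) := (C.d i j).hom

theorem dl_dl (i j k : ℤ) : dl C j k ∘ₗ dl C i j = 0 := by
  rw [← ModuleCat.hom_comp, C.d_comp_d]
  rfl

/-- Homology of a complex as cycles modulo boundaries. -/
noncomputable def hmEquiv (hij : i + 1 = j) (hjk : j + 1 = k) :
    Hm (dl_dl C i j k) ≃ₗ[A] C.homology j :=
  (Submodule.quotEquivOfEq _ _ (by
      ext z
      constructor
      · rintro ⟨p, rfl⟩; exact ⟨p, rfl⟩
      · rintro ⟨p, hp⟩; exact ⟨p, Subtype.ext hp⟩)).trans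
    (homologyEquiv (K := C) (Groth.Agent.Lib.FlatCx.Above.prev_up hij) (Groth.Agent.Lib.FlatCx.Above.next_up hjk))

theorem hmEquiv_mk (hij : i + 1 = j) (hjk : j + 1 = k) (z : LinearMap.ker (dl C j k)) :
    hmEquiv C hij hjk (mkH (dl_dl C i j k) z) =
      cls (K := C) (Groth.Agent.Lib.FlatCx.Above.next_up hjk) z := rfl

end Cx

theorem mem_range_bd_iff {P Q R : Type u} [AddCommGroup P] [Module A P] [AddCommGroup Q] [Module A Q]
    [AddCommGroup R] [Module A R] {a : P →ₗ[A] Q} {d : Q →ₗ[A] R} (hda : d ∘ₗ a = 0)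
    (M : Type u) [AddCommGroup M] [Module A M] (t : LinearMap.ker d ⊗[A] M) :
    t ∈ LinearMap.range ((bd a d hda).rTensor M) ↔ (mkH hda).rTensor M t = 0 :=
  ((rTensor_exact M (LinearMap.exact_map_mkQ_range (bd a d hda)) (Submodule.mkQ_surjective _)) t).symm

variable {L C : CochainComplex (ModuleCat.{u} A) ℤ} (φ : L ⟶ C) {i j k : ℤ}

/-- The component as a linear map. -/
abbrev fl (j : ℤ) : (L.X j : Type u) →ₗ[A] (C.X j : Type u) := (φ.f j).hom

theorem fl_dl (i j : ℤ) : fl φ j ∘ₗ dl L i j = dl C i j ∘ₗ fl φ i := by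
  rw [← ModuleCat.hom_comp, ← ModuleCat.hom_comp, φ.comm]

theorem fl_dl_apply (i j : ℤ) (x : L.X i) : fl φ j (dl L i j x) = dl C i j (fl φ i x) :=
  LinearMap.congr_fun (fl_dl φ i j) x

/-- The map of cycles. -/
def zmap (j k : ℤ) : LinearMap.ker (dl L j k) →ₗ[A] LinearMap.ker (dl C j k) :=
  LinearMap.codRestrict _ (fl φ j ∘ₗ (LinearMap.ker (dl L j k)).subtype) fun z => by
    show dl C j k (fl φ j z.1) = 0
    rw [← fl_dl_apply, z.2, map_zero]

theorem subtype_zmap (j k : ℤ) :
    (LinearMap.ker (dl C j k)).subtype ∘ₗ zmap φ j k = fl φ j ∘ₗ (LinearMap.ker (dl L j k)).subtype :=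
  rfl

theorem zmap_bd (i j k : ℤ) :
    zmap φ j k ∘ₗ bd (dl L i j) (dl L j k) (dl_dl L i j k) =
      bd (dl C i j) (dl C j k) (dl_dl C i j k) ∘ₗ fl φ i :=
  LinearMap.ext fun p => Subtype.ext (fl_dl_apply φ i j p)

/-- The induced map on cycles modulo boundaries. -/
def hmap (i j k : ℤ) : Hm (dl_dl L i j k) →ₗ[A] Hm (dl_dl C i j k) :=
  Submodule.mapQ _ _ (zmap φ j k) (by
    rintro _ ⟨p, rfl⟩
    exact ⟨fl φ i p, (LinearMap.congr_fun (zmap_bd φ i j k) p).symm⟩)

theorem hmap_bijective (hij : i + 1 = j) (hjk : j + 1 = k)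
    (h : Function.Bijective (HomologicalComplex.homologyMap φ j)) :
    Function.Bijective (hmap φ i j k) := by
  have he : ∀ v, hmEquiv C hij hjk (hmap φ i j k v) =
      HomologicalComplex.homologyMap φ j (hmEquiv L hij hjk v) := fun v => by
    obtain ⟨z, rfl⟩ := Submodule.mkQ_surjective _ v
    exact (homologyMap_cls φ (Groth.Agent.Lib.FlatCx.Above.next_up hjk) z (zmap φ j k z) rfl).symm
  have hb : Function.Bijective (hmEquiv C hij hjk ∘ hmap φ i j k) := by
    rw [show (hmEquiv C hij hjk : _ → _) ∘ hmap φ i j k = _ from funext he]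
    exact h.comp (hmEquiv L hij hjk).bijective
  exact (Function.Bijective.of_comp_iff' (hmEquiv C hij hjk).bijective _).1 hb

/-- The transferred homology, as an equivalence. -/
noncomputable def hmapEquiv (hij : i + 1 = j) (hjk : j + 1 = k)
    (h : Function.Bijective (HomologicalComplex.homologyMap φ j)) :
    Hm (dl_dl L i j k) ≃ₗ[A] Hm (dl_dl C i j k) :=
  LinearEquiv.ofBijective _ (hmap_bijective φ hij hjk h)

variable (M : ModuleCat.{u} A)

theorem subtype_bd (D : CochainComplex (ModuleCat.{u} A) ℤ) (p : (D.X i : Type u) ⊗[A] (M : Type u)) :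
    (LinearMap.ker (dl D j k)).subtype.rTensor M ((bd (dl D i j) (dl D j k) (dl_dl D i j k)).rTensor M p) =
      (dl D i j).rTensor M p :=
  (LinearMap.rTensor_comp_apply _ _ _ p).symm

theorem surj_mpr (hij : i + 1 = j) (hjk : j + 1 = k)
    (hM : Function.Surjective (HomologicalComplex.homologyMap (Groth.Agent.Lib.FlatCx.Above.tmap φ M) j))
    (hL : Surj (dl L i j) (dl L j k) M) : Surj (dl C i j) (dl C j k) M := by
  intro w hw
  obtain ⟨z, y, hz, hzy⟩ := (surjective_homologyMap_iff _ (Groth.Agent.Lib.FlatCx.Above.prev_up hij)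
    (Groth.Agent.Lib.FlatCx.Above.next_up hjk)).1 hM w hw
  obtain ⟨t, p, hp⟩ := hL z hz
  let y : (C.X i : Type u) ⊗[A] (M : Type u) := y
  refine ⟨(zmap φ j k).rTensor M t, (fl φ i).rTensor M p - y, ?_⟩
  have h1 : (fl φ j).rTensor M z = w + (dl C i j).rTensor M y := hzy
  have h2 : (LinearMap.ker (dl C j k)).subtype.rTensor M ((zmap φ j k).rTensor M t) =
      (fl φ j).rTensor M ((LinearMap.ker (dl L j k)).subtype.rTensor M t) := by
    rw [← LinearMap.rTensor_comp_apply, ← LinearMap.rTensor_comp_apply, subtype_zmap]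
  rw [h2, map_sub, ← LinearMap.rTensor_comp_apply, ← fl_dl, LinearMap.rTensor_comp_apply, hp, map_sub, h1]
  abel

theorem surj_mp (hij : i + 1 = j) (hjk : j + 1 = k)
    (h1 : Function.Bijective (HomologicalComplex.homologyMap φ j))
    (hM : Function.Injective (HomologicalComplex.homologyMap (Groth.Agent.Lib.FlatCx.Above.tmap φ M) j))
    (hC : Surj (dl C i j) (dl C j k) M) : Surj (dl L i j) (dl L j k) M := by
  intro w hw
  have hw' : (dl C j k).rTensor M ((fl φ j).rTensor M w) = 0 := by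
    rw [← LinearMap.rTensor_comp_apply, ← fl_dl, LinearMap.rTensor_comp_apply, hw, map_zero]
  obtain ⟨t, hsub⟩ := hC _ hw'
  obtain ⟨v, hv⟩ := LinearMap.rTensor_surjective (M : Type u)
    (hmap_bijective φ hij hjk h1).2 ((mkH (dl_dl C i j k)).rTensor M t)
  obtain ⟨tL, rfl⟩ := LinearMap.rTensor_surjective (M : Type u)
    (Submodule.mkQ_surjective (LinearMap.range (bd (dl L i j) (dl L j k) (dl_dl L i j k)))) v
  have h0 : (mkH (dl_dl C i j k)).rTensor M ((zmap φ j k).rTensor M tL - t) = 0 := by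
    rw [map_sub, sub_eq_zero, ← hv, ← LinearMap.rTensor_comp_apply, ← LinearMap.rTensor_comp_apply]
    rfl
  obtain ⟨p, hp⟩ := (mem_range_bd_iff (dl_dl C i j k) M _).2 h0
  obtain ⟨q, hq⟩ := hsub
  refine ⟨tL, ?_⟩
  have hcyc : (dl L j k).rTensor M (w - (LinearMap.ker (dl L j k)).subtype.rTensor M tL) = 0 := by
    rw [map_sub, hw, ← LinearMap.rTensor_comp_apply,
      show dl L j k ∘ₗ (LinearMap.ker (dl L j k)).subtype = 0 from LinearMap.ext fun z => z.2,
      LinearMap.rTensor_zero, LinearMap.zero_apply, sub_zero]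
  have h2 : (fl φ j).rTensor M ((LinearMap.ker (dl L j k)).subtype.rTensor M tL) =
      (LinearMap.ker (dl C j k)).subtype.rTensor M t + (dl C i j).rTensor M p := by
    have h3 := congrArg ((LinearMap.ker (dl C j k)).subtype.rTensor M) hp
    rw [map_sub, subtype_bd, ← LinearMap.rTensor_comp_apply, subtype_zmap,
      LinearMap.rTensor_comp_apply] at h3
    rw [h3]
    abel
  obtain ⟨y, hy⟩ := (injective_homologyMap_iff _ (Groth.Agent.Lib.FlatCx.Above.prev_up hij)
    (Groth.Agent.Lib.FlatCx.Above.next_up hjk)).1 hM _ hcyc (q - p) (by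
      show (dl C i j).rTensor M (q - p) = (fl φ j).rTensor M _
      rw [map_sub, map_sub, hq, h2]
      abel)
  exact ⟨y, hy⟩

theorem inj_mpr (hij : i + 1 = j) (hjk : j + 1 = k)
    (h1 : Function.Bijective (HomologicalComplex.homologyMap φ j))
    (hM : Function.Injective (HomologicalComplex.homologyMap (Groth.Agent.Lib.FlatCx.Above.tmap φ M) j))
    (hL : Inj (dl L i j) (dl L j k) (dl_dl L i j k) M) :
    Inj (dl C i j) (dl C j k) (dl_dl C i j k) M := by
  intro t ⟨q, hq⟩
  obtain ⟨v, hv⟩ := LinearMap.rTensor_surjective (M : Type u)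
    (hmap_bijective φ hij hjk h1).2 ((mkH (dl_dl C i j k)).rTensor M t)
  obtain ⟨tL, rfl⟩ := LinearMap.rTensor_surjective (M : Type u)
    (Submodule.mkQ_surjective (LinearMap.range (bd (dl L i j) (dl L j k) (dl_dl L i j k)))) v
  have h0 : (mkH (dl_dl C i j k)).rTensor M ((zmap φ j k).rTensor M tL - t) = 0 := by
    rw [map_sub, sub_eq_zero, ← hv, ← LinearMap.rTensor_comp_apply, ← LinearMap.rTensor_comp_apply]
    rfl
  obtain ⟨p, hp⟩ := (mem_range_bd_iff (dl_dl C i j k) M _).2 h0
  have hcyc : (dl L j k).rTensor M ((LinearMap.ker (dl L j k)).subtype.rTensor M tL) = 0 := by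
    rw [← LinearMap.rTensor_comp_apply,
      show dl L j k ∘ₗ (LinearMap.ker (dl L j k)).subtype = 0 from LinearMap.ext fun z => z.2,
      LinearMap.rTensor_zero, LinearMap.zero_apply]
  obtain ⟨y, hy⟩ := (injective_homologyMap_iff _ (Groth.Agent.Lib.FlatCx.Above.prev_up hij)
    (Groth.Agent.Lib.FlatCx.Above.next_up hjk)).1 hM _ hcyc (p + q) (by
      show (dl C i j).rTensor M (p + q) = (fl φ j).rTensor M _
      have h3 := congrArg ((LinearMap.ker (dl C j k)).subtype.rTensor M) hp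
      rw [map_sub, subtype_bd, ← LinearMap.rTensor_comp_apply, subtype_zmap,
        LinearMap.rTensor_comp_apply] at h3
      rw [map_add, h3, hq]
      abel)
  have hmem : (mkH (dl_dl L i j k)).rTensor M tL = 0 :=
    (mem_range_bd_iff (dl_dl L i j k) M tL).1 (hL tL ⟨y, hy⟩)
  refine (mem_range_bd_iff (dl_dl C i j k) M t).2 (hv.symm.trans ?_)
  rw [show (LinearMap.range (bd (dl L i j) (dl L j k) (dl_dl L i j k))).mkQ = mkH (dl_dl L i j k) from rfl,
    hmem, map_zero]

end Groth.Agent.H54.BCX.Transfer
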