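import Groth.Agent.H54.BCX.Cech
import Groth.Agent.H54.BCX.PushEdge
import Groth.Agent.H54.BCX.Transfer
import Groth.Agent.Lib.Exchange.BaseChange

/-!
# Base change of classes over an affine base is base change of the Cech complex
-/

set_option autoImplicit false
set_option linter.style.haveILetI false
set_option maxHeartbeats 1000000
universe u

open CategoryTheory Limits AlgebraicGeometry Opposite TopologicalSpace
open scoped TensorProduct
open Groth.Agent.Lib
open Groth.Agent.Lib.CechRes.Sec (rho secA resA toSec ofSec)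
open Groth.Agent.Lib.Cech.Complex (inter inter_le_face Cochain dC)
open ZarCoh.Exchange.Complex ZarCoh.Exchange.BaseChange ZarCoh.Exchange.ExtScalars

namespace Groth.Agent.H54.BCX.Square

noncomputable section

section Theta

variable {A B : Type u} [CommRing A] [CommRing B] [Algebra A B] {J : Type} {c : ComplexShape J}
  {C : HomologicalComplex (ModuleCat.{u} A) c} {D : HomologicalComplex (ModuleCat.{u} B) c}
  (h : IsBCCx C D)

/-- `x ⊗ b ↦ b β x`. -/
def Θ (j : J) : (C.X j : Type u) ⊗[A] B →+ (D.X j : Type u) :=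
  TensorProduct.liftAddHom
    (AddMonoidHom.mk' (fun x => AddMonoidHom.mk' (fun b => b • h.β j x) fun b b' => add_smul _ _ _)
      fun x x' => by
        ext b
        show b • h.β j (x + x') = b • h.β j x + b • h.β j x'
        rw [map_add, smul_add])
    fun a x b => by
      show b • h.β j (a • x) = (a • b) • h.β j x
      rw [h.smul, smul_smul, Algebra.smul_def, mul_comm]

theorem Θ_tmul (j : J) (x : C.X j) (b : B) : Θ h j (x ⊗ₜ b) = b • h.β j x := rfl

theorem Θ_bijective (j : J) : Function.Bijective (Θ h j) := by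
  letI : Module A (D.X j) := Module.compHom (D.X j) (algebraMap A B)
  haveI : IsScalarTower A B (D.X j) := IsScalarTower.of_algebraMap_smul fun _ _ => rfl
  let E := (TensorProduct.comm A (C.X j) B).toAddEquiv.trans
    (LinearEquiv.ofBijective _ (h.bij j)).toAddEquiv
  have e : ∀ z, Θ h j z = E z := fun z => by
    induction z using TensorProduct.induction_on with
    | zero => exact (map_zero _).trans (map_zero E).symm
    | tmul x b =>
      show b • h.β j x = LinearMap.liftBaseChange B _ (b ⊗ₜ[A] x)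
      rw [LinearMap.liftBaseChange_tmul]
      rfl
    | add a b ha hb => exact (map_add _ a b).trans ((congrArg₂ (· + ·) ha hb).trans (map_add E a b).symm)
  exact (funext e : ⇑(Θ h j) = _) ▸ E.bijective

theorem Θ_d (i j : J) (z : (C.X i : Type u) ⊗[A] B) :
    D.d i j (Θ h i z) = Θ h j ((C.d i j).hom.rTensor B z) := by
  induction z using TensorProduct.induction_on with
  | zero => simp
  | tmul x b =>
    rw [Θ_tmul, LinearMap.rTensor_tmul, Θ_tmul, map_smul, h.comm]
  | add a b ha hb => simp only [map_add, ha, hb]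

end Theta

theorem map_map_self {Y : Scheme.{u}} (M : Y.Modules) {O O' : Y.Opens} (h : O' ≤ O) (h' : O ≤ O')
    (x : Γ(M, O)) : M.presheaf.map (homOfLE h').op (M.presheaf.map (homOfLE h).op x) = x := by
  rw [← ConcreteCategory.comp_apply, ← Functor.map_comp,
    show (homOfLE h).op ≫ (homOfLE h').op = 𝟙 _ from Subsingleton.elim _ _,
    CategoryTheory.Functor.map_id]
  rfl

variable {A A' : Type u} [CommRing A] [CommRing A'] [Algebra A A'] {X X' : Scheme.{u}}
  [X.Over (Spec (CommRingCat.of A))] [X'.Over (Spec (CommRingCat.of A'))] {g' : X' ⟶ X}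
  {ι : Type u} (U : ι → X.Opens) (F : X.Modules)

local notation "pX'" => (X' ↘ Spec (CommRingCat.of A'))

/-- Cochains of `g'^*F` as cochains of its direct image. -/
def pi (q : ℕ) : CM A' (fun j => g' ⁻¹ᵁ U j) ((Scheme.Modules.pullback g').obj F) q →+ Cochain U ((CohTop.push g'.base).obj (Coh.toAb ((Scheme.Modules.pullback g').obj F))).obj q :=
  AddMonoidHom.mk' (fun c i => (Scheme.Modules.presheaf ((Scheme.Modules.pullback g').obj F)).map (homOfLE (inter_preimage U i).ge).op
    (ofSec pX' (c i))) fun c c' => funext fun i => map_add _ _ _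

theorem pi_bijective (q : ℕ) : Function.Bijective (pi (A' := A') (g' := g') U F q) := by
  refine Function.bijective_iff_has_inverse.2
    ⟨fun c i => toSec pX' ((Scheme.Modules.presheaf ((Scheme.Modules.pullback g').obj F)).map (homOfLE (inter_preimage U i).le).op (c i)),
      fun c => funext fun i => ?_, fun c => funext fun i => ?_⟩
  · exact map_map_self ((Scheme.Modules.pullback g').obj F) _ _ (ofSec pX' (c i))
  · exact map_map_self ((Scheme.Modules.pullback g').obj F) _ _ (c i)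

theorem pi_dA (q : ℕ) (c : CM A' (fun j => g' ⁻¹ᵁ U j) ((Scheme.Modules.pullback g').obj F) q) :
    dC U ((CohTop.push g'.base).obj (Coh.toAb ((Scheme.Modules.pullback g').obj F))).obj q (pi (A' := A') U F q c) =
      pi (A' := A') U F (q + 1) (dA A' (fun j => g' ⁻¹ᵁ U j) ((Scheme.Modules.pullback g').obj F) q c) := by
  funext i
  rw [dA_eq, Groth.Agent.Lib.Cech.Complex.dC_apply]
  show _ = (Scheme.Modules.presheaf ((Scheme.Modules.pullback g').obj F)).map _ (dC (fun j => g' ⁻¹ᵁ U j) (Coh.toAb ((Scheme.Modules.pullback g').obj F)).obj q c i)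
  rw [Groth.Agent.Lib.Cech.Complex.dC_apply]
  refine Eq.trans ?_ (map_sum _ _ _).symm
  refine Finset.sum_congr rfl fun j _ => ?_
  refine Eq.trans ?_ (map_zsmul _ _ _).symm
  refine congrArg ((-1 : ℤ) ^ (j : ℕ) • ·) ?_
  show (Scheme.Modules.presheaf ((Scheme.Modules.pullback g').obj F)).map _ ((Scheme.Modules.presheaf ((Scheme.Modules.pullback g').obj F)).map _ (c (i ∘ j.succAbove))) =
    (Scheme.Modules.presheaf ((Scheme.Modules.pullback g').obj F)).map _ ((Scheme.Modules.presheaf ((Scheme.Modules.pullback g').obj F)).map _ (c (i ∘ j.succAbove)))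
  rw [← ConcreteCategory.comp_apply, ← ConcreteCategory.comp_apply, ← Functor.map_comp,
    ← Functor.map_comp]
  rfl

theorem map_smulAb (b : A') (q : ℕ) (c : CM A' (fun j => g' ⁻¹ᵁ U j) ((Scheme.Modules.pullback g').obj F) q) :
    Groth.Agent.Lib.Cech.Complex.map
        ((CohTop.push g'.base).map (Coh.smulAb ((Scheme.Modules.pullback g').obj F) (Coh.toGlobal pX' b))).hom q (pi (A' := A') U F q c) =
      pi (A' := A') U F q (b • c) := by
  funext i
  rw [Groth.Agent.Lib.Cech.Complex.map_apply]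
  refine ((Coh.smulAb ((Scheme.Modules.pullback g').obj F) (Coh.toGlobal pX' b)).hom.naturality_apply
    (homOfLE (inter_preimage (g' := g') U i).ge).op (ofSec pX' (c i))).trans ?_
  refine congrArg ((Scheme.Modules.presheaf ((Scheme.Modules.pullback g').obj F)).map _) ?_
  exact (Groth.Agent.Lib.Cech.Complex.map_apply _ _ _ _).symm.trans
    (congrFun (Cech.map_smulAb A' (fun j => g' ⁻¹ᵁ U j) ((Scheme.Modules.pullback g').obj F) b q c) i)

variable [IsAffineHom g'] [F.IsQuasicoherent]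
  (hU : ∀ {q : ℕ} (i : Fin (q + 1) → ι), IsAffineOpen (inter U i))

include hU in
theorem interAcyclic_push :
    Groth.Agent.Lib.Cech.Compare.InterAcyclic U ((CohTop.push g'.base).obj (Coh.toAb ((Scheme.Modules.pullback g').obj F))) := by
  haveI := QCoh.Pullback.isQCoh_pullback g' F
  intro q i n
  haveI : Subsingleton (CategoryTheory.Abelian.Ext.{u} (Groth.Agent.Lib.ZarCoh.Basic.Zs.obj ((Opens.map g'.base).obj (inter U i))) (Coh.toAb ((Scheme.Modules.pullback g').obj F)) (n + 1)) :=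
    Groth.Agent.Lib.ZarCoh.Morph.van_affine g' ((Scheme.Modules.pullback g').obj F) _ (hU i) n
  exact (Groth.Agent.Lib.ZarCoh.Morph.pushMap_bijective g' ((Scheme.Modules.pullback g').obj F) (inter U i) (n + 1)).1.subsingleton

variable {p : ℕ} (Cmp : ProjCoh.CechNat.Comparison U p) {i k : ℤ} (hk : (p : ℤ) + 1 = k)

include hk in
theorem cocycle' (z : LinearMap.ker ((C A' (fun j => g' ⁻¹ᵁ U j) ((Scheme.Modules.pullback g').obj F)).d (p : ℤ) k).hom) :
    dC U ((CohTop.push g'.base).obj (Coh.toAb ((Scheme.Modules.pullback g').obj F))).obj p (pi (A' := A') U F p z.1) = 0 := by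
  obtain rfl : k = ((p + 1 : ℕ) : ℤ) := by omega
  have hz : dA A' (fun j => g' ⁻¹ᵁ U j) ((Scheme.Modules.pullback g').obj F) p z.1 = 0 := by
    exact (dA_eq A' _ _ p z.1).trans ((Cech.C_d_apply _ p z.1).symm.trans z.2)
  rw [pi_dA, hz, map_zero]

/-- The class upstairs of a cocycle. -/
def ecls' : LinearMap.ker ((C A' (fun j => g' ⁻¹ᵁ U j) ((Scheme.Modules.pullback g').obj F)).d (p : ℤ) k).hom →ₗ[A'] Coh.HH X' ((Scheme.Modules.pullback g').obj F) p where
  toFun z := CohPull.pushEdge g' ((Scheme.Modules.pullback g').obj F) p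
    (Cech.shCls Cmp _ (interAcyclic_push U F hU) _ (cocycle' U F hk z))
  map_add' z z' := by
    refine (congrArg (CohPull.pushEdge g' ((Scheme.Modules.pullback g').obj F) p) ?_).trans (map_add _ _ _)
    refine Eq.trans ?_ (Cech.shCls_add Cmp _ _ _ _ (cocycle' U F hk z) (cocycle' U F hk z'))
    exact Cech.shCls_congr Cmp _ _ (map_add (pi (A' := A') U F p) z.1 z'.1) _ _
  map_smul' b z := by
    refine Eq.trans ?_ (PushEdge.pushEdge_smulAb g' ((Scheme.Modules.pullback g').obj F) (Coh.toGlobal pX' b) p _)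
    refine congrArg (CohPull.pushEdge g' ((Scheme.Modules.pullback g').obj F) p) ?_
    refine Eq.trans (Cech.shCls_congr Cmp _ _ (map_smulAb U F b p z.1).symm _ ?_)
      (Cech.shCls_map Cmp (interAcyclic_push U F hU) (interAcyclic_push U F hU)
        ((CohTop.push g'.base).map (Coh.smulAb ((Scheme.Modules.pullback g').obj F) (Coh.toGlobal pX' b))) _ (cocycle' U F hk z)).symm
    rw [← Groth.Agent.Lib.Cech.Complex.map_dC, cocycle' U F hk z, map_zero]

theorem ecls'_surjective : Function.Surjective (ecls' (A' := A') (g' := g') U F hU Cmp hk) := fun x => by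
  haveI := QCoh.Pullback.isQCoh_pullback g' F
  obtain rfl : k = ((p + 1 : ℕ) : ℤ) := by omega
  obtain ⟨y, rfl⟩ := (PushEdge.pushEdge_bijective g' ((Scheme.Modules.pullback g').obj F) p).2 x
  obtain ⟨c, hc, rfl⟩ := Cech.shCls_surjective Cmp _ (interAcyclic_push U F hU) y
  obtain ⟨z, rfl⟩ := (pi_bijective (A' := A') U F p).2 c
  have hz : z ∈ LinearMap.ker ((C A' (fun j => g' ⁻¹ᵁ U j) ((Scheme.Modules.pullback g').obj F)).d (p : ℤ) ((p + 1 : ℕ) : ℤ)).hom := by
    refine (Cech.C_d_apply _ p z).trans ((dA_eq A' _ _ p z).symm.trans ?_)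
    exact (pi_bijective (A' := A') U F (p + 1)).1 ((pi_dA U F p z).symm.trans (hc.trans (map_zero _).symm))
  exact ⟨⟨z, hz⟩, rfl⟩

theorem ecls'_eq_zero_iff (hi : i + 1 = (p : ℤ)) (z : LinearMap.ker ((C A' (fun j => g' ⁻¹ᵁ U j) ((Scheme.Modules.pullback g').obj F)).d (p : ℤ) k).hom) :
    ecls' U F hU Cmp hk z = 0 ↔ z.1 ∈ LinearMap.range ((C A' (fun j => g' ⁻¹ᵁ U j) ((Scheme.Modules.pullback g').obj F)).d i (p : ℤ)).hom := by
  haveI := QCoh.Pullback.isQCoh_pullback g' F
  refine ((map_eq_zero_iff _ (PushEdge.pushEdge_bijective g' ((Scheme.Modules.pullback g').obj F) p).1)).trans ?_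
  cases p with
  | zero =>
    obtain rfl : i = Int.negSucc 0 := by omega
    refine (Cech.shCls_eq_zero_iff_zero Cmp _ _ _ (cocycle' U F hk z)).trans ⟨fun h => ⟨0, ?_⟩, fun ⟨y, hy⟩ => ?_⟩
    · refine (map_zero _).trans ?_
      exact ((pi_bijective (A' := A') U F 0).1 (h.trans (map_zero _).symm)).symm
    · haveI : Subsingleton ((C A' (fun j => g' ⁻¹ᵁ U j) ((Scheme.Modules.pullback g').obj F)).X (Int.negSucc 0)) :=
        ModuleCat.subsingleton_of_isZero (isZero_C A' (fun j => g' ⁻¹ᵁ U j) ((Scheme.Modules.pullback g').obj F) _ (Int.negSucc_lt_zero 0))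
      rw [Subsingleton.elim y 0, map_zero] at hy
      exact (congrArg (pi (A' := A') U F 0) hy.symm).trans (map_zero _)
  | succ q =>
    obtain rfl : i = ((q : ℕ) : ℤ) := by omega
    refine (Cech.shCls_eq_zero_iff_succ Cmp _ _ _ (cocycle' U F hk z)).trans
      ⟨fun ⟨b, hb⟩ => ?_, fun ⟨y, hy⟩ => ?_⟩
    · obtain ⟨y, rfl⟩ := (pi_bijective (A' := A') U F q).2 b
      refine ⟨y, ?_⟩
      rw [C_d]
      exact (pi_bijective (A' := A') U F (q + 1)).1 ((pi_dA U F q y).symm.trans hb)
    · refine ⟨pi (A' := A') U F q y, (pi_dA U F q y).trans (congrArg _ ?_)⟩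
      rw [C_d] at hy
      exact hy

variable (hsq : IsPullback g' (X' ↘ Spec (CommRingCat.of A')) (X ↘ Spec (CommRingCat.of A))
    (Spec.map (CommRingCat.ofHom (algebraMap A A'))))
  [Finite ι]

omit [IsAffineHom g'] in
include hsq in
theorem beta_cocycle (z : LinearMap.ker ((C A U F).d (p : ℤ) k).hom) :
    (isBCCx (A' := A') hsq F U hU).β (p : ℤ) z.1 ∈ LinearMap.ker ((C A' (fun j => g' ⁻¹ᵁ U j) ((Scheme.Modules.pullback g').obj F)).d (p : ℤ) k).hom :=
  ((isBCCx (A' := A') hsq F U hU).comm (p : ℤ) k z.1).trans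
    ((congrArg _ z.2).trans (map_zero _))

/-- Pullback of classes is inverse image of cochains. -/
theorem pullMod_ecls (z : LinearMap.ker ((C A U F).d (p : ℤ) k).hom) :
    CohPull.pullMod g' F p (Cech.ecls (A := A) F hU Cmp hk z) =
      ecls' (A' := A') U F hU Cmp hk
        ⟨(isBCCx (A' := A') hsq F U hU).β (p : ℤ) z.1, beta_cocycle U F hU hsq z⟩ := by
  refine (PushEdge.pullMod_eq g' F p _).trans (congrArg (CohPull.pushEdge g' ((Scheme.Modules.pullback g').obj F) p) ?_)
  refine (Cech.shCls_map Cmp (Cech.interAcyclic F hU) (interAcyclic_push U F hU)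
    ((SheafOfModules.toSheaf X.ringCatSheaf).map
      ((Scheme.Modules.pullbackPushforwardAdjunction g').unit.app F)) _ (Cech.cocycle F hk z)).trans ?_
  refine Cech.shCls_congr Cmp _ _ (funext fun i => ?_) _ _
  rw [Groth.Agent.Lib.Cech.Complex.map_apply]
  show _ = (Scheme.Modules.presheaf ((Scheme.Modules.pullback g').obj F)).map _ ((Scheme.Modules.presheaf ((Scheme.Modules.pullback g').obj F)).map _
    (((Scheme.Modules.pullbackPushforwardAdjunction g').unit.app F).app (inter U i) _))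
  exact (map_map_self ((Scheme.Modules.pullback g').obj F) _ _ _).symm

/-- The image of a tensored cocycle. -/
def zΘ : LinearMap.ker (Transfer.dl (C A U F) (p : ℤ) k) ⊗[A] A' →+
    LinearMap.ker ((C A' (fun j => g' ⁻¹ᵁ U j) ((Scheme.Modules.pullback g').obj F)).d (p : ℤ) k).hom :=
  AddMonoidHom.mk' (fun t => ⟨Θ (isBCCx (A' := A') hsq F U hU) (p : ℤ)
      ((LinearMap.ker (Transfer.dl (C A U F) (p : ℤ) k)).subtype.rTensor A' t), by
    refine (Θ_d (isBCCx (A' := A') hsq F U hU) (p : ℤ) k _).trans ?_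
    rw [← LinearMap.rTensor_comp_apply,
      show (((C A U F).d (p : ℤ) k).hom ∘ₗ (LinearMap.ker (Transfer.dl (C A U F) (p : ℤ) k)).subtype) = 0
        from LinearMap.ext fun z => z.2, LinearMap.rTensor_zero, LinearMap.zero_apply, map_zero]⟩)
    fun t t' => Subtype.ext (by simp only [map_add]; rfl)

/-- A tensored cocycle as a tensored class. -/
def psi : LinearMap.ker (Transfer.dl (C A U F) (p : ℤ) k) ⊗[A] A' →ₗ[A] A' ⊗[A] Coh.HH X F p :=
  (Cech.ecls (A := A) F hU Cmp hk).lTensor A' ∘ₗ (TensorProduct.comm A _ A').toLinearMap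

theorem psi_surjective : Function.Surjective (psi (A := A) (A' := A') U F hU Cmp hk) :=
  (LinearMap.lTensor_surjective A' (Cech.ecls_surjective F hU Cmp hk)).comp (LinearEquiv.surjective _)

variable (Φ : A' ⊗[A] Coh.HH X F p →+ Coh.HH X' ((Scheme.Modules.pullback g').obj F) p)
  (hΦ : ∀ (b : A') (x : Coh.HH X F p), Φ (b ⊗ₜ x) = b • CohPull.pullMod g' F p x)

include hΦ in
theorem Φ_psi (t : LinearMap.ker (Transfer.dl (C A U F) (p : ℤ) k) ⊗[A] A') :
    Φ (psi U F hU Cmp hk t) = ecls' U F hU Cmp hk (zΘ U F hU hsq t) := by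
  induction t using TensorProduct.induction_on with
  | zero => simp
  | tmul z b =>
    refine (hΦ b _).trans ((congrArg (b • ·) (pullMod_ecls U F hU Cmp hk hsq z)).trans ?_)
    refine (map_smul (ecls' (A' := A') U F hU Cmp hk) b _).symm.trans
      (congrArg (ecls' (A' := A') U F hU Cmp hk) (Subtype.ext ?_))
    rfl
  | add t t' ht ht' => simp only [map_add, ht, ht']

include hU Cmp hk hsq hΦ in
theorem surjective_iff (hi : i + 1 = (p : ℤ)) :
    Function.Surjective Φ ↔
      Split.Surj (Transfer.dl (C A U F) i p) (Transfer.dl (C A U F) p k) A' := by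
  let h := isBCCx (A' := A') hsq F U hU
  constructor
  · intro hs w hw
    have hc : Θ h (p : ℤ) w ∈ LinearMap.ker ((C A' (fun j => g' ⁻¹ᵁ U j) ((Scheme.Modules.pullback g').obj F)).d (p : ℤ) k).hom :=
      (Θ_d h (p : ℤ) k w).trans ((congrArg _ hw).trans (map_zero _))
    obtain ⟨y, hy⟩ := hs (ecls' (A' := A') U F hU Cmp hk ⟨_, hc⟩)
    obtain ⟨t, rfl⟩ := psi_surjective (A' := A') U F hU Cmp hk y
    rw [Φ_psi U F hU Cmp hk hsq Φ hΦ, eq_comm, ← sub_eq_zero, ← map_sub,
      ecls'_eq_zero_iff U F hU Cmp hk hi] at hy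
    obtain ⟨y', hy'⟩ := hy
    obtain ⟨u, rfl⟩ := (Θ_bijective h i).2 y'
    refine ⟨t, u, (Θ_bijective h (p : ℤ)).1 ?_⟩
    rw [map_sub]
    exact (Θ_d h i (p : ℤ) u).symm.trans hy'
  · intro hs x
    obtain ⟨⟨c, hc⟩, rfl⟩ := ecls'_surjective (A' := A') U F hU Cmp hk x
    obtain ⟨w, rfl⟩ := (Θ_bijective h (p : ℤ)).2 c
    obtain ⟨t, u, hu⟩ := hs w ((Θ_bijective h k).1
      ((Θ_d h (p : ℤ) k w).symm.trans (Eq.trans hc (map_zero _).symm)))
    refine ⟨psi U F hU Cmp hk t, ?_⟩
    rw [Φ_psi U F hU Cmp hk hsq Φ hΦ, eq_comm, ← sub_eq_zero, ← map_sub,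
      ecls'_eq_zero_iff U F hU Cmp hk hi]
    exact ⟨Θ h i u, (Θ_d h i (p : ℤ) u).trans ((congrArg _ hu).trans (map_sub _ _ _))⟩

include hU Cmp hk hsq hΦ in
theorem injective_of (hi : i + 1 = (p : ℤ))
    (hs : Split.Inj (Transfer.dl (C A U F) i p) (Transfer.dl (C A U F) p k)
      (Transfer.dl_dl (C A U F) i p k) A') : Function.Injective Φ := by
  let h := isBCCx (A' := A') hsq F U hU
  rw [injective_iff_map_eq_zero]
  intro y hy
  obtain ⟨t, rfl⟩ := psi_surjective (A' := A') U F hU Cmp hk y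
  rw [Φ_psi U F hU Cmp hk hsq Φ hΦ, ecls'_eq_zero_iff U F hU Cmp hk hi] at hy
  obtain ⟨y', hy'⟩ := hy
  obtain ⟨u, rfl⟩ := (Θ_bijective h i).2 y'
  obtain ⟨v, hv⟩ := hs t ⟨u, (Θ_bijective h (p : ℤ)).1 ((Θ_d h i (p : ℤ) u).symm.trans hy')⟩
  have h0 : psi (A' := A') U F hU Cmp hk ∘ₗ
      (Split.bd _ _ (Transfer.dl_dl (C A U F) i p k)).rTensor A' = 0 := by
    refine TensorProduct.ext' fun q b => ?_
    show b ⊗ₜ[A] Cech.ecls (A := A) F hU Cmp hk (Split.bd _ _ (Transfer.dl_dl (C A U F) i p k) q) = 0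
    rw [(Cech.ecls_eq_zero_iff F hU Cmp hk hi _).2 ⟨q, rfl⟩, TensorProduct.tmul_zero]
  rw [← hv]
  exact LinearMap.congr_fun h0 v

end

end Groth.Agent.H54.BCX.Square
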