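import Groth.Agent.H54.BCX.Model
import Groth.Agent.H54.BCX.Square

/-!
# The criteria read on the finite free model
-/

set_option autoImplicit false
set_option linter.style.haveILetI false
set_option maxHeartbeats 1000000
universe u

open CategoryTheory Limits AlgebraicGeometry Opposite TopologicalSpace
open scoped TensorProduct
open Groth.Agent.Lib
open ZarCoh.Exchange

namespace Groth.Agent.H54.BCX.Loc

noncomputable section

variable {A : Type u} [CommRing A] {X : Scheme.{u}} [X.Over (Spec (CommRingCat.of A))] {F : X.Modules}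
  (D : Model.Data A F)

/-- The Cech complex of the model. -/
abbrev CC : CochainComplex (ModuleCat.{u} A) ℤ := Complex.C A D.U F

theorem bij_one (j : ℤ) : Function.Bijective (HomologicalComplex.homologyMap D.φ j) := by
  have hn : ∀ (P : CochainComplex (ModuleCat.{u} A) ℤ),
      ∃ e : CohIII.tensorObj P (ModuleCat.of A A) ≅ P, ∀ i,
        e.hom.f i = (TensorProduct.rid A (P.X i)).toModuleIso.hom := fun P =>
    ⟨HomologicalComplex.Hom.isoOfComponents (fun i => (TensorProduct.rid A (P.X i)).toModuleIso)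
      (fun i j _ => ModuleCat.hom_ext (TensorProduct.ext' fun x r => by
        show (P.d i j) (r • x) = r • (P.d i j) x
        rw [map_smul])), fun i => rfl⟩
  obtain ⟨e, he⟩ := hn D.L
  obtain ⟨e', he'⟩ := hn (CC D)
  have hsq : D.φ = e.inv ≫ FlatCx.Above.tmap D.φ (ModuleCat.of A A) ≫ e'.hom := by
    rw [Iso.eq_inv_comp]
    refine HomologicalComplex.hom_ext _ _ fun i => ?_
    rw [HomologicalComplex.comp_f, HomologicalComplex.comp_f, he, he']
    exact ModuleCat.hom_ext (TensorProduct.ext' fun x r => map_smul (D.φ.f i).hom r x)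
  have hb : IsIso (HomologicalComplex.homologyMap (FlatCx.Above.tmap D.φ (ModuleCat.of A A)) j) :=
    (ConcreteCategory.isIso_iff_bijective _).2 (D.univ _ j)
  rw [hsq, HomologicalComplex.homologyMap_comp, HomologicalComplex.homologyMap_comp]
  exact ConcreteCategory.bijective_of_isIso _

section Transfer

variable {i j k : ℤ} (hij : i + 1 = j) (hjk : j + 1 = k) {M : Type u} [AddCommGroup M] [Module A M]
  {h : A}

include hij hjk in
theorem surj_C (hs : Split.IsSplit (Transfer.dl D.L j k) h)
    (hM : Function.Bijective fun m : M => h • m) :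
    Split.Surj (Transfer.dl (CC D) i j) (Transfer.dl (CC D) j k) M :=
  Transfer.surj_mpr D.φ (ModuleCat.of A M) hij hjk (D.univ _ j).2
    (Split.surj_of_split (a := Transfer.dl D.L i j) hs hM)

include hij hjk in
theorem inj_C (hs : Split.IsSplit (Transfer.dl D.L j k) h)
    (hM : Function.Bijective fun m : M => h • m) :
    Split.Inj (Transfer.dl (CC D) i j) (Transfer.dl (CC D) j k) (Transfer.dl_dl (CC D) i j k) M :=
  Transfer.inj_mpr D.φ (ModuleCat.of A M) hij hjk (bij_one D j) (D.univ _ j).1
    (Split.inj_of_split (Transfer.dl_dl D.L i j k) hs hM)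

include hij hjk in
/-- Vanishing of the model cohomology near a point gives exactness. -/
theorem exact_C (hs : Split.IsSplit (Transfer.dl D.L j k) h)
    (hkill : ∀ z, Transfer.dl D.L j k z = 0 → h • z ∈ LinearMap.range (Transfer.dl D.L i j))
    (hM : Function.Bijective fun m : M => h • m) :
    ∀ w : ((CC D).X j : Type u) ⊗[A] M, (Transfer.dl (CC D) j k).rTensor M w = 0 →
      w ∈ LinearMap.range ((Transfer.dl (CC D) i j).rTensor M) := by
  have hL : ∀ w : (D.L.X j : Type u) ⊗[A] M, (Transfer.dl D.L j k).rTensor M w = 0 →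
      w ∈ LinearMap.range ((Transfer.dl D.L i j).rTensor M) := by
    intro w hw
    obtain ⟨v, rfl⟩ := (Split.smul_tensor_bijective hM _).2 w
    have hv : (Transfer.dl D.L j k).rTensor M v = 0 := (Split.smul_tensor_bijective hM _).1
      (show h • _ = h • 0 by rw [smul_zero, ← map_smul]; exact hw)
    obtain ⟨t, ht⟩ := Split.surj_of_split (a := Transfer.dl D.L i j) hs hM v hv
    have hsub : ∀ t, h • (LinearMap.ker (Transfer.dl D.L j k)).subtype.rTensor M t ∈
        LinearMap.range ((Transfer.dl D.L i j).rTensor M) := by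
      intro t
      induction t using TensorProduct.induction_on with
      | zero => simp
      | tmul z m =>
        obtain ⟨y, hy⟩ := hkill z.1 z.2
        exact ⟨y ⊗ₜ m, by rw [LinearMap.rTensor_tmul, hy, LinearMap.rTensor_tmul,
          TensorProduct.smul_tmul']; rfl⟩
      | add t t' h1 h2 => rw [map_add, smul_add]; exact add_mem h1 h2
    have := add_mem (Submodule.smul_mem _ h ht) (hsub t)
    rwa [← smul_add, sub_add_cancel] at this
  intro w hw
  obtain ⟨z, y, hz, hzy⟩ := (FlatCx.Elem.surjective_homologyMap_iff _ (FlatCx.Above.prev_up hij)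
    (FlatCx.Above.next_up hjk)).1 (D.univ (ModuleCat.of A M) j).2 w hw
  obtain ⟨p, hp⟩ := hL z hz
  let y' : ((CC D).X i : Type u) ⊗[A] M := y
  refine ⟨(Transfer.fl D.φ i).rTensor M p - y', ?_⟩
  have h1 : (Transfer.fl D.φ j).rTensor M z = w + (Transfer.dl (CC D) i j).rTensor M y' := hzy
  rw [map_sub, ← LinearMap.rTensor_comp_apply, ← Transfer.fl_dl, LinearMap.rTensor_comp_apply, hp, h1,
    add_sub_cancel_right]

variable {K : Type u} [Field K] [Algebra A K]

include hij hjk in
theorem split_of_surj_C (hK : Split.IsFrac A K)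
    (hs : Split.Surj (Transfer.dl (CC D) i j) (Transfer.dl (CC D) j k) K) :
    ∃ h : A, algebraMap A K h ≠ 0 ∧ Split.IsSplit (Transfer.dl D.L j k) h := by
  haveI := fun n => (D.hfree n).1
  haveI := fun n => (D.hfree n).2
  exact Split.split_of_surj (a := Transfer.dl D.L i j) hK (Transfer.dl_dl D.L i j k)
    (Transfer.surj_mp D.φ (ModuleCat.of A K) hij hjk (bij_one D j) (D.univ _ j).1 hs)

include hij hjk in
theorem split_of_exact_C (hK : Split.IsFrac A K)
    (he : ∀ w : ((CC D).X j : Type u) ⊗[A] K, (Transfer.dl (CC D) j k).rTensor K w = 0 →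
      w ∈ LinearMap.range ((Transfer.dl (CC D) i j).rTensor K)) :
    ∃ h : A, algebraMap A K h ≠ 0 ∧ Split.IsSplit (Transfer.dl D.L j k) h ∧
      Split.IsSplit (Transfer.dl D.L i j) h ∧
        ∀ z, Transfer.dl D.L j k z = 0 → h • z ∈ LinearMap.range (Transfer.dl D.L i j) := by
  haveI := fun n => (D.hfree n).1
  haveI := fun n => (D.hfree n).2
  refine Split.split_of_exact hK (Transfer.dl_dl D.L i j k) fun w hw => ?_
  have hw' : (Transfer.dl (CC D) j k).rTensor K ((Transfer.fl D.φ j).rTensor K w) = 0 := by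
    rw [← LinearMap.rTensor_comp_apply, ← Transfer.fl_dl, LinearMap.rTensor_comp_apply, hw, map_zero]
  obtain ⟨y, hy⟩ := he _ hw'
  exact (FlatCx.Elem.injective_homologyMap_iff _ (FlatCx.Above.prev_up hij)
    (FlatCx.Above.next_up hjk)).1 (D.univ (ModuleCat.of A K) j).1 w hw y hy

end Transfer

variable [F.IsQuasicoherent]

/-- The cohomology is the cohomology of the model. -/
theorem nonempty_HH {p : ℕ} {i k : ℤ} (hi : i + 1 = (p : ℤ)) (hk : (p : ℤ) + 1 = k) :
    Nonempty (Coh.HH X F p ≃ₗ[A] Split.Hm (Transfer.dl_dl D.L i p k)) := by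
  haveI := D.finite
  obtain ⟨Cmp⟩ := ProjCoh.CechNat.nonempty_comparison D.U D.hcov p
  let e := Cech.ecls (A := A) F D.hU Cmp hk
  have hker : LinearMap.ker e =
      LinearMap.range (Split.bd _ _ (Transfer.dl_dl (CC D) i p k)) := by
    ext z
    refine (Cech.ecls_eq_zero_iff F D.hU Cmp hk hi z).trans ⟨fun ⟨y, hy⟩ => ⟨y, Subtype.ext hy⟩, ?_⟩
    rintro ⟨y, rfl⟩
    exact ⟨y, rfl⟩
  exact ⟨(((Submodule.quotEquivOfEq _ _ hker.symm).trans
    (e.quotKerEquivOfSurjective (Cech.ecls_surjective F D.hU Cmp hk))).symm).trans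
      (Transfer.hmapEquiv D.φ hi hk (bij_one D p)).symm⟩

end

end Groth.Agent.H54.BCX.Loc
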