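import Groth.Agent.H54.BCX.Lift
import Groth.Agent.Lib.Exchange.Proper
import Groth.Agent.Lib.Exchange.BaseChange

/-!
# A finite free complex universally quasi-isomorphic to the Cech complex
-/

set_option autoImplicit false
set_option linter.style.haveILetI false
universe u

open CategoryTheory Limits AlgebraicGeometry Opposite TopologicalSpace
open scoped TensorProduct
open Groth.Agent.Lib
open ZarCoh.Exchange

namespace Groth.Agent.H54.BCX.Model

noncomputable section

variable (A : Type u) [CommRing A] {X : Scheme.{u}} [X.Over (Spec (CommRingCat.of A))] (F : X.Modules)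

local notation "pX" => (X ↘ Spec (CommRingCat.of A))

/-- A finite free complex universally computing the Cech complex of a finite affine cover. -/
structure Data where
  /-- The index set. -/
  ι : Type u
  finite : Finite ι
  /-- The cover. -/
  U : ι → X.Opens
  hU : ∀ {q : ℕ} (i : Fin (q + 1) → ι), IsAffineOpen (Groth.Agent.Lib.Cech.Complex.inter U i)
  hcov : iSup U = ⊤
  /-- The finite free complex. -/
  L : CochainComplex (ModuleCat.{u} A) ℤ
  /-- The comparison. -/
  φ : L ⟶ Complex.C A U F
  hfree : ∀ i, Module.Finite A (L.X i) ∧ Module.Free A (L.X i)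
  bdd : ∃ b : ℤ, ∀ i, b < i → IsZero (L.X i)
  univ : ∀ (M : ModuleCat.{u} A) (i : ℤ),
    Function.Bijective (HomologicalComplex.homologyMap (FlatCx.Above.tmap φ M) i)

/-- Over a Noetherian base. -/
theorem nonempty_of_isNoetherianRing [IsNoetherianRing A] [IsProper pX] (hF : Coh.IsCoh F)
    (hfl : FlatMod.IsFlatOver pX F) : Nonempty (Data A F) := by
  haveI : F.IsQuasicoherent := hF.1
  haveI : X.IsSeparated := ⟨by rw [← terminal.comp_from pX]; infer_instance⟩
  haveI : CompactSpace X := (quasiCompact_iff_compactSpace pX).mp inferInstance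
  obtain ⟨s, hs, hcov⟩ :=
    isCompact_and_isOpen_iff_finite_and_eq_biUnion_affineOpens.mp
      ⟨(isCompact_univ : IsCompact (Set.univ : Set X)), isOpen_univ⟩
  haveI := hs.to_subtype
  let U : s → X.Opens := fun i => i.1.1
  have hU : ∀ {q : ℕ} (i : Fin (q + 1) → s), IsAffineOpen (Groth.Agent.Lib.Cech.Complex.inter U i) := fun i =>
    IsAffineOpen.iInf fun a => (i a).1.2
  have hUtop : iSup U = ⊤ := by
    apply TopologicalSpace.Opens.ext
    rw [TopologicalSpace.Opens.coe_iSup, TopologicalSpace.Opens.coe_top, hcov]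
    ext x
    simp
  have hC : ∀ i, Module.Flat A ((Complex.C A U F).X i) := fun i => by
    rcases Int.lt_or_le i 0 with hi | hi
    · haveI := ModuleCat.subsingleton_of_isZero (Complex.isZero_C A U F i hi)
      infer_instance
    · obtain ⟨q, rfl⟩ := Int.eq_ofNat_of_zero_le hi
      haveI : ∀ j : Fin (q + 1) → s,
          Module.Flat A ((CechRes.Sec.secA pX (Groth.Agent.Lib.Cech.Complex.inter U j)).obj F) := fun j =>
        CechRes.Flat.secFlat_of_isFlatOver pX F hfl _ (hU j)
      classical
      haveI := Fintype.ofFinite s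
      exact Module.Flat.of_linearEquiv (DFinsupp.linearEquivFunOnFintype (R := A)
        (M := fun j : Fin (q + 1) → s =>
          ((CechRes.Sec.secA pX (Groth.Agent.Lib.Cech.Complex.inter U j)).obj F : Type u))).symm
  have iso := Compare.nonempty_natIso A U F hU hUtop
  obtain ⟨n₀, hn₀⟩ := ZarCoh.Bounded.exists_bound_HH X
  have hT : ∀ (M : ModuleCat.{u} A) (q : ℕ), n₀ ≤ q →
      Subsingleton (CohIII.T (Complex.C A U F) (q : ℤ) M) := fun M q hq => by
    haveI : ((tilde.functor (CommRingCat.of A)).obj M).IsQuasicoherent := by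
      dsimp [tilde.functor]; infer_instance
    haveI := QCoh.Pullback.isQCoh_pullback pX ((tilde.functor (CommRingCat.of A)).obj M)
    haveI : (Sections.G F M).IsQuasicoherent := TensorMod.TensorQCoh.isQCoh_tensorMod
      ((Scheme.Modules.pullback pX).obj ((tilde.functor (CommRingCat.of A)).obj M)) F
    haveI := hn₀ (Sections.G F M) inferInstance q hq
    exact (Main.linearEquivApp A F (iso q).some M).toEquiv.subsingleton
  let e₁ : ∀ q : ℕ, (Complex.C A U F).homology (q : ℤ) ≃ₗ[A] Coh.HH X F q := fun q =>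
    (Main.tOne A (Complex.C A U F) (q : ℤ)).symm.trans
      ((Main.linearEquivApp A F (iso q).some (ModuleCat.of A A)).trans
        (Curves.LES.isoK A (Main.oneIso A F) q))
  have hb : ∀ i, (n₀ : ℤ) < i → (Complex.C A U F).ExactAt i := fun i hi => by
    obtain ⟨q, rfl⟩ := Int.eq_ofNat_of_zero_le (show 0 ≤ i by omega)
    haveI := hT (ModuleCat.of A A) q (by omega)
    haveI := (Main.tOne A (Complex.C A U F) (q : ℤ)).symm.toEquiv.subsingleton
    rw [HomologicalComplex.exactAt_iff_isZero_homology]
    exact ModuleCat.isZero_of_subsingleton _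
  have hfinC : ∀ i, Module.Finite A ((Complex.C A U F).homology i) := fun i => by
    rcases Int.lt_or_le i 0 with hi | hi
    · haveI := ModuleCat.subsingleton_of_isZero ((HomologicalComplex.ExactAt.of_isZero
        (Complex.isZero_C A U F i hi)).isZero_homology)
      infer_instance
    · obtain ⟨q, rfl⟩ := Int.eq_ofNat_of_zero_le hi
      haveI := Proper.finite_HH A F hF q
      exact Module.Finite.equiv (e₁ q).symm
  obtain ⟨L, u, hL0, hLf, hu⟩ := Main.exists_resolution_ff A (Complex.C A U F) (n₀ : ℤ) hb hfinC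
  refine ⟨⟨s, inferInstance, U, hU, hUtop, L, u, hLf, ⟨n₀, hL0⟩, fun M p => ?_⟩⟩
  haveI := hu
  haveI : ∀ i, Module.Flat A (L.X i) := fun i => haveI := (hLf i).2; inferInstance
  haveI := Universal.quasiIso_tmap u M (fun i => inferInstance) hC n₀ hL0 fun i hi N _ _ x => by
    obtain ⟨q, hq⟩ := Int.eq_ofNat_of_zero_le (show 0 ≤ i + 1 by omega)
    haveI := hT (ModuleCat.of A N) q (by omega)
    constructor
    · intro hx
      have h0 : IsZero ((CohIII.tensorObj (Complex.C A U F) (ModuleCat.of A N)).homology (i + 1)) := by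
        rw [hq]; exact ModuleCat.isZero_of_subsingleton _
      obtain ⟨y, hy⟩ := (FlatCx.Elem.isZero_homology_iff (FlatCx.Above.prev_up rfl)
        (FlatCx.Above.next_up rfl)).1 h0 x hx
      exact ⟨y, hy⟩
    · rintro ⟨y, rfl⟩
      rw [← LinearMap.comp_apply, ← LinearMap.rTensor_comp, ← ModuleCat.hom_comp,
        (Complex.C A U F).d_comp_d, ModuleCat.hom_zero, LinearMap.rTensor_zero, LinearMap.zero_apply]
  exact ConcreteCategory.bijective_of_isIso _

section BaseChange

variable {A} {F}
variable {B : Type u} [CommRing B] [Algebra A B] {X' : Scheme.{u}} [X'.Over (Spec (CommRingCat.of B))]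
  {g' : X' ⟶ X}
  (hsq : IsPullback g' (X' ↘ Spec (CommRingCat.of B)) (X ↘ Spec (CommRingCat.of A))
    (Spec.map (CommRingCat.ofHom (algebraMap A B))))
  [F.IsQuasicoherent] [QuasiCompact (X ↘ Spec (CommRingCat.of A))] [IsSeparated (X ↘ Spec (CommRingCat.of A))]

include hsq in
/-- Models base change. -/
theorem Data.baseChange (D : Data A F) :
    Nonempty (Data B ((Scheme.Modules.pullback g').obj F)) := by
  haveI := D.finite
  haveI : IsAffineHom g' := ZarCoh.FlatBC.Main.isAffineHom_fst hsq
  let hC := BaseChange.isBCCx (A' := B) hsq F D.U D.hU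
  let hL := ExtScalars.isBCCx_bcCx (A := A) B D.L
  refine ⟨⟨D.ι, D.finite, fun j => g' ⁻¹ᵁ D.U j, fun i => ?_, ?_, CohIII.bcCx (algebraMap A B) D.L,
    Lift.lift hL hC D.φ, fun i => ?_, ?_, fun M p => Lift.bijective_lift hL hC D.φ M p (D.univ _ p)⟩⟩
  · rw [BaseChange.inter_preimage]
    exact (D.hU i).preimage g'
  · rw [eq_top_iff]
    intro x _
    have := TopologicalSpace.Opens.mem_iSup.1 (D.hcov.ge (x := g' x) trivial)
    exact TopologicalSpace.Opens.mem_iSup.2 this
  · haveI := (D.hfree i).1
    haveI := (D.hfree i).2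
    exact ⟨Module.Finite.equiv (FlatCx.BaseChange.extEquiv B (D.L.X i)).symm,
      Module.Free.of_equiv (FlatCx.BaseChange.extEquiv B (D.L.X i)).symm⟩
  · obtain ⟨b₀, hb₀⟩ := D.bdd
    exact ⟨b₀, fun i hi => (ModuleCat.extendScalars (algebraMap A B)).map_isZero (hb₀ i hi)⟩

end BaseChange

/-- Cochainwise map. -/
def cMapM {ι : Type u} (U : ι → X.Opens) {F F' : X.Modules} (ψ : F ⟶ F') (q : ℕ) :
    Complex.CM A U F q →ₗ[A] Complex.CM A U F' q :=
  LinearMap.pi fun i : Fin (q + 1) → ι =>
    ((CechRes.Sec.secA pX (Groth.Agent.Lib.Cech.Complex.inter U i)).map ψ).hom ∘ₗ LinearMap.proj i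

theorem cMapM_dA {ι : Type u} (U : ι → X.Opens) {F F' : X.Modules} (ψ : F ⟶ F') (q : ℕ)
    (z : Complex.CM A U F q) :
    Complex.dA A U F' q (cMapM A U ψ q z) = cMapM A U ψ (q + 1) (Complex.dA A U F q z) := by
  funext k
  simp only [cMapM, Complex.dA, LinearMap.pi_apply, LinearMap.sum_apply, LinearMap.smul_apply,
    LinearMap.comp_apply, LinearMap.proj_apply, map_sum, map_zsmul]
  refine Finset.sum_congr rfl fun j _ => congrArg ((-1 : ℤ) ^ (j : ℕ) • ·) ?_
  exact ConcreteCategory.congr_hom
    ((CechRes.Sec.resA pX (Groth.Agent.Lib.Cech.Complex.inter_le_face U k j)).naturality ψ)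
    (z (k ∘ j.succAbove))

/-- The map of Cech complexes induced by a morphism of modules. -/
def cxMap {ι : Type u} (U : ι → X.Opens) {F F' : X.Modules} (ψ : F ⟶ F') :
    Complex.C A U F ⟶ Complex.C A U F' where
  f := fun
    | .ofNat q => ModuleCat.ofHom (cMapM A U ψ q)
    | .negSucc _ => 0
  comm' i j hij := by
    obtain rfl : j = i + 1 := hij.symm
    cases i with
    | ofNat q =>
      refine ModuleCat.hom_ext (LinearMap.ext fun z => ?_)
      show ((Complex.C A U F').d (q : ℤ) ((q + 1 : ℕ) : ℤ)).hom (cMapM A U ψ q z) =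
        cMapM A U ψ (q + 1) (((Complex.C A U F).d (q : ℤ) ((q + 1 : ℕ) : ℤ)).hom z)
      rw [Complex.C_d, Complex.C_d]
      exact cMapM_dA A U ψ q z
    | negSucc q =>
      exact (Complex.isZero_C A U F _ (Int.negSucc_lt_zero q)).eq_of_src _ _

theorem isIso_cxMap {ι : Type u} (U : ι → X.Opens) {F F' : X.Modules} (e : F ≅ F') :
    IsIso (cxMap A U e.hom) := by
  haveI : ∀ i, IsIso ((cxMap A U e.hom).f i) := fun i => by
    cases i with
    | ofNat q =>
      have hm : ∀ (W : X.Opens), Function.Bijective ((CechRes.Sec.secA pX W).map e.hom).hom := fun W =>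
        ((CechRes.Sec.secA pX W).mapIso e).toLinearEquiv.bijective
      refine (ConcreteCategory.isIso_iff_bijective _).2 ?_
      exact Function.Bijective.piMap fun i => hm _
    | negSucc q =>
      exact ⟨⟨0, (Complex.isZero_C A U F _ (Int.negSucc_lt_zero q)).eq_of_src _ _,
        (Complex.isZero_C A U F' _ (Int.negSucc_lt_zero q)).eq_of_src _ _⟩⟩
  exact HomologicalComplex.Hom.isIso_of_components _

/-- Models transport along isomorphisms of the module. -/
theorem Data.ofIso {F F' : X.Modules} (e : F ≅ F') (D : Data A F) : Nonempty (Data A F') := by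
  refine ⟨⟨D.ι, D.finite, D.U, D.hU, D.hcov, D.L, D.φ ≫ cxMap A D.U e.hom, D.hfree, D.bdd,
    fun M i => ?_⟩⟩
  haveI := isIso_cxMap A D.U e
  have h1 : FlatCx.Above.tmap (D.φ ≫ cxMap A D.U e.hom) M =
      FlatCx.Above.tmap D.φ M ≫ FlatCx.Above.tmap (cxMap A D.U e.hom) M := Functor.map_comp _ _ _
  rw [h1, HomologicalComplex.homologyMap_comp]
  exact (ConcreteCategory.bijective_of_isIso
    (HomologicalComplex.homologyMap (FlatCx.Above.tmap (cxMap A D.U e.hom) M) i)).comp (D.univ M i)

end

end Groth.Agent.H54.BCX.Model
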