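import Mathlib.LinearAlgebra.Matrix.Charpoly.LinearMap
import Mathlib.Algebra.Polynomial.Module.AEval
import Mathlib.RingTheory.Ideal.Operations

/-!
# Two determinant tricks
-/

set_option autoImplicit false
universe u

open Polynomial

namespace Groth.Agent.H54.BCX.Nakayama

variable {A : Type u} [CommRing A] {M : Type u} [AddCommGroup M] [Module A M]

/-- A polynomial identity for an endomorphism divides through by the image. -/
theorem exists_pow_smul_eq [Module.Finite A M] (φ : Module.End A M) (h : A)
    (hφ : ∀ v, ∃ w, φ w = h • v) :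
    ∃ (n : ℕ) (q : A[X]), ∀ v, h ^ n • v = φ (aeval φ q v) := by
  let M' := Module.AEval' φ
  haveI : Module.Finite A M' := Module.Finite.equiv (Module.AEval.of A M φ)
  haveI : Module.Finite A[X] M' := Module.Finite.of_restrictScalars_finite A A[X] M'
  let H : Module.End A[X] M' := (C h : A[X]) • LinearMap.id
  have hr : LinearMap.range H ≤ (Ideal.span {(X : A[X])}) • (⊤ : Submodule A[X] M') := by
    rintro _ ⟨v, rfl⟩
    obtain ⟨w, hw⟩ := hφ ((Module.AEval.of A M φ).symm v)
    have e : H v = (X : A[X]) • Module.AEval.of A M φ w := by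
      apply (Module.AEval.of A M φ).symm.injective
      simp [H, M', ← hw]
    rw [e]
    exact Submodule.smul_mem_smul (Ideal.subset_span rfl) trivial
  obtain ⟨P, hP, hd, hc, h0⟩ :=
    LinearMap.exists_monic_and_natDegree_eq_and_coeff_mem_pow_and_aeval_eq_zero A[X] H _ hr
  refine ⟨P.natDegree, ?_⟩
  have hk : ∀ k ∈ Finset.range P.natDegree, ∃ q : A[X], P.coeff k * (C h) ^ k = X * q := fun k hk => by
    rw [Finset.mem_range] at hk
    obtain ⟨q, hq⟩ := Ideal.mem_span_singleton.1 (Ideal.pow_le_self (by omega) (hc k))
    exact ⟨q * (C h) ^ k, by rw [hq, mul_assoc]⟩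
  choose! q hq using hk
  refine ⟨- ∑ k ∈ Finset.range P.natDegree, q k, fun v => ?_⟩
  have h1 := LinearMap.congr_fun h0 (Module.AEval.of A M φ v)
  have hH : ∀ (R : A[X][X]) (z : M'), aeval H R z = (R.eval (C h)) • z := fun R z => by
    induction R using Polynomial.induction_on' with
    | add a b ha hb => rw [map_add, LinearMap.add_apply, ha, hb, eval_add, add_smul]
    | monomial n a =>
      rw [aeval_monomial, eval_monomial]
      simp only [H, smul_pow, Module.End.mul_apply, LinearMap.smul_apply,
        Module.algebraMap_end_apply]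
      rw [mul_smul]
      congr 1
      rw [show (LinearMap.id : Module.End A[X] M') = 1 from rfl, one_pow]
      rfl
  rw [hH, eval_eq_sum_range, Finset.sum_range_succ, LinearMap.zero_apply,
    Finset.sum_congr rfl hq, ← Finset.mul_sum, hP.coeff_natDegree, one_mul, add_smul] at h1
  have h2 := congrArg (Module.AEval.of A M φ).symm h1
  erw [map_add, map_zero, Module.AEval.of_symm_smul, Module.AEval.of_symm_smul,
    LinearEquiv.symm_apply_apply, map_mul, aeval_X, map_pow, aeval_C] at h2
  rw [← map_pow, Module.End.smul_def, Module.End.smul_def, Module.algebraMap_end_apply, Module.End.mul_apply] at h2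
  rw [map_neg, LinearMap.neg_apply, map_neg]
  exact eq_neg_of_add_eq_zero_right h2

/-- A finite module with `c M ⊆ I M` is killed by an element congruent to a power of `c` modulo `I`. -/
theorem exists_smul_eq_zero [Module.Finite A M] (I : Ideal A) [I.IsPrime] (c : A) (hc : c ∉ I)
    (h : ∀ v : M, c • v ∈ I • (⊤ : Submodule A M)) : ∃ g : A, g ∉ I ∧ ∀ v : M, g • v = 0 := by
  have hr : LinearMap.range (c • LinearMap.id : Module.End A M) ≤ I • ⊤ := by
    rintro _ ⟨v, rfl⟩; exact h v
  obtain ⟨P, hP, hd, hcf, h0⟩ :=
    LinearMap.exists_monic_and_natDegree_eq_and_coeff_mem_pow_and_aeval_eq_zero A _ I hr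
  refine ⟨P.eval c, fun hmem => hc (‹I.IsPrime›.mem_of_pow_mem P.natDegree ?_), fun v => ?_⟩
  · rw [eval_eq_sum_range, Finset.sum_range_succ, hP.coeff_natDegree, one_mul] at hmem
    refine (I.add_mem_iff_right (Submodule.sum_mem _ fun k hk => ?_)).1 hmem
    rw [Finset.mem_range] at hk
    exact I.mul_mem_right _ (Ideal.pow_le_self (by omega) (hcf k))
  · have := LinearMap.congr_fun h0 v
    rw [show (c • LinearMap.id : Module.End A M) = algebraMap A (Module.End A M) c from
      (Algebra.algebraMap_eq_smul_one c).symm, Polynomial.aeval_algebraMap_apply_eq_algebraMap_eval, LinearMap.zero_apply,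
      Module.algebraMap_end_apply] at this
    simpa using this

end Groth.Agent.H54.BCX.Nakayama
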