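import Groth.Agent.H54.BCX.Affine
import Groth.Agent.H54.BCX.Square

/-!
# The base change map on a pair of affine opens is base change of the Cech complex
-/

set_option autoImplicit false
set_option linter.style.haveILetI false
set_option maxHeartbeats 2000000
universe u

open CategoryTheory CategoryTheory.Limits AlgebraicGeometry AlgebraicGeometry.Scheme.Modules
open TopologicalSpace Opposite
open Groth.Agent.Lib
open ZarCoh.Exchange.Complex
open scoped TensorProduct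

namespace Groth.Agent.H54.BCX.Pair

noncomputable section

variable {X S X' S' : Scheme.{u}} {f : X ⟶ S} {g : S' ⟶ S} {f' : X' ⟶ S'} {g' : X' ⟶ X}
  {V : S.Opens} {W : S'.Opens}

/-- The algebra of a pair of opens. -/
abbrev alg (g : S' ⟶ S) {V : S.Opens} {W : S'.Opens} (e : W ≤ g ⁻¹ᵁ V) :
    Algebra Γ(S, V) Γ(S', W) :=
  (g.appLE V W e).hom.toAlgebra

/-- The preimage over the functions of an open. -/
abbrev overOpen (f : X ⟶ S) (V : S.Opens) :
    ((f ⁻¹ᵁ V : X.Opens) : Scheme.{u}).Over (Spec (CommRingCat.of Γ(S, V))) :=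
  ⟨Affine.p₀ f V⟩

variable (h : IsPullback g' f' f g) (e : W ≤ g ⁻¹ᵁ V)

/-- The map of preimages. -/
abbrev gW : ((f' ⁻¹ᵁ W : X'.Opens) : Scheme.{u}) ⟶ ((f ⁻¹ᵁ V : X.Opens) : Scheme.{u}) :=
  g'.resLE (f ⁻¹ᵁ V) (f' ⁻¹ᵁ W) (Affine.preimage_le (w := h.w) e)

theorem isPullback_gW (hV : IsAffineOpen V) (hW : IsAffineOpen W) :
    letI := alg g e
    letI := overOpen f V
    letI := overOpen f' W
    IsPullback (gW h e)
      (((f' ⁻¹ᵁ W : X'.Opens) : Scheme.{u}) ↘ Spec (CommRingCat.of Γ(S', W)))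
      (((f ⁻¹ᵁ V : X.Opens) : Scheme.{u}) ↘ Spec (CommRingCat.of Γ(S, V)))
      (Spec.map (CommRingCat.ofHom (algebraMap Γ(S, V) Γ(S', W)))) := by
  haveI : IsIso V.toSpecΓ := by rw [← hV.isoSpec_hom]; infer_instance
  haveI : IsIso W.toSpecΓ := by rw [← hW.isoSpec_hom]; infer_instance
  have e' : W.ι ''ᵁ ⊤ ≤ g ⁻¹ᵁ (V.ι ''ᵁ ⊤) := by rwa [W.ι_image_top, V.ι_image_top]
  exact (CohDelta.BC.Affine.isPullback_restrict f g f' g' h e').paste_vert
    (IsPullback.of_vert_isIso ⟨(Scheme.Opens.toSpecΓ_SpecMap_appLE g V W e).symm⟩)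

theorem appTop_toGlobal (hV : IsAffineOpen V) (hW : IsAffineOpen W) (a : Γ(S, V)) :
    (gW h e).appTop (Coh.toGlobal (A := Γ(S, V)) (Affine.p₀ f V) a) =
      Coh.toGlobal (A := Γ(S', W)) (Affine.p₀ f' W) (g.appLE V W e a) := by
  have hw : gW h e ≫ Affine.p₀ f V = Affine.p₀ f' W ≫ Spec.map (g.appLE V W e) :=
    (isPullback_gW h e hV hW).w
  show ((Affine.p₀ f V).appTop ≫ (gW h e).appTop) ((Scheme.ΓSpecIso _).inv a) = _
  rw [← Scheme.Hom.comp_appTop, hw, Scheme.Hom.comp_appTop]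
  show (Affine.p₀ f' W).appTop ((Spec.map (g.appLE V W e)).appTop ((Scheme.ΓSpecIso _).inv a)) = _
  refine congrArg (Affine.p₀ f' W).appTop ?_
  exact (ConcreteCategory.congr_hom (Scheme.ΓSpecIso_inv_naturality (g.appLE V W e)) a).symm

variable (hV : IsAffineOpen V) (hW : IsAffineOpen W) (F : X.Modules) (p : ℕ)

/-- A scalar times the pullback of a class. -/
def Φ :
    letI := alg g e
    letI := overOpen f V
    Γ(S', W) ⊗[Γ(S, V)] Coh.HH ((f ⁻¹ᵁ V : X.Opens) : Scheme.{u}) (F.restrict (f ⁻¹ᵁ V).ι) p →+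
      Coh.HH ((f' ⁻¹ᵁ W : X'.Opens) : Scheme.{u})
        ((Scheme.Modules.pullback (gW h e)).obj (F.restrict (f ⁻¹ᵁ V).ι)) p :=
  letI := alg g e
  letI := overOpen f V
  letI := overOpen f' W
  TensorProduct.liftAddHom
    (AddMonoidHom.mk' (fun b : Γ(S', W) => AddMonoidHom.mk'
        (fun x => b • CohPull.pullMod (gW h e) (F.restrict (f ⁻¹ᵁ V).ι) p x)
        fun x y => by rw [map_add, smul_add])
      fun b b' => AddMonoidHom.ext fun x => add_smul _ _ _)
    fun a b x => by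
      show (a • b) • CohPull.pullMod (gW h e) _ p x = b • CohPull.pullMod (gW h e) _ p (a • x)
      rw [show (a • x : Coh.HH ((f ⁻¹ᵁ V : X.Opens) : Scheme.{u}) (F.restrict (f ⁻¹ᵁ V).ι) p) =
        (Coh.toGlobal (A := Γ(S, V)) (Affine.p₀ f V) a : Coh.Γtop _) • x from rfl,
        Affine.pullMod_smul, appTop_toGlobal h e hV hW a, Algebra.smul_def, mul_comm, mul_smul]
      rfl

theorem Φ_tmul (b : Γ(S', W))
    (x : Coh.HH ((f ⁻¹ᵁ V : X.Opens) : Scheme.{u}) (F.restrict (f ⁻¹ᵁ V).ι) p) :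
    letI := alg g e
    letI := overOpen f V
    letI := overOpen f' W
    Φ h e hV hW F p (b ⊗ₜ x) = b • CohPull.pullMod (gW h e) (F.restrict (f ⁻¹ᵁ V).ι) p x := rfl

variable [HasInjectiveResolutions X.Modules] [HasInjectiveResolutions X'.Modules]
  {Δ : RDer.DerivedLES (pushforward f)} {Δ' : RDer.DerivedLES (pushforward f')}
  {E : CohCmp.SectCmp f Δ} {E' : CohCmp.SectCmp f' Δ'}
  (B : CohCmp.GenBC f g f' g' h.w E E')
  [QuasiCompact f] [IsSeparated f] [F.IsQuasicoherent]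

/-- The comparison, linearly. -/
def εlin (E : CohCmp.SectCmp f Δ) :
    letI := overOpen f V
    Coh.HH ((f ⁻¹ᵁ V : X.Opens) : Scheme.{u}) (F.restrict (f ⁻¹ᵁ V).ι) p ≃ₗ[Γ(S, V)]
      Γ((Coh.Rpush f p).obj F, V) :=
  letI := overOpen f V
  LinearEquiv.ofBijective
    ({ E.ε V F p with map_smul' := fun a x => Affine.ε_smul f E V F p a x } :
      Coh.HH ((f ⁻¹ᵁ V : X.Opens) : Scheme.{u}) (F.restrict (f ⁻¹ᵁ V).ι) p →ₗ[Γ(S, V)]
        Γ((Coh.Rpush f p).obj F, V))
    (Affine.ε_bijective f E V F hV p)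

theorem diagram :
    letI := alg g e
    letI := overOpen f V
    ∀ z : Γ(S', W) ⊗[Γ(S, V)] Coh.HH ((f ⁻¹ᵁ V : X.Opens) : Scheme.{u}) (F.restrict (f ⁻¹ᵁ V).ι) p,
    (B.bc p F).app W (_root_.ZarCoh.FlatBC.PullbackSections.pbTensor g ((Coh.Rpush f p).obj F) e
        ((εlin hV F p E).toLinearMap.lTensor Γ(S', W) z)) =
      E'.ε W ((Scheme.Modules.pullback g').obj F) p
        (CohPull.mapH (CohPull.pullOnIso g' (f ⁻¹ᵁ V) (f' ⁻¹ᵁ W) (Affine.preimage_le (w := h.w) e) F).hom p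
          (Φ h e hV hW F p z)) := by
  letI := alg g e
  letI := overOpen f V
  letI := overOpen f' W
  intro z
  induction z using TensorProduct.induction_on with
  | zero => simp only [map_zero]
  | tmul b x =>
    rw [LinearMap.lTensor_tmul, _root_.ZarCoh.FlatBC.PullbackSections.pbTensor_tmul,
      Scheme.Modules.Hom.app_smul, Φ_tmul]
    rw [show (b • CohPull.pullMod (gW h e) (F.restrict (f ⁻¹ᵁ V).ι) p x) =
      (Coh.toGlobal (A := Γ(S', W)) (Affine.p₀ f' W) b : Coh.Γtop _) •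
        CohPull.pullMod (gW h e) (F.restrict (f ⁻¹ᵁ V).ι) p x from rfl, Affine.mapH_pullOnIso_smul]
    refine Eq.trans ?_ (Affine.ε_smul f' E' W ((Scheme.Modules.pullback g').obj F) p b _).symm
    exact congrArg (b • ·) (Affine.bc_pbRes B e F p x)
  | add z z' hz hz' => simp only [map_add, hz, hz']

include hV hW in
/-- The base change map on the pair, factored through `Φ`. -/
theorem exists_factor :
    letI := alg g e
    letI := overOpen f V
    ∃ (α : Γ(S', W) ⊗[Γ(S, V)] Coh.HH ((f ⁻¹ᵁ V : X.Opens) : Scheme.{u}) (F.restrict (f ⁻¹ᵁ V).ι) p →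
        Γ((Scheme.Modules.pullback g).obj ((Coh.Rpush f p).obj F), W))
      (β : Coh.HH ((f' ⁻¹ᵁ W : X'.Opens) : Scheme.{u})
          ((Scheme.Modules.pullback (gW h e)).obj (F.restrict (f ⁻¹ᵁ V).ι)) p →
        Γ((Coh.Rpush f' p).obj ((Scheme.Modules.pullback g').obj F), W)),
      Function.Bijective α ∧ Function.Bijective β ∧
        (⇑((B.bc p F).app W) ∘ α = β ∘ ⇑(Φ h e hV hW F p)) := by
  letI := alg g e
  letI := overOpen f V
  haveI : QuasiCompact f' := MorphismProperty.of_isPullback h inferInstance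
  haveI : IsSeparated f' := MorphismProperty.of_isPullback h inferInstance
  haveI := QCoh.Pullback.isQCoh_pullback g' F
  haveI : ((Coh.Rpush f p).obj F).IsQuasicoherent := by
    haveI : Coh.IsQCoh F := ‹F.IsQuasicoherent›
    exact Groth.Agent.S0030.result f F p
  exact ⟨_, _,
    (_root_.ZarCoh.FlatBC.PullbackSections.bijective_pbTensor g ((Coh.Rpush f p).obj F) hV hW e).comp
      ((εlin hV F p E).lTensor Γ(S', W)).bijective,
    (Affine.ε_bijective f' E' W ((Scheme.Modules.pullback g').obj F) hW p).comp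
      (Affine.mapH_bijective (CohPull.pullOnIso g' (f ⁻¹ᵁ V) (f' ⁻¹ᵁ W)
        (Affine.preimage_le (w := h.w) e) F) p),
    funext (diagram h e hV hW F p B)⟩

variable {ι : Type u} [Finite ι] (U : ι → ((f ⁻¹ᵁ V : X.Opens) : Scheme.{u}).Opens)
  (hU : ∀ {q : ℕ} (i : Fin (q + 1) → ι), IsAffineOpen (Groth.Agent.Lib.Cech.Complex.inter U i))
  (hcov : iSup U = ⊤)

include h hV hW hU hcov in
/-- Surjectivity of the base change map on the pair. -/
theorem surjective_iff {i k : ℤ} (hi : i + 1 = (p : ℤ)) (hk : (p : ℤ) + 1 = k) :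
    letI := alg g e
    letI := overOpen f V
    Function.Surjective ((B.bc p F).app W) ↔
      Split.Surj (Transfer.dl (C Γ(S, V) U (F.restrict (f ⁻¹ᵁ V).ι)) i p)
        (Transfer.dl (C Γ(S, V) U (F.restrict (f ⁻¹ᵁ V).ι)) p k) Γ(S', W) := by
  letI := alg g e
  letI := overOpen f V
  letI := overOpen f' W
  haveI : IsAffineHom (gW h e) :=
    _root_.ZarCoh.FlatBC.Main.isAffineHom_fst (isPullback_gW h e hV hW)
  obtain ⟨α, β, hα, hβ, he⟩ := exists_factor h e hV hW F p B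
  obtain ⟨Cmp⟩ := ProjCoh.CechNat.nonempty_comparison U hcov p
  refine Iff.trans ?_ (Square.surjective_iff (A' := Γ(S', W)) (g' := gW h e) U _ hU Cmp hk
    (isPullback_gW h e hV hW) (Φ h e hV hW F p) (Φ_tmul h e hV hW F p) hi)
  rw [← Function.Surjective.of_comp_iff _ hα.2, he, Function.Surjective.of_comp_iff' hβ]

include h hV hW hU hcov in
/-- Bijectivity of the base change map on the pair. -/
theorem bijective_of {i k : ℤ} (hi : i + 1 = (p : ℤ)) (hk : (p : ℤ) + 1 = k)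
    (hs : letI := alg g e; letI := overOpen f V
      Split.Surj (Transfer.dl (C Γ(S, V) U (F.restrict (f ⁻¹ᵁ V).ι)) i p)
        (Transfer.dl (C Γ(S, V) U (F.restrict (f ⁻¹ᵁ V).ι)) p k) Γ(S', W))
    (hj : letI := alg g e; letI := overOpen f V
      Split.Inj (Transfer.dl (C Γ(S, V) U (F.restrict (f ⁻¹ᵁ V).ι)) i p)
        (Transfer.dl (C Γ(S, V) U (F.restrict (f ⁻¹ᵁ V).ι)) p k)
        (Transfer.dl_dl (C Γ(S, V) U (F.restrict (f ⁻¹ᵁ V).ι)) i p k) Γ(S', W)) :
    Function.Bijective ((B.bc p F).app W) := by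
  letI := alg g e
  letI := overOpen f V
  letI := overOpen f' W
  haveI : IsAffineHom (gW h e) :=
    _root_.ZarCoh.FlatBC.Main.isAffineHom_fst (isPullback_gW h e hV hW)
  obtain ⟨α, β, hα, hβ, he⟩ := exists_factor h e hV hW F p B
  obtain ⟨Cmp⟩ := ProjCoh.CechNat.nonempty_comparison U hcov p
  refine (Function.Bijective.of_comp_iff _ hα).1 (he ▸ hβ.comp ⟨?_, ?_⟩)
  · exact Square.injective_of (A' := Γ(S', W)) (g' := gW h e) U _ hU Cmp hk
      (isPullback_gW h e hV hW) (Φ h e hV hW F p) (Φ_tmul h e hV hW F p) hi hj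
  · exact (Square.surjective_iff (A' := Γ(S', W)) (g' := gW h e) U _ hU Cmp hk
      (isPullback_gW h e hV hW) (Φ h e hV hW F p) (Φ_tmul h e hV hW F p) hi).2 hs

end

end Groth.Agent.H54.BCX.Pair
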