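import Groth.Agent.H54.BCX.Split
import Mathlib.Algebra.Module.FinitePresentation
import Mathlib.Algebra.Module.LocalizedModule.Away
import Mathlib.LinearAlgebra.FiniteDimensional.Lemmas

/-!
# Splitting the previous differential
-/

set_option autoImplicit false
universe u

open TensorProduct

namespace Groth.Agent.H54.BCX.Split

variable {A : Type u} [CommRing A] {P Q R : Type u}
  [AddCommGroup P] [Module A P] [AddCommGroup Q] [Module A Q] [AddCommGroup R] [Module A R]
  {a : P →ₗ[A] Q} {d : Q →ₗ[A] R}

/-- The homology. -/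
abbrev Hm (hda : d ∘ₗ a = 0) : Type u := LinearMap.ker d ⧸ LinearMap.range (bd a d hda)

/-- The quotient map. -/
abbrev mkH (hda : d ∘ₗ a = 0) : LinearMap.ker d →ₗ[A] Hm hda := (LinearMap.range (bd a d hda)).mkQ

theorem mkH_bd (hda : d ∘ₗ a = 0) (p : P) : mkH hda (bd a d hda p) = 0 :=
  (Submodule.Quotient.mk_eq_zero _).2 ⟨p, rfl⟩

/-- A section of the homology up to `g` splits the previous differential. -/
theorem split_prev [Module.Projective A Q] (hda : d ∘ₗ a = 0) {h g : A} (hd : IsSplit d h)
    (τ : Hm hda →ₗ[A] LinearMap.ker d) (hτ : ∀ v, mkH hda (τ v) = g • v) :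
    IsSplit a (g * h) := by
  obtain ⟨s, hs⟩ := hd
  let u : Q →ₗ[A] LinearMap.ker d := g • proj s hs - τ ∘ₗ mkH hda ∘ₗ proj s hs
  have hu : ∀ v, u v ∈ LinearMap.range (bd a d hda) := fun v => by
    rw [← Submodule.Quotient.mk_eq_zero]
    show mkH hda (g • proj s hs v - τ (mkH hda (proj s hs v))) = 0
    rw [map_sub, map_smul, hτ, sub_self]
  obtain ⟨s', hs'⟩ := Module.projective_lifting_property (bd a d hda).rangeRestrict
    (u.codRestrict _ hu) (bd a d hda).surjective_rangeRestrict
  refine ⟨s', LinearMap.ext fun p => ?_⟩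
  have h1 : a (s' (a p)) = (u (a p) : Q) :=
    congrArg (fun z => ((Subtype.val z : LinearMap.ker d) : Q)) (LinearMap.congr_fun hs' (a p))
  have h2 : proj s hs (a p) = h • bd a d hda p :=
    Subtype.ext (proj_cycle s hs (LinearMap.congr_fun hda p))
  have h3 : mkH hda (h • bd a d hda p) = 0 := by rw [map_smul, mkH_bd, smul_zero]
  refine h1.trans ?_
  show ((g • proj s hs (a p) - τ (mkH hda (proj s hs (a p))) : LinearMap.ker d) : Q) = _
  rw [h2, h3, map_zero, sub_zero, smul_smul]
  rfl

/-- When both differentials split, the homology is a retract up to a factor. -/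
theorem retract (hda : d ∘ₗ a = 0) {h h' : A} (hd : IsSplit d h) (ha : IsSplit a h') :
    ∃ (j : Hm hda →ₗ[A] Q) (π : Q →ₗ[A] Hm hda), ∀ v, π (j v) = (h * h') • v := by
  obtain ⟨s, hs⟩ := hd
  obtain ⟨s', hs'⟩ := ha
  let j₀ : LinearMap.ker d →ₗ[A] Q := (h' • LinearMap.id - a ∘ₗ s') ∘ₗ (LinearMap.ker d).subtype
  have hj : LinearMap.range (bd a d hda) ≤ LinearMap.ker j₀ := by
    rintro _ ⟨p, rfl⟩
    have := LinearMap.congr_fun hs' p
    show h' • a p - a (s' (a p)) = 0
    simp only [LinearMap.comp_apply, LinearMap.smul_apply] at this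
    rw [this, sub_self]
  refine ⟨(LinearMap.range (bd a d hda)).liftQ j₀ hj, mkH hda ∘ₗ proj s hs, fun v => ?_⟩
  obtain ⟨z, rfl⟩ := Submodule.mkQ_surjective _ v
  show mkH hda (proj s hs (h' • (z : Q) - a (s' (z : Q)))) = (h * h') • mkH hda z
  have h1 : proj s hs (a (s' (z : Q))) = h • bd a d hda (s' (z : Q)) :=
    Subtype.ext (proj_cycle s hs (LinearMap.congr_fun hda _))
  have h2 : proj s hs (z : Q) = h • z := Subtype.ext (proj_cycle s hs z.2)
  rw [map_sub, map_smul, h1, h2, map_sub, map_smul, map_smul, map_smul, mkH_bd, smul_zero, sub_zero,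
    smul_smul, mul_comm]

/-- A projective localization of the homology gives a section up to a factor. -/
theorem exists_section [Module.Finite A P] [Module.Finite A Q] [Module.Free A Q]
    (hda : d ∘ₗ a = 0) {h : A} (hd : IsSplit d h) (g : A)
    [Module.Projective (Localization.Away g) (LocalizedModule.Away g (Hm hda))] :
    ∃ (τ : Hm hda →ₗ[A] LinearMap.ker d) (n m : ℕ), ∀ v, mkH hda (τ v) = (h ^ n * g ^ m) • v := by
  obtain ⟨s, hs⟩ := hd
  let S := Submonoid.powers g
  let π : Q →ₗ[A] Hm hda := mkH hda ∘ₗ proj s hs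
  let C := Q ⧸ LinearMap.range a
  haveI : Module.FinitePresentation A Q := Module.finitePresentation_of_projective A Q
  haveI : Module.FinitePresentation A C :=
    Module.finitePresentation_of_surjective (LinearMap.range a).mkQ (Submodule.mkQ_surjective _)
      (by rw [Submodule.ker_mkQ]; exact Module.Finite.iff_fg.1 (Module.Finite.range a))
  let ι : Hm hda →ₗ[A] C := (LinearMap.range (bd a d hda)).mapQ (LinearMap.range a)
    (LinearMap.ker d).subtype (by rintro _ ⟨p, rfl⟩; exact ⟨p, rfl⟩)
  let πC : C →ₗ[A] Hm hda := (LinearMap.range a).liftQ π (by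
    rintro _ ⟨p, rfl⟩
    show mkH hda (proj s hs (a p)) = 0
    rw [show proj s hs (a p) = h • bd a d hda p from
      Subtype.ext (proj_cycle s hs (LinearMap.congr_fun hda p)), map_smul, mkH_bd, smul_zero])
  have hπι : ∀ v, πC (ι v) = h • v := fun v => by
    obtain ⟨z, rfl⟩ := Submodule.mkQ_surjective _ v
    show mkH hda (proj s hs (z : Q)) = h • mkH hda z
    rw [show proj s hs (z : Q) = h • z from Subtype.ext (proj_cycle s hs z.2), map_smul]
  let πg := LocalizedModule.map S π
  -- the image of the localized projection contains `h` times everything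
  have hh : ∀ v, ∃ w, πg w = h • v := fun v => by
    induction v using LocalizedModule.induction_on with
    | h m s₀ =>
      obtain ⟨z, rfl⟩ := Submodule.mkQ_surjective _ m
      refine ⟨LocalizedModule.mk (z : Q) s₀, ?_⟩
      rw [LocalizedModule.map_mk, LocalizedModule.smul'_mk]
      congr 1
      show mkH hda (proj s hs (z : Q)) = h • mkH hda z
      rw [show proj s hs (z : Q) = h • z from Subtype.ext (proj_cycle s hs z.2), map_smul]
  let hG : LocalizedModule S (Hm hda) →ₗ[Localization S] LinearMap.range πg :=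
    LinearMap.codRestrict _ (algebraMap A (Localization S) h • LinearMap.id) fun v => by
      obtain ⟨w, hw⟩ := hh v
      exact ⟨w, by rw [hw]; exact (algebraMap_smul (Localization S) h v).symm⟩
  obtain ⟨σ, hσ⟩ := Module.projective_lifting_property πg.rangeRestrict hG
    πg.surjective_rangeRestrict
  let g₁ : C →ₗ[A] LocalizedModule S Q :=
    (σ.restrictScalars A) ∘ₗ LocalizedModule.mkLinearMap S (Hm hda) ∘ₗ πC
  obtain ⟨k, ⟨_, N, rfl⟩, hk⟩ := Module.FinitePresentation.exists_lift_of_isLocalizedModule S
    (LocalizedModule.mkLinearMap S Q) g₁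
  let E : Hm hda →ₗ[A] Hm hda := π ∘ₗ k ∘ₗ ι - (g ^ N * (h * h)) • LinearMap.id
  have hE : ∀ v, LocalizedModule.mkLinearMap S (Hm hda) (E v) = 0 := fun v => by
    have h1 := LinearMap.congr_fun hk (ι v)
    simp only [LinearMap.comp_apply, LinearMap.smul_apply, g₁, LinearMap.restrictScalars_apply,
      hπι] at h1
    have h2 : LocalizedModule.mkLinearMap S (Hm hda) (π (k (ι v))) =
        πg (LocalizedModule.mkLinearMap S Q (k (ι v))) := (LocalizedModule.map_mk S π _ _).symm
    have h3 : ∀ w, πg (σ w) = algebraMap A (Localization S) h • w := fun w =>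
      congrArg Subtype.val (LinearMap.congr_fun hσ w)
    show LocalizedModule.mkLinearMap S (Hm hda) (π (k (ι v)) - (g ^ N * (h * h)) • v) = 0
    rw [map_sub, h2, h1, sub_eq_zero, Submonoid.smul_def, LinearMap.map_smul_of_tower, h3,
      algebraMap_smul, map_smul, map_smul, smul_smul, smul_smul, mul_assoc]
  have key : ∀ v, ∃ c : S, (c : A) • E (π v) = 0 := fun v => by
    obtain ⟨c, hc⟩ := (IsLocalizedModule.eq_zero_iff S (LocalizedModule.mkLinearMap S (Hm hda))).1 (hE (π v))
    exact ⟨c, hc⟩
  classical
  obtain ⟨G, hG'⟩ := Module.Finite.fg_top (R := A) (M := Q)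
  choose c hc using key
  obtain ⟨M, hM⟩ : ∃ M, g ^ M = ((∏ v ∈ G, c v : S) : A) := (∏ v ∈ G, c v : S).2
  have hkill : ∀ v, g ^ M • E (π v) = 0 := fun v => by
    have hv : v ∈ Submodule.span A (G : Set Q) := hG' ▸ trivial
    induction hv using Submodule.span_induction with
    | mem w hw =>
      rw [hM, ← Finset.prod_erase_mul _ _ hw, Submonoid.coe_mul, mul_smul, hc, smul_zero]
    | zero => simp
    | add x y _ _ hx hy => rw [map_add, map_add, smul_add, hx, hy, add_zero]
    | smul r x _ hx => rw [map_smul, map_smul, smul_comm, hx, smul_zero]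
  refine ⟨g ^ M • h • (proj s hs ∘ₗ k ∘ₗ ι), 3, M + N, fun v => ?_⟩
  have hv : g ^ M • h • E v = 0 := by
    obtain ⟨z, rfl⟩ := Submodule.mkQ_surjective _ v
    have : π (z : Q) = h • mkH hda z := by
      show mkH hda (proj s hs (z : Q)) = _
      rw [show proj s hs (z : Q) = h • z from Subtype.ext (proj_cycle s hs z.2), map_smul]
    rw [← map_smul, ← this]
    exact hkill _
  have hv' : g ^ M • h • (π (k (ι v)) - (g ^ N * (h * h)) • v) = 0 := hv
  rw [smul_sub, smul_sub, sub_eq_zero] at hv'
  show mkH hda (g ^ M • h • proj s hs (k (ι v))) = _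
  rw [map_smul, map_smul]
  refine hv'.trans ?_
  rw [smul_smul, smul_smul, show g ^ M * h * (g ^ N * (h * h)) = h ^ 3 * g ^ (M + N) by ring]

/-- A projective cokernel splits. -/
theorem split_of_projective_coker [Module.Projective A R]
    [Module.Projective A (R ⧸ LinearMap.range d)] : IsSplit d (1 : A) := by
  obtain ⟨σ, hσ⟩ := Module.projective_lifting_property (LinearMap.range d).mkQ LinearMap.id
    (Submodule.mkQ_surjective _)
  let p : R →ₗ[A] LinearMap.range d :=
    LinearMap.codRestrict _ (LinearMap.id - σ ∘ₗ (LinearMap.range d).mkQ) fun w => by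
      rw [← Submodule.Quotient.mk_eq_zero]
      show (LinearMap.range d).mkQ (w - σ _) = 0
      rw [map_sub, show (LinearMap.range d).mkQ (σ ((LinearMap.range d).mkQ w)) = _ from
        LinearMap.congr_fun hσ _, LinearMap.id_apply, sub_self]
  obtain ⟨s, hs⟩ := Module.projective_lifting_property d.rangeRestrict p d.surjective_rangeRestrict
  refine ⟨s, LinearMap.ext fun v => ?_⟩
  have h1 : d (s (d v)) = (p (d v) : R) := congrArg Subtype.val (LinearMap.congr_fun hs (d v))
  refine h1.trans ?_
  show d v - σ ((LinearMap.range d).mkQ (d v)) = (1 : A) • d v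
  rw [show (LinearMap.range d).mkQ (d v) = 0 from (Submodule.Quotient.mk_eq_zero _).2 ⟨v, rfl⟩,
    map_zero, sub_zero, one_smul]

section Dim

variable {K : Type u} [Field K] [Algebra A K]

theorem finrank_coker (f : Q →ₗ[A] R) [Module.Finite A R] :
    Module.finrank K (K ⊗[A] (R ⧸ LinearMap.range f)) + Module.finrank K (LinearMap.range (f.baseChange K)) =
      Module.finrank K (K ⊗[A] R) := by
  have hex := _root_.lTensor_exact K (LinearMap.exact_map_mkQ_range f) (Submodule.mkQ_surjective _)
  have hsurj : Function.Surjective ((LinearMap.range f).mkQ.baseChange K) :=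
    LinearMap.lTensor_surjective K (Submodule.mkQ_surjective _)
  have hk : LinearMap.ker ((LinearMap.range f).mkQ.baseChange K) = LinearMap.range (f.baseChange K) := by
    ext z
    exact hex z
  have := LinearMap.finrank_range_add_finrank_ker ((LinearMap.range f).mkQ.baseChange K)
  rwa [LinearMap.range_eq_top.2 hsurj, finrank_top, hk] at this

/-- The rank of a split differential and of its complement add up. -/
theorem finrank_compl [Module.Finite A R] {s : R →ₗ[A] Q} {h : A}
    (hs : d ∘ₗ s ∘ₗ d = h • d) (hh : algebraMap A K h ≠ 0) :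
    Module.finrank K (LinearMap.range (d.baseChange K)) +
      Module.finrank K (LinearMap.range ((h • LinearMap.id - d ∘ₗ s).baseChange K)) =
      Module.finrank K (K ⊗[A] R) := by
  let dK := d.baseChange K
  let uK := (h • LinearMap.id - d ∘ₗ s).baseChange K
  have hu : ∀ z, uK z = algebraMap A K h • z - dK (s.baseChange K z) := fun z => by
    simp only [uK, dK, LinearMap.baseChange_sub, LinearMap.baseChange_smul, LinearMap.baseChange_id,
      LinearMap.baseChange_comp, LinearMap.sub_apply, LinearMap.smul_apply, LinearMap.comp_apply,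
      LinearMap.id_apply, algebraMap_smul]
  have hud : ∀ z, uK (dK z) = 0 := fun z => by
    have : (h • LinearMap.id - d ∘ₗ s) ∘ₗ d = 0 := LinearMap.ext fun v => by
      have := LinearMap.congr_fun hs v
      simp only [LinearMap.comp_apply, LinearMap.smul_apply] at this
      simp [this]
    rw [← LinearMap.comp_apply, ← LinearMap.baseChange_comp, this, LinearMap.baseChange_zero,
      LinearMap.zero_apply]
  have hc : IsCompl (LinearMap.range dK) (LinearMap.range uK) := by
    refine ⟨Submodule.disjoint_def.2 fun z hz hz' => ?_, codisjoint_iff.2 (eq_top_iff.2 fun z _ => ?_)⟩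
    · obtain ⟨p, rfl⟩ := hz
      obtain ⟨q, hq⟩ := hz'
      have h2 : uK (uK q) = algebraMap A K h • uK q := by
        rw [hu q, map_sub, map_smul, hud, sub_zero, ← hu q]
      rw [hq, hud, eq_comm, smul_eq_zero] at h2
      exact h2.resolve_left hh
    · rw [show z = (algebraMap A K h)⁻¹ • (uK z + dK (s.baseChange K z)) by
        rw [hu, sub_add_cancel, smul_smul, inv_mul_cancel₀ hh, one_smul]]
      refine Submodule.smul_mem _ _ (Submodule.add_mem _ (Submodule.mem_sup_right ⟨_, rfl⟩)
        (Submodule.mem_sup_left ⟨_, rfl⟩))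
  exact (Submodule.finrank_add_eq_of_isCompl hc)

end Dim

end Groth.Agent.H54.BCX.Split
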