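import Groth.Agent.H54.BCX.Main
import Groth.Agent.Lib.Exchange.LocalRep

/-!
# Sections of higher direct images over an affine open, without chosen comparison data
-/

set_option autoImplicit false
set_option linter.style.haveILetI false
set_option maxHeartbeats 1000000
universe u

open CategoryTheory Limits AlgebraicGeometry AlgebraicGeometry.Scheme.Modules Opposite TopologicalSpace
open Groth.Agent.Lib

namespace Groth.Agent.H54.BCX.RSec

noncomputable section

attribute [local instance] Pair.overOpen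

variable {X S : Scheme.{u}} {f : X ⟶ S} {F : X.Modules} [F.IsQuasicoherent] {V : S.Opens}

theorem nonempty_equiv [QuasiCompact f] [QuasiSeparated f] [HasInjectiveResolutions X.Modules]
    (hV : IsAffineOpen V) (p : ℕ) :
    letI := Pair.overOpen f V
    Nonempty (Γ((Coh.Rpush f p).obj F, V) ≃ₗ[Γ(S, V)]
      Coh.HH ((f ⁻¹ᵁ V : X.Opens) : Scheme.{u}) (F.restrict (f ⁻¹ᵁ V).ι) p) := by
  letI := Pair.overOpen f V
  haveI : IsAffine (V : Scheme.{u}) := hV
  obtain ⟨s⟩ := ZarCoh.Exchange.LocalRep.nonempty_sections f V F p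
  let R := (Coh.Rpush f p).obj F
  let r := R.presheaf.map (homOfLE V.ι_image_top.le).op
  let φ : Γ(R, V) →+ Coh.HH ((f ⁻¹ᵁ V : X.Opens) : Scheme.{u}) (F.restrict (f ⁻¹ᵁ V).ι) p :=
    s.toAddEquiv.toAddMonoidHom.comp (r.hom : Γ(R, V) →+ Γ(R, V.ι ''ᵁ ⊤))
  have hφ : ∀ (a : Γ(S, V)) (t : Γ(R, V)), φ (a • t) = a • φ t := fun a t => by
    let b : ZarCoh.Exchange.Local.AV V := S.presheaf.map (homOfLE V.ι_image_top.le).op a
    let t' : Γ(R.restrict V.ι, ⊤) := r t
    have h1 : (r (a • t) : Γ(R, V.ι ''ᵁ ⊤)) = b • t' :=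
      (R.map_smul (homOfLE V.ι_image_top.le) a t).trans (OpenSec.restrict_smul R _ b t').symm
    refine (congrArg s h1).trans ((s.map_smul b t').trans ?_)
    show (Coh.toGlobal (ZarCoh.Exchange.Local.XV f V ↘ Spec (CommRingCat.of (ZarCoh.Exchange.Local.AV V))) b :
        Coh.Γtop ((f ⁻¹ᵁ V : X.Opens) : Scheme.{u})) • s t' =
      (Coh.toGlobal (A := Γ(S, V)) (Affine.p₀ f V) a : Coh.Γtop ((f ⁻¹ᵁ V : X.Opens) : Scheme.{u})) • s t'
    refine congrArg (· • s t') ?_
    refine (ZarCoh.Exchange.Local.toGlobal_toSpec f V b).trans ?_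
    exact (Affine.toGlobal_p₀ f V a).symm
  exact ⟨LinearEquiv.ofBijective { φ with map_smul' := hφ }
    (s.bijective.comp (Affine.res_bijective V R))⟩

variable [IsProper f] [HasInjectiveResolutions X.Modules]

/-- Two split differentials give local freeness. -/
theorem projective_of_split (hV : IsAffineOpen V) (D : Crit.Dat f F V) (p : ℕ) (a : Γ(S, V))
    (h1 : Split.IsSplit (Transfer.dl D.L (p : ℤ) ((p : ℤ) + 1)) a)
    (h2 : Split.IsSplit (Transfer.dl D.L ((p : ℤ) - 1) (p : ℤ)) a) :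
    Module.Finite Γ(S, S.basicOpen a) Γ((Coh.Rpush f p).obj F, S.basicOpen a) ∧
      Module.Projective Γ(S, S.basicOpen a) Γ((Coh.Rpush f p).obj F, S.basicOpen a) := by
  letI := Pair.overOpen f V
  haveI := Crit.qcoh_Rpush (f := f) (F := F) p
  haveI := (D.hfree p).1
  haveI := (D.hfree p).2
  obtain ⟨e₁⟩ := Loc.nonempty_HH D (p := p) (i := (p : ℤ) - 1) (k := (p : ℤ) + 1) (by omega) rfl
  obtain ⟨e₀⟩ := nonempty_equiv (f := f) (F := F) hV p
  let e := e₀.trans e₁
  obtain ⟨j, π, hπ⟩ := Split.retract (Transfer.dl_dl D.L ((p : ℤ) - 1) p ((p : ℤ) + 1)) h1 h2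
  refine OpenSec.projective_basicOpen _ hV a (j ∘ₗ e.toLinearMap) (e.symm.toLinearMap ∘ₗ π) (N := 2)
    fun v => ?_
  simp only [LinearMap.comp_apply, LinearEquiv.coe_coe, hπ, LinearEquiv.map_smul, LinearEquiv.symm_apply_apply,
    pow_two]

/-- Splitting near every point gives local freeness. -/
theorem isFinLocFree_of_sp (p : ℕ)
    (H : ∀ s : S, ∃ (V : S.Opens) (_ : IsAffineOpen V) (D : Crit.Dat f F V),
      Crit.Sp D p s ∧ Crit.Sp D ((p : ℤ) - 1) s) : FlatMod.IsFinLocFree ((Coh.Rpush f p).obj F) := by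
  haveI := Crit.qcoh_Rpush (f := f) (F := F) p
  refine Modules.AffineSections.isFinLocFree_of_sections fun s => ?_
  obtain ⟨V, hV, D, h1, h2⟩ := H s
  obtain ⟨a, ha, g1, g2⟩ := Main.exists_common h1 h2
  letI := Pair.overOpen f V
  exact ⟨S.basicOpen a, hV.basicOpen a, ha,
    projective_of_split hV D p a g1 (Crit.split_congr D.L rfl (by omega) g2)⟩

end

end Groth.Agent.H54.BCX.RSec
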