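import Groth.Agent.H54.BCX.Nakayama
import Mathlib.LinearAlgebra.Basis.VectorSpace
import Mathlib.LinearAlgebra.TensorProduct.RightExactness
import Mathlib.RingTheory.Localization.Module
import Mathlib.LinearAlgebra.FiniteDimensional.Basic
import Mathlib.LinearAlgebra.FreeModule.Basic
import Mathlib.Algebra.Module.Projective

/-!
# Splitting a differential near a point

For linear maps `P -a→ Q -d→ R` with `d ∘ a = 0`, the comparison `H ⊗ M → H(Q ⊗ M)` is governed by
the existence of `s` with `d s d = h • d`, `h` a unit on `M`.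
-/

set_option autoImplicit false
universe u

open TensorProduct

namespace Groth.Agent.H54.BCX.Split

variable {A : Type u} [CommRing A] {P Q R : Type u}
  [AddCommGroup P] [Module A P] [AddCommGroup Q] [Module A Q] [AddCommGroup R] [Module A R]

/-- `d` has a pseudo-inverse up to `h`. -/
def IsSplit (d : Q →ₗ[A] R) (h : A) : Prop :=
  ∃ s : R →ₗ[A] Q, d ∘ₗ s ∘ₗ d = h • d

theorem IsSplit.mul_left {d : Q →ₗ[A] R} {h : A} (hd : IsSplit d h) (c : A) : IsSplit d (c * h) := by
  obtain ⟨s, hs⟩ := hd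
  refine ⟨c • s, ?_⟩
  rw [LinearMap.smul_comp, LinearMap.comp_smul, hs, smul_smul]

theorem IsSplit.mul_right {d : Q →ₗ[A] R} {h : A} (hd : IsSplit d h) (c : A) : IsSplit d (h * c) :=
  mul_comm c h ▸ hd.mul_left c

/-- The projection to the cycles. -/
def proj {d : Q →ₗ[A] R} {h : A} (s : R →ₗ[A] Q) (hs : d ∘ₗ s ∘ₗ d = h • d) :
    Q →ₗ[A] LinearMap.ker d :=
  LinearMap.codRestrict _ (h • LinearMap.id - s ∘ₗ d) fun v => by
    have := LinearMap.congr_fun hs v
    simp only [LinearMap.comp_apply, LinearMap.smul_apply] at this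
    simp [this]

theorem proj_coe {d : Q →ₗ[A] R} {h : A} (s : R →ₗ[A] Q) (hs : d ∘ₗ s ∘ₗ d = h • d) (v : Q) :
    (proj s hs v : Q) = h • v - s (d v) := rfl

theorem proj_cycle {d : Q →ₗ[A] R} {h : A} (s : R →ₗ[A] Q) (hs : d ∘ₗ s ∘ₗ d = h • d) {v : Q}
    (hv : d v = 0) : (proj s hs v : Q) = h • v := by
  rw [proj_coe, hv, map_zero, sub_zero]

variable (a : P →ₗ[A] Q) (d : Q →ₗ[A] R)

/-- The boundary map into the cycles. -/
def bd (hda : d ∘ₗ a = 0) : P →ₗ[A] LinearMap.ker d :=
  LinearMap.codRestrict _ a fun v => LinearMap.congr_fun hda v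

/-- `H ⊗ M → H(Q ⊗ M)` is surjective. -/
def Surj (M : Type u) [AddCommGroup M] [Module A M] : Prop :=
  ∀ w : Q ⊗[A] M, d.rTensor M w = 0 →
    ∃ t : LinearMap.ker d ⊗[A] M, w - (LinearMap.ker d).subtype.rTensor M t ∈ LinearMap.range (a.rTensor M)

/-- `H ⊗ M → H(Q ⊗ M)` is injective. -/
def Inj (hda : d ∘ₗ a = 0) (M : Type u) [AddCommGroup M] [Module A M] : Prop :=
  ∀ t : LinearMap.ker d ⊗[A] M, (LinearMap.ker d).subtype.rTensor M t ∈ LinearMap.range (a.rTensor M) →
    t ∈ LinearMap.range ((bd a d hda).rTensor M)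

variable {a d}

section Unit

variable {M : Type u} [AddCommGroup M] [Module A M] {h : A}

theorem smul_tensor_bijective (hM : Function.Bijective fun m : M => h • m) (N : Type u)
    [AddCommGroup N] [Module A N] : Function.Bijective fun w : N ⊗[A] M => h • w := by
  have hb : Function.Bijective (LinearMap.lsmul A M h) := hM
  let e : M ≃ₗ[A] M := LinearEquiv.ofBijective (LinearMap.lsmul A M h) hb
  have h1 : ∀ m, h • e.symm.toLinearMap m = m := fun m => e.apply_symm_apply m
  have h2 : h • e.symm.toLinearMap = LinearMap.id := LinearMap.ext h1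
  have h3 : ∀ w : N ⊗[A] M, h • LinearMap.lTensor N e.symm.toLinearMap w = w := fun w => by
    rw [← LinearMap.smul_apply, ← LinearMap.lTensor_smul, h2, LinearMap.lTensor_id_apply]
  refine ⟨fun v w hvw => ?_, fun w => ⟨_, h3 w⟩⟩
  have h4 := congrArg (LinearMap.lTensor N e.symm.toLinearMap) hvw
  simp only [map_smul, h3] at h4
  exact h4

theorem proj_rTensor {s : R →ₗ[A] Q} (hs : d ∘ₗ s ∘ₗ d = h • d) (w : Q ⊗[A] M) :
    (LinearMap.ker d).subtype.rTensor M ((proj s hs).rTensor M w) =
      h • w - s.rTensor M (d.rTensor M w) := by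
  rw [← LinearMap.comp_apply, ← LinearMap.rTensor_comp,
    show (LinearMap.ker d).subtype ∘ₗ proj s hs = h • LinearMap.id - s ∘ₗ d from rfl,
    LinearMap.rTensor_sub, LinearMap.sub_apply, LinearMap.rTensor_smul, LinearMap.rTensor_id,
    LinearMap.rTensor_comp]
  rfl

theorem surj_of_split (hd : IsSplit d h) (hM : Function.Bijective fun m : M => h • m) :
    Surj a d M := by
  intro w hw
  obtain ⟨s, hs⟩ := hd
  obtain ⟨w', hw'⟩ := (smul_tensor_bijective hM Q).2 w
  subst hw'
  refine ⟨(proj s hs).rTensor M w', ?_⟩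
  have h0 : d.rTensor M w' = 0 :=
    (smul_tensor_bijective hM R).1
      (show h • d.rTensor M w' = h • 0 by rw [smul_zero, ← map_smul]; exact hw)
  rw [proj_rTensor hs, h0, map_zero, sub_zero, sub_self]
  exact zero_mem _

theorem inj_of_split (hda : d ∘ₗ a = 0) (hd : IsSplit d h)
    (hM : Function.Bijective fun m : M => h • m) : Inj a d hda M := by
  intro t ⟨u, hu⟩
  obtain ⟨s, hs⟩ := hd
  have h1 : proj s hs ∘ₗ (LinearMap.ker d).subtype = h • LinearMap.id :=
    LinearMap.ext fun z => Subtype.ext (proj_cycle s hs z.2)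
  have h2 : proj s hs ∘ₗ a = h • bd a d hda :=
    LinearMap.ext fun z => Subtype.ext (proj_cycle s hs (LinearMap.congr_fun hda z))
  have h3 := congrArg ((proj s hs).rTensor M) hu
  rw [← LinearMap.comp_apply, ← LinearMap.rTensor_comp, h2, ← LinearMap.comp_apply,
    ← LinearMap.rTensor_comp, h1, LinearMap.rTensor_smul, LinearMap.rTensor_smul,
    LinearMap.rTensor_id] at h3
  exact ⟨u, (smul_tensor_bijective hM _).1 h3⟩

end Unit

section Field

variable {K : Type u} [Field K] [Algebra A K]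

/-- `K` is generated by fractions of elements of `A`. -/
def IsFrac (A K : Type u) [CommRing A] [Field K] [Algebra A K] : Prop :=
  ∀ k : K, ∃ c b : A, algebraMap A K c ≠ 0 ∧ algebraMap A K c * k = algebraMap A K b

theorem exists_smul_eq_tmul (hK : IsFrac A K) {N : Type u} [AddCommGroup N] [Module A N]
    (z : N ⊗[A] K) : ∃ (m : N) (c : A), algebraMap A K c ≠ 0 ∧ c • z = m ⊗ₜ (1 : K) := by
  induction z using TensorProduct.induction_on with
  | zero => exact ⟨0, 1, by simp, by simp⟩
  | tmul n k =>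
    obtain ⟨c, b, hc, hb⟩ := hK k
    refine ⟨b • n, c, hc, ?_⟩
    rw [← TensorProduct.tmul_smul, Algebra.smul_def, hb, Algebra.algebraMap_eq_smul_one,
      ← TensorProduct.smul_tmul]
  | add x y hx hy =>
    obtain ⟨m, c, hc, hm⟩ := hx
    obtain ⟨n, e, he, hn⟩ := hy
    refine ⟨e • m + c • n, c * e, by simp [hc, he], ?_⟩
    rw [smul_add, TensorProduct.add_tmul, ← TensorProduct.smul_tmul', ← TensorProduct.smul_tmul',
      ← hm, ← hn, smul_smul, smul_smul, mul_comm c e]

theorem mem_smul_top_of_tmul_eq_zero {N : Type u} [AddCommGroup N] [Module A N] [Module.Free A N]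
    {v : N} (hv : v ⊗ₜ[A] (1 : K) = 0) : v ∈ RingHom.ker (algebraMap A K) • (⊤ : Submodule A N) := by
  let b := Module.Free.chooseBasis A N
  rw [← b.linearCombination_repr v, Finsupp.linearCombination_apply]
  refine Submodule.sum_mem _ fun i _ => Submodule.smul_mem_smul ?_ trivial
  have := congrArg (TensorProduct.lid A K ∘ (b.coord i).rTensor K) hv
  rw [RingHom.mem_ker, Algebra.algebraMap_eq_smul_one]
  simpa using this

theorem exists_uniform {N : Type u} [AddCommGroup N] [Module A N] [Module.Finite A N]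
    (N' : Submodule A N) (H : ∀ v : N, ∃ c : A, algebraMap A K c ≠ 0 ∧ c • v ∈ N') :
    ∃ c : A, algebraMap A K c ≠ 0 ∧ ∀ v : N, c • v ∈ N' := by
  classical
  obtain ⟨G, hG⟩ := Module.Finite.fg_top (R := A) (M := N)
  choose f hf hf' using H
  refine ⟨∏ v ∈ G, f v, by simp [Finset.prod_ne_zero_iff, hf], fun w => ?_⟩
  have hw : w ∈ Submodule.span A (G : Set N) := hG ▸ trivial
  induction hw using Submodule.span_induction with
  | mem v hv =>
    rw [← Finset.prod_erase_mul _ _ hv, mul_smul]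
    exact N'.smul_mem _ (hf' v)
  | zero => simp
  | add x y _ _ hx hy => rw [smul_add]; exact N'.add_mem hx hy
  | smul r x _ hx => rw [smul_comm]; exact N'.smul_mem _ hx

theorem exists_inverse [Module.Finite A R] [Module.Free A R] (hK : IsFrac A K) :
    ∃ (s : R →ₗ[A] Q) (c : A), algebraMap A K c ≠ 0 ∧ ∀ w : Q ⊗[A] K,
      d.rTensor K (s.rTensor K (d.rTensor K w)) = c • d.rTensor K w := by
  classical
  let b := Module.Free.chooseBasis A R
  let dK : K ⊗[A] Q →ₗ[K] K ⊗[A] R := d.baseChange K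
  haveI : Module.Free K dK.range := Module.Free.of_basis (Module.Basis.ofVectorSpace K (dK.range : Submodule K _))
  haveI : Module.Projective K dK.range := Module.Projective.of_free
  obtain ⟨g₀, hg₀⟩ := dK.rangeRestrict.exists_rightInverse_of_surjective dK.range_rangeRestrict
  obtain ⟨g, hg⟩ := g₀.exists_extend
  have key : ∀ z, dK (g (dK z)) = dK z := fun z => by
    have h1 : g (dK z) = g₀ (dK.rangeRestrict z) := LinearMap.congr_fun hg (dK.rangeRestrict z)
    rw [h1]
    exact congrArg Subtype.val (LinearMap.congr_fun hg₀ (dK.rangeRestrict z))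
  choose m c hc hm using fun i => exists_smul_eq_tmul hK
    (TensorProduct.comm A K Q (g ((1 : K) ⊗ₜ b i)))
  let C : A := ∏ i, c i
  let s : R →ₗ[A] Q := b.constr A fun i => (∏ j ∈ Finset.univ.erase i, c j) • m i
  refine ⟨s, C, by simp [C, Finset.prod_ne_zero_iff, hc], ?_⟩
  have hs : s.baseChange K = C • g := by
    refine (b.baseChange K).ext fun i => ?_
    rw [Module.Basis.baseChange_apply, LinearMap.baseChange_tmul, LinearMap.smul_apply]
    apply (TensorProduct.comm A K Q).injective
    rw [map_smul, TensorProduct.comm_tmul]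
    simp only [s, Module.Basis.constr_basis, C]
    rw [← TensorProduct.smul_tmul', ← hm i, smul_smul, Finset.prod_erase_mul _ _ (Finset.mem_univ i)]
  intro w
  have hc : ∀ {N N' : Type u} [AddCommGroup N] [Module A N] [AddCommGroup N'] [Module A N']
      (f : N →ₗ[A] N') (x : N ⊗[A] K),
      TensorProduct.comm A N' K (f.rTensor K x) = f.baseChange K (TensorProduct.comm A N K x) := by
    intro N N' _ _ _ _ f x
    induction x using TensorProduct.induction_on with
    | zero => simp
    | tmul n k => simp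
    | add y z hy hz => simp [hy, hz]
  apply (TensorProduct.comm A R K).injective
  rw [hc, hc, hc, map_smul, hc, hs, LinearMap.smul_apply, ← algebraMap_smul K C, map_smul,
    algebraMap_smul]
  exact congrArg (C • ·) (key _)

theorem coe_aeval_restrict {W : Type u} [AddCommGroup W] [Module A W] {N : Submodule A W}
    (f : Module.End A W) (φ : Module.End A N) (hφ : ∀ w : N, (φ w : W) = f w) (q : Polynomial A)
    (w : N) : Polynomial.aeval f q (w : W) = ((Polynomial.aeval φ q w : N) : W) := by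
  induction q using Polynomial.induction_on generalizing w with
  | C r => simp [Module.algebraMap_end_apply]
  | add p q hp hq => simp [map_add, hp, hq]
  | monomial n r h =>
    simp only [pow_succ, ← mul_assoc, map_mul, Polynomial.aeval_X, Module.End.mul_apply] at h ⊢
    rw [← hφ, h (φ w)]

/-- Surjectivity at a point splits the differential near the point. -/
theorem split_of_surj [Module.Finite A Q] [Module.Free A Q] [Module.Finite A R] [Module.Free A R]
    (hK : IsFrac A K) (hda : d ∘ₗ a = 0) (hs : Surj a d K) :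
    ∃ h : A, algebraMap A K h ≠ 0 ∧ IsSplit d h := by
  let x := RingHom.ker (algebraMap A K)
  haveI : x.IsPrime := RingHom.ker_isPrime _
  obtain ⟨s, c, hc, hsd⟩ := exists_inverse (d := d) hK
  let S : Submodule A Q := LinearMap.ker d ⊔ LinearMap.range (s ∘ₗ d)
  have H : ∀ v : Q, ∃ e : A, algebraMap A K e ≠ 0 ∧ e • v ∈ S ⊔ x • ⊤ := by
    intro v
    let u : Q := c • v - s (d v)
    have hu : d.rTensor K (u ⊗ₜ (1 : K)) = 0 := by
      rw [LinearMap.rTensor_tmul, map_sub, map_smul, TensorProduct.sub_tmul,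
        ← TensorProduct.smul_tmul', sub_eq_zero]
      simpa using (hsd (v ⊗ₜ (1 : K))).symm
    obtain ⟨t, w, hw⟩ := hs _ hu
    obtain ⟨z, c₁, hc₁, hz⟩ := exists_smul_eq_tmul hK t
    obtain ⟨p, c₂, hc₂, hp⟩ := exists_smul_eq_tmul hK w
    have h0 : ((c₁ * c₂) • u - c₂ • (z : Q) - c₁ • a p) ⊗ₜ[A] (1 : K) = 0 := by
      rw [TensorProduct.sub_tmul, TensorProduct.sub_tmul, ← TensorProduct.smul_tmul',
        ← TensorProduct.smul_tmul', ← TensorProduct.smul_tmul',
        show (z : Q) ⊗ₜ[A] (1 : K) = (LinearMap.ker d).subtype.rTensor K (z ⊗ₜ 1) from rfl,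
        show a p ⊗ₜ[A] (1 : K) = a.rTensor K (p ⊗ₜ 1) from rfl, ← hz, ← hp, map_smul, map_smul, hw]
      module
    refine ⟨c₁ * c₂ * c, by simp [hc, hc₁, hc₂], ?_⟩
    rw [show (c₁ * c₂ * c) • v = (c₂ • (z : Q) + c₁ • a p + (c₁ * c₂) • s (d v)) +
      ((c₁ * c₂) • u - c₂ • (z : Q) - c₁ • a p) from by simp only [u]; module]
    refine Submodule.add_mem_sup ?_ (mem_smul_top_of_tmul_eq_zero h0)
    refine S.add_mem (S.add_mem ?_ ?_) ?_
    · exact S.smul_mem _ (Submodule.mem_sup_left z.2)
    · exact S.smul_mem _ (Submodule.mem_sup_left (LinearMap.congr_fun hda p))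
    · exact S.smul_mem _ (Submodule.mem_sup_right ⟨v, rfl⟩)
  obtain ⟨e, he, he'⟩ := exists_uniform _ H
  obtain ⟨g, hg, hg'⟩ := Nakayama.exists_smul_eq_zero (M := Q ⧸ S) x e he fun v => by
    obtain ⟨v, rfl⟩ := S.mkQ_surjective v
    rw [← map_smul]
    obtain ⟨y, hy, z, hz, hyz⟩ := Submodule.mem_sup.1 (he' v)
    rw [← hyz, map_add, show S.mkQ y = 0 from (Submodule.Quotient.mk_eq_zero S).2 hy, zero_add]
    have := Submodule.mem_map_of_mem (f := S.mkQ) hz
    rwa [Submodule.map_smul'', Submodule.map_top, Submodule.range_mkQ] at this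
  let N := LinearMap.range d
  haveI : Module.Finite A N := Module.Finite.range d
  let φ : Module.End A N := LinearMap.restrict (d ∘ₗ s) fun v _ => LinearMap.mem_range_self d (s v)
  have hφ : ∀ n : N, ∃ w : N, φ w = g • n := by
    rintro ⟨_, v, rfl⟩
    have hv : g • v ∈ S := (Submodule.Quotient.mk_eq_zero S).1 (hg' (S.mkQ v))
    obtain ⟨z, hz, _, ⟨l, rfl⟩, hzl⟩ := Submodule.mem_sup.1 hv
    refine ⟨⟨d l, LinearMap.mem_range_self d l⟩, Subtype.ext ?_⟩
    show d (s (d l)) = g • d v
    rw [← map_smul, ← hzl, map_add, show d z = 0 from hz, zero_add]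
    rfl
  obtain ⟨n, q, hq⟩ := Nakayama.exists_pow_smul_eq φ g hφ
  refine ⟨g ^ n, by simpa [map_pow, x] using pow_ne_zero n (show algebraMap A K g ≠ 0 from hg),
    s ∘ₗ Polynomial.aeval (d ∘ₗ s : Module.End A R) q, LinearMap.ext fun v => ?_⟩
  have h1 := congrArg Subtype.val (hq ⟨d v, LinearMap.mem_range_self d v⟩)
  refine Eq.trans ?_ h1.symm
  show d (s (Polynomial.aeval (d ∘ₗ s : Module.End A R) q (d v))) = d (s _)
  congr 2
  exact coe_aeval_restrict (d ∘ₗ s) φ (fun _ => rfl) q ⟨d v, LinearMap.mem_range_self d v⟩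

/-- Vanishing at a point: both differentials split and the homology is killed near the point. -/
theorem split_of_exact [Module.Finite A Q] [Module.Free A Q] [Module.Finite A R] [Module.Free A R]
    (hK : IsFrac A K) (hda : d ∘ₗ a = 0)
    (he : ∀ w : Q ⊗[A] K, d.rTensor K w = 0 → w ∈ LinearMap.range (a.rTensor K)) :
    ∃ h : A, algebraMap A K h ≠ 0 ∧ IsSplit d h ∧ IsSplit a h ∧
      ∀ z : Q, d z = 0 → h • z ∈ LinearMap.range a := by
  let x := RingHom.ker (algebraMap A K)
  haveI : x.IsPrime := RingHom.ker_isPrime _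
  obtain ⟨h, hh, hsp⟩ := split_of_surj hK hda (a := a) fun w hw => ⟨0, by simpa using he w hw⟩
  obtain ⟨s, hs⟩ := hsp
  let π : Q →ₗ[A] Q ⧸ LinearMap.range a := (LinearMap.range a).mkQ ∘ₗ (LinearMap.ker d).subtype ∘ₗ proj s hs
  let N := LinearMap.range π
  haveI : Module.Finite A N := Module.Finite.range π
  have H : ∀ v : N, ∃ e : A, algebraMap A K e ≠ 0 ∧ e • v ∈ x • (⊤ : Submodule A N) := by
    rintro ⟨_, l, rfl⟩
    let u : Q := (proj s hs l : Q)
    have hdu : d u = 0 := (proj s hs l).2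
    obtain ⟨w, hw⟩ := he (u ⊗ₜ (1 : K)) (by rw [LinearMap.rTensor_tmul, hdu, TensorProduct.zero_tmul])
    obtain ⟨p, c, hc, hp⟩ := exists_smul_eq_tmul hK w
    have h0 : (c • u - a p) ⊗ₜ[A] (1 : K) = 0 := by
      rw [TensorProduct.sub_tmul, ← TensorProduct.smul_tmul',
        show a p ⊗ₜ[A] (1 : K) = a.rTensor K (p ⊗ₜ 1) from rfl, ← hp, map_smul, hw, sub_self]
    refine ⟨h * c, by simp [hh, hc], ?_⟩
    have hmem := Submodule.mem_map_of_mem (f := π.rangeRestrict) (mem_smul_top_of_tmul_eq_zero h0)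
    rw [Submodule.map_smul'', Submodule.map_top, LinearMap.range_rangeRestrict] at hmem
    convert hmem using 1
    apply Subtype.ext
    show (h * c) • π l = π (c • u - a p)
    have hap : π (a p) = 0 := by
      show (LinearMap.range a).mkQ (proj s hs (a p) : Q) = 0
      rw [proj_cycle s hs (LinearMap.congr_fun hda p), map_smul,
        show (LinearMap.range a).mkQ (a p) = 0 from (Submodule.Quotient.mk_eq_zero _).2 ⟨p, rfl⟩,
        smul_zero]
    rw [map_sub, hap, sub_zero, map_smul]
    show _ = c • (LinearMap.range a).mkQ (proj s hs u : Q)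
    rw [proj_cycle s hs hdu, map_smul, mul_comm, mul_smul]
    rfl
  obtain ⟨e, he, he'⟩ := exists_uniform _ H
  obtain ⟨g, hg, hg'⟩ := Nakayama.exists_smul_eq_zero (M := N) x e he he'
  have hP : ∀ l, g • (proj s hs l : Q) ∈ LinearMap.range a := fun l => by
    have := congrArg Subtype.val (hg' ⟨π l, l, rfl⟩)
    exact (Submodule.Quotient.mk_eq_zero _).1 ((map_smul (LinearMap.range a).mkQ _ _).trans this)
  obtain ⟨s', hs'⟩ := Module.projective_lifting_property a.rangeRestrict
    (LinearMap.codRestrict (LinearMap.range a) (g • ((LinearMap.ker d).subtype ∘ₗ proj s hs)) hP)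
    a.surjective_rangeRestrict
  refine ⟨g * h, by simpa [hh, x] using (show algebraMap A K g ≠ 0 from hg),
    IsSplit.mul_left ⟨s, hs⟩ g, ⟨s', LinearMap.ext fun p => ?_⟩, fun z hz => ?_⟩
  · have h1 : a (s' (a p)) = g • (proj s hs (a p) : Q) :=
      congrArg Subtype.val (LinearMap.congr_fun hs' (a p))
    rw [proj_cycle s hs (LinearMap.congr_fun hda p), smul_smul] at h1
    exact h1
  · rw [mul_smul, ← proj_cycle s hs hz]
    exact hP z

end Field

end Groth.Agent.H54.BCX.Split
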