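import Groth.Agent.H54.BCX.Main
import Groth.Agent.Lib.CohDelta.Res
import Groth.Agent.Lib.QCoh.Pushforward

/-!
# Cohomology and base change for the direct image itself
-/

set_option autoImplicit false
set_option linter.style.haveILetI false
set_option maxHeartbeats 1000000
universe u

open CategoryTheory Limits AlgebraicGeometry AlgebraicGeometry.Scheme.Modules Opposite TopologicalSpace
open CategoryTheory.Abelian
open Groth.Agent.Lib Groth.Agent.Lib.ZarCoh.Basic Groth.Agent.Lib.ZarCoh.Compare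
open ZarCoh.Exchange.Complex
open scoped TensorProduct

namespace Groth.Agent.H54.BCX.Zero

noncomputable section

attribute [local instance] Pair.overOpen

variable {X S X' S' : Scheme.{u}} {f : X ⟶ S} {g : S' ⟶ S} {f' : X' ⟶ S'} {g' : X' ⟶ X}

/-- Pullback of the class of a section. -/
theorem pullOn_sectH0 (g : X' ⟶ X) {U : X.Opens} {U' : X'.Opens} (h : U' ≤ g ⁻¹ᵁ U) (M : X.Modules)
    (s : Γ(M, U)) :
    CohPull.pullOn g U U' h M 0 (CohPull.sectH0 M U s) =
      CohPull.sectH0 ((Scheme.Modules.pullback g).obj M) U'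
        (_root_.ZarCoh.FlatBC.PullbackSections.pbRes g M h s) := by
  apply (CohDelta.Basic.hU ((Scheme.Modules.pullback g).obj M) U' 0).injective
  rw [CohDelta.BC.PullOn.hU_pullOn, CohDelta.Basic.hU_sectH0, CohDelta.Basic.hU_sectH0,
    CohDelta.BC.PushCls.along_mk₀]
  refine (rs_mk₀ _ h _).trans (congrArg Ext.mk₀ ?_)
  apply (homEquiv U' _).injective
  rw [homEquiv_res, Equiv.apply_symm_apply, Equiv.apply_symm_apply]
  exact congrArg (fun t => ((Scheme.Modules.pullback g).obj M).presheaf.map (homOfLE h).op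
    (((pullbackPushforwardAdjunction g).unit.app M).app U t)) ((homEquiv U (Coh.toAb M)).apply_symm_apply s)

/-- The class of a multiple of a section. -/
theorem sectH0_smul (f : X ⟶ S) (V : S.Opens) (F : X.Modules) (a : Γ(S, V))
    (s : Γ((Scheme.Modules.pushforward f).obj F, V)) :
    CohPull.sectH0 F (f ⁻¹ᵁ V) (a • s) =
      (Coh.toGlobal (A := Γ(S, V)) (Affine.p₀ f V) a : Coh.Γtop ((f ⁻¹ᵁ V : X.Opens) : Scheme.{u})) •
        CohPull.sectH0 F (f ⁻¹ᵁ V) s := by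
  let U : X.Opens := f ⁻¹ᵁ V
  let E₀ := Sheaf.H.equiv₀ (Coh.toAb (F.restrict U.ι)) (isTerminalTop : IsTerminal (⊤ : U.toScheme.Opens))
  apply E₀.injective
  refine (E₀.apply_symm_apply _).trans ?_
  show _ = E₀ (Sheaf.H.map (Coh.smulAb (F.restrict U.ι) _) 0 _)
  rw [← Sheaf.H.equiv₀_naturality]
  refine Eq.trans ?_ (congrArg _ (E₀.apply_symm_apply _)).symm
  refine Eq.trans ?_ (Coh.smulAb_app _ _ _ _).symm
  refine Eq.trans ?_ (OpenSec.restrict_smul F (⊤ : U.toScheme.Opens) _ _).symm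
  refine ((F.map_smul (eqToHom U.ι_image_top) _ _)).trans ?_
  congr 1
  rw [Affine.toGlobal_p₀]
  show (f.app V ≫ X.presheaf.map _).hom a = (S.presheaf.map (homOfLE V.ι_image_top.le).op ≫
    (f ∣_ V).app ⊤ ≫ (U : Scheme.{u}).presheaf.map _).hom a
  refine congrArg (fun k : Γ(S, V) ⟶ Γ(X, U.ι ''ᵁ ⊤) => k.hom a) ?_
  rw [morphismRestrict_app]
  show _ = S.presheaf.map _ ≫ f.app (V.ι ''ᵁ ⊤) ≫ X.presheaf.map _ ≫ X.presheaf.map _
  rw [f.naturality_assoc]
  show _ = _ ≫ X.presheaf.map _ ≫ X.presheaf.map _ ≫ X.presheaf.map _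
  simp only [← Functor.map_comp]
  rfl

/-- Sections as classes, linearly. -/
def secEquiv (f : X ⟶ S) (V : S.Opens) (F : X.Modules) :
    Γ((Scheme.Modules.pushforward f).obj F, V) ≃ₗ[Γ(S, V)]
      Coh.HH ((f ⁻¹ᵁ V : X.Opens) : Scheme.{u}) (F.restrict (f ⁻¹ᵁ V).ι) 0 :=
  { CohPull.sectH0 F (f ⁻¹ᵁ V) with
    map_smul' := fun a s => sectH0_smul f V F a s }

theorem secEquiv_apply (f : X ⟶ S) (V : S.Opens) (F : X.Modules)
    (s : Γ((Scheme.Modules.pushforward f).obj F, V)) :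
    secEquiv f V F s = CohPull.sectH0 F (f ⁻¹ᵁ V) s := rfl

variable {V : S.Opens} {W : S'.Opens} (h : IsPullback g' f' f g) (e : W ≤ g ⁻¹ᵁ V)
  (hV : IsAffineOpen V) (hW : IsAffineOpen W) (F : X.Modules)

/-- The base change map on pulled back sections. -/
theorem bc0_pbRes (s : Γ((Scheme.Modules.pushforward f).obj F, V)) :
    (CohBC.bc0 f g f' g' h.w F).app W
        (_root_.ZarCoh.FlatBC.PullbackSections.pbRes g ((Scheme.Modules.pushforward f).obj F) e s) =
      _root_.ZarCoh.FlatBC.PullbackSections.pbRes g' F (Affine.preimage_le (w := h.w) e)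
        (show Γ(F, f ⁻¹ᵁ V) from s) := by
  refine (CohDelta.BC.Transpose.transpose_pbRes g (CohBC.bc0Adj f g f' g' h.w F) e s).trans ?_
  simp only [CohBC.bc0Adj, Scheme.Modules.Hom.comp_app, ConcreteCategory.comp_apply]
  show ((Scheme.Modules.pullback g').obj F).presheaf.map _
    (((Scheme.Modules.pullback g').obj F).presheaf.map _
      (((pullbackPushforwardAdjunction g').unit.app F).app (f ⁻¹ᵁ V) s)) =
    ((Scheme.Modules.pullback g').obj F).presheaf.map _
      (((pullbackPushforwardAdjunction g').unit.app F).app (f ⁻¹ᵁ V) s)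
  rw [← ConcreteCategory.comp_apply, ← Functor.map_comp]
  rfl

theorem diagram :
    letI := Pair.alg g e
    ∀ z : Γ(S', W) ⊗[Γ(S, V)] Coh.HH ((f ⁻¹ᵁ V : X.Opens) : Scheme.{u}) (F.restrict (f ⁻¹ᵁ V).ι) 0,
    CohPull.sectH0 ((Scheme.Modules.pullback g').obj F) (f' ⁻¹ᵁ W)
      ((CohBC.bc0 f g f' g' h.w F).app W (_root_.ZarCoh.FlatBC.PullbackSections.pbTensor g
        ((Scheme.Modules.pushforward f).obj F) e ((secEquiv f V F).symm.toLinearMap.lTensor Γ(S', W) z))) =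
      CohPull.mapH (CohPull.pullOnIso g' (f ⁻¹ᵁ V) (f' ⁻¹ᵁ W) (Affine.preimage_le (w := h.w) e) F).hom 0
          (Pair.Φ h e hV hW F 0 z) := by
  letI := Pair.alg g e
  intro z
  induction z using TensorProduct.induction_on with
  | zero => simp only [map_zero]; exact map_zero _
  | tmul b x =>
    rw [LinearMap.lTensor_tmul, _root_.ZarCoh.FlatBC.PullbackSections.pbTensor_tmul,
      Scheme.Modules.Hom.app_smul, Pair.Φ_tmul h e hV hW F]
    rw [show (b • CohPull.pullMod (Pair.gW h e) (F.restrict (f ⁻¹ᵁ V).ι) 0 x) =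
      (Coh.toGlobal (A := Γ(S', W)) (Affine.p₀ f' W) b : Coh.Γtop _) •
        CohPull.pullMod (Pair.gW h e) (F.restrict (f ⁻¹ᵁ V).ι) 0 x from rfl, Affine.mapH_pullOnIso_smul]
    refine (sectH0_smul f' W ((Scheme.Modules.pullback g').obj F) b _).trans ?_
    refine congrArg ((Coh.toGlobal (A := Γ(S', W)) (Affine.p₀ f' W) b : Coh.Γtop _) • ·) ?_
    rw [bc0_pbRes h e F]
    refine (pullOn_sectH0 g' _ F _).symm.trans ?_
    show CohPull.pullOn g' _ _ _ F 0 (secEquiv f V F ((secEquiv f V F).symm x)) = _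
    rw [LinearEquiv.apply_symm_apply]
    rfl
  | add z z' hz hz' => simp only [map_add]; exact (map_add _ _ _).trans (congrArg₂ (· + ·) hz hz')

variable [QuasiCompact f] [IsSeparated f] [F.IsQuasicoherent]

include hV hW in
/-- The base change map on the pair, factored through `Φ`. -/
theorem exists_factor :
    letI := Pair.alg g e
    ∃ (α : Γ(S', W) ⊗[Γ(S, V)] Coh.HH ((f ⁻¹ᵁ V : X.Opens) : Scheme.{u}) (F.restrict (f ⁻¹ᵁ V).ι) 0 →
        Γ((Scheme.Modules.pullback g).obj ((Scheme.Modules.pushforward f).obj F), W))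
      (β : Coh.HH ((f' ⁻¹ᵁ W : X'.Opens) : Scheme.{u})
          ((Scheme.Modules.pullback (Pair.gW h e)).obj (F.restrict (f ⁻¹ᵁ V).ι)) 0 →
        Γ((Scheme.Modules.pushforward f').obj ((Scheme.Modules.pullback g').obj F), W)),
      Function.Bijective α ∧ Function.Bijective β ∧
        (⇑((CohBC.bc0 f g f' g' h.w F).app W) ∘ α = β ∘ ⇑(Pair.Φ h e hV hW F 0)) := by
  letI := Pair.alg g e
  haveI : ((Scheme.Modules.pushforward f).obj F).IsQuasicoherent := QCoh.Pushforward.isQCoh_pushforward f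
  refine ⟨_, fun y => (CohPull.sectH0 ((Scheme.Modules.pullback g').obj F) (f' ⁻¹ᵁ W)).symm
      (CohPull.mapH (CohPull.pullOnIso g' (f ⁻¹ᵁ V) (f' ⁻¹ᵁ W) (Affine.preimage_le (w := h.w) e) F).hom 0 y),
    (_root_.ZarCoh.FlatBC.PullbackSections.bijective_pbTensor g ((Scheme.Modules.pushforward f).obj F) hV hW e).comp
      ((secEquiv f V F).symm.lTensor Γ(S', W)).bijective,
    (AddEquiv.bijective _).comp (Affine.mapH_bijective _ 0), funext fun z => ?_⟩
  refine (AddEquiv.eq_symm_apply _).2 ?_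
  exact diagram h e hV hW F z

variable {ι : Type u} [Finite ι] (U : ι → ((f ⁻¹ᵁ V : X.Opens) : Scheme.{u}).Opens)
  (hU : ∀ {q : ℕ} (i : Fin (q + 1) → ι), IsAffineOpen (Groth.Agent.Lib.Cech.Complex.inter U i))
  (hcov : iSup U = ⊤)

include h hV hW hU hcov in
/-- Surjectivity of the base change map on the pair. -/
theorem surjective_iff {i k : ℤ} (hi : i + 1 = ((0 : ℕ) : ℤ)) (hk : ((0 : ℕ) : ℤ) + 1 = k) :
    letI := Pair.alg g e
    Function.Surjective ((CohBC.bc0 f g f' g' h.w F).app W) ↔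
      Split.Surj (Transfer.dl (C Γ(S, V) U (F.restrict (f ⁻¹ᵁ V).ι)) i ((0 : ℕ) : ℤ))
        (Transfer.dl (C Γ(S, V) U (F.restrict (f ⁻¹ᵁ V).ι)) ((0 : ℕ) : ℤ) k) Γ(S', W) := by
  letI := Pair.alg g e
  letI := Pair.overOpen f' W
  haveI : IsAffineHom (Pair.gW h e) :=
    _root_.ZarCoh.FlatBC.Main.isAffineHom_fst (Pair.isPullback_gW h e hV hW)
  obtain ⟨α, β, hα, hβ, he⟩ := exists_factor h e hV hW F
  obtain ⟨Cmp⟩ := ProjCoh.CechNat.nonempty_comparison U hcov 0
  refine Iff.trans ?_ (Square.surjective_iff (A' := Γ(S', W)) (g' := Pair.gW h e) U _ hU Cmp hk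
    (Pair.isPullback_gW h e hV hW) (Pair.Φ h e hV hW F 0) (Pair.Φ_tmul h e hV hW F 0) hi)
  rw [← Function.Surjective.of_comp_iff _ hα.2, he, Function.Surjective.of_comp_iff' hβ]

include h hV hW hU hcov in
/-- Bijectivity of the base change map on the pair. -/
theorem bijective_of {i k : ℤ} (hi : i + 1 = ((0 : ℕ) : ℤ)) (hk : ((0 : ℕ) : ℤ) + 1 = k)
    (hs : letI := Pair.alg g e
      Split.Surj (Transfer.dl (C Γ(S, V) U (F.restrict (f ⁻¹ᵁ V).ι)) i ((0 : ℕ) : ℤ))
        (Transfer.dl (C Γ(S, V) U (F.restrict (f ⁻¹ᵁ V).ι)) ((0 : ℕ) : ℤ) k) Γ(S', W))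
    (hj : letI := Pair.alg g e
      Split.Inj (Transfer.dl (C Γ(S, V) U (F.restrict (f ⁻¹ᵁ V).ι)) i ((0 : ℕ) : ℤ))
        (Transfer.dl (C Γ(S, V) U (F.restrict (f ⁻¹ᵁ V).ι)) ((0 : ℕ) : ℤ) k)
        (Transfer.dl_dl (C Γ(S, V) U (F.restrict (f ⁻¹ᵁ V).ι)) i ((0 : ℕ) : ℤ) k) Γ(S', W)) :
    Function.Bijective ((CohBC.bc0 f g f' g' h.w F).app W) := by
  letI := Pair.alg g e
  letI := Pair.overOpen f' W
  haveI : IsAffineHom (Pair.gW h e) :=
    _root_.ZarCoh.FlatBC.Main.isAffineHom_fst (Pair.isPullback_gW h e hV hW)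
  obtain ⟨α, β, hα, hβ, he⟩ := exists_factor h e hV hW F
  obtain ⟨Cmp⟩ := ProjCoh.CechNat.nonempty_comparison U hcov 0
  refine (Function.Bijective.of_comp_iff _ hα).1 (he ▸ hβ.comp ⟨?_, ?_⟩)
  · exact Square.injective_of (A' := Γ(S', W)) (g' := Pair.gW h e) U _ hU Cmp hk
      (Pair.isPullback_gW h e hV hW) (Pair.Φ h e hV hW F 0) (Pair.Φ_tmul h e hV hW F 0) hi hj
  · exact (Square.surjective_iff (A' := Γ(S', W)) (g' := Pair.gW h e) U _ hU Cmp hk
      (Pair.isPullback_gW h e hV hW) (Pair.Φ h e hV hW F 0) (Pair.Φ_tmul h e hV hW F 0) hi).2 hs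

end

end Groth.Agent.H54.BCX.Zero
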