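import Groth.Agent.H54.BCX.Zero

/-!
# The criterion for the direct image
-/

set_option autoImplicit false
set_option linter.style.haveILetI false
set_option maxHeartbeats 1000000
universe u

open CategoryTheory Limits AlgebraicGeometry AlgebraicGeometry.Scheme.Modules Opposite TopologicalSpace
open scoped TensorProduct
open Groth.Agent.Lib

namespace Groth.Agent.H54.BCX.ZeroCrit

noncomputable section

attribute [local instance] Pair.overOpen

variable {X S : Scheme.{u}} {f : X ⟶ S} {F : X.Modules} {V : S.Opens} [F.IsQuasicoherent] [IsProper f]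

/-- Splitting near every image point gives base change. -/
theorem isIso_bc0 {X' S' : Scheme.{u}} {g' : X' ⟶ X} {f' : X' ⟶ S'} {g : S' ⟶ S}
    (hq : IsPullback g' f' f g)
    (H : ∀ z : S', ∃ (V : S.Opens) (_ : IsAffineOpen V) (D : Crit.Dat f F V), Crit.Sp D ((0 : ℕ) : ℤ) (g z)) :
    IsIso (CohBC.bc0 f g f' g' hq.w F) := by
  refine CohDelta.BC.Transpose.isIso_of_bijective_basis _
    (B := {W | ∃ (V : S.Opens) (_ : IsAffineOpen V) (D : Crit.Dat f F V) (a : Γ(S, V)),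
      Split.IsSplit (Transfer.dl D.L ((0 : ℕ) : ℤ) (((0 : ℕ) : ℤ) + 1)) a ∧ IsAffineOpen W ∧
        W ≤ g ⁻¹ᵁ S.basicOpen a}) ?_ ?_
  · refine Opens.isBasis_iff_nbhd.2 fun {O x} hx => ?_
    obtain ⟨V, hV, D, a, ha, hsp⟩ := H x
    obtain ⟨W, hW, hxW, hle⟩ := exists_isAffineOpen_mem_and_subset
      (U := O ⊓ g ⁻¹ᵁ S.basicOpen a) (x := x) ⟨hx, ha⟩
    exact ⟨W, ⟨V, hV, D, a, hsp, hW, fun y hy => (hle hy).2⟩, hxW, fun y hy => (hle hy).1⟩
  · rintro W ⟨V, hV, D, a, hsp, hW, hle⟩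
    have e : W ≤ g ⁻¹ᵁ V := hle.trans (g.preimage_mono (S.basicOpen_le a))
    letI := Pair.alg g e
    haveI := D.finite
    have hM : Function.Bijective fun m : Γ(S', W) => a • m := Crit.smul_bijective g a hle
    exact Zero.bijective_of hq e hV hW F D.U D.hU D.hcov (i := ((0 : ℕ) : ℤ) - 1) (by omega) rfl
      (Loc.surj_C D (by omega) rfl hsp hM) (Loc.inj_C D (by omega) rfl hsp hM)

/-- Surjectivity at a point splits near it. -/
theorem sp_of_epi {s : S} (hV : IsAffineOpen V) (D : Crit.Dat f F V) (hs : s ∈ V)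
    (h : Epi (CohBC.bc0 f (S.fromSpecResidueField s) (f.fiberToSpecResidueField s) (f.fiberι s)
      (f.fiber_fac s) F)) :
    Crit.Sp D ((0 : ℕ) : ℤ) s := by
  let g := S.fromSpecResidueField s
  have e : (⊤ : (Spec (S.residueField s)).Opens) ≤ g ⁻¹ᵁ V := fun z _ => by
    show g z ∈ V
    rwa [Scheme.fromSpecResidueField_apply]
  letI := Pair.alg g e
  haveI := D.finite
  haveI := h
  have hsur := Crit.surjective_top_of_epi (K := S.residueField s)
    (CohBC.bc0 f (S.fromSpecResidueField s) (f.fiberToSpecResidueField s) (f.fiberι s) (f.fiber_fac s) F)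
  exact Crit.sp_of_surj 0 hV D hs e <| (Zero.surjective_iff (IsPullback.of_hasPullback f g) e hV
    (isAffineOpen_top _) F D.U D.hU D.hcov (i := ((0 : ℕ) : ℤ) - 1) (k := ((0 : ℕ) : ℤ) + 1) (by omega) rfl).1 hsur

/-- The direct image is locally free where the first differential splits. -/
theorem isFinLocFree_basicOpen (hV : IsAffineOpen V) (D : Crit.Dat f F V) (a : Γ(S, V))
    (h1 : Split.IsSplit (Transfer.dl D.L ((0 : ℕ) : ℤ) (((0 : ℕ) : ℤ) + 1)) a)
    (h2 : Split.IsSplit (Transfer.dl D.L (((0 : ℕ) : ℤ) - 1) ((0 : ℕ) : ℤ)) a) :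
    FlatMod.IsFinLocFree (((Coh.push f).obj F).restrict (S.basicOpen a).ι) := by
  haveI : ((Scheme.Modules.pushforward f).obj F).IsQuasicoherent := QCoh.Pushforward.isQCoh_pushforward f
  refine OpenSec.isFinLocFree_restrict _ fun x hx => ?_
  refine ⟨S.basicOpen a, hV.basicOpen a, hx, le_rfl, ?_⟩
  letI := Pair.overOpen f V
  haveI := (D.hfree ((0 : ℕ) : ℤ)).1
  haveI := (D.hfree ((0 : ℕ) : ℤ)).2
  obtain ⟨j, π, hπ⟩ := Split.retract (Transfer.dl_dl D.L (((0 : ℕ) : ℤ) - 1) ((0 : ℕ) : ℤ) (((0 : ℕ) : ℤ) + 1)) h1 h2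
  obtain ⟨e₁⟩ := Loc.nonempty_HH D (p := 0) (i := ((0 : ℕ) : ℤ) - 1) (k := ((0 : ℕ) : ℤ) + 1) (by omega) rfl
  let e := (Zero.secEquiv f V F).trans e₁
  refine OpenSec.projective_basicOpen _ hV a (j ∘ₗ e.toLinearMap) (e.symm.toLinearMap ∘ₗ π) (N := 2)
    fun v => ?_
  simp only [LinearMap.comp_apply, LinearEquiv.coe_coe, hπ, LinearEquiv.map_smul, LinearEquiv.symm_apply_apply,
    pow_two]

end

end Groth.Agent.H54.BCX.ZeroCrit
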